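import Groth.Agent.H9Popescu.Popescu
import Groth.Agent.H9Hens.Newton
import Groth.Agent.H9Hens.PairOps
import Groth.Agent.H05EGA4.Regular2
import Groth.Agent.H05EGA4.CTensor

/-!
# Approximation for henselian pairs with regular completion map
-/

set_option autoImplicit false
set_option linter.style.haveILetI false

universe u

namespace Groth.Agent.H9Popescu

/-- Algebra maps to the completion are approximated by maps to the ring. -/
theorem exists_approximation {A : Type u} [CommRing A] [IsNoetherianRing A] (I : Ideal A) [HenselianRing A I]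
    (hreg : CAlg.IsRegularHom A (AdicCompletion I A)) {B : Type u} [CommRing B] [Algebra A B]
    [Algebra.FinitePresentation A B] (f : B →ₐ[A] AdicCompletion I A) (N : ℕ) :
    ∃ g : B →ₐ[A] A, ∀ x, AdicCompletion.evalₐ I N (f x) = Ideal.Quotient.mk (I ^ N) (g x) := by
  haveI : IsNoetherianRing (AdicCompletion I A) := H05EGA4.isNoetherianRing_adicCompletion A I
  obtain ⟨C, _, _, hC, g₁, h, hgh⟩ := popescu hreg B inferInstance f
  haveI := hC
  haveI : HenselianRing A (I ^ (N + 1)) := H9Hens.henselianRing_of_le (J := I) (Ideal.pow_le_self N.succ_ne_zero)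
  obtain ⟨τ, hτ⟩ := H9Hens.exists_algHom_lift_smooth ((AdicCompletion.evalₐ I (N + 1)).comp h)
  refine ⟨τ.comp g₁, fun x => ?_⟩
  have h1 : Ideal.Quotient.mk (I ^ (N + 1)) (τ (g₁ x)) = AdicCompletion.evalₐ I (N + 1) (f x) := by
    rw [← hgh]
    exact AlgHom.congr_fun hτ (g₁ x)
  have h2 : f x - algebraMap A (AdicCompletion I A) (τ (g₁ x)) ∈
      (I.map (algebraMap A (AdicCompletion I A))) ^ (N + 1) :=
    (H05EGA4.AdicLim.ker_evalₐ (IsNoetherian.noetherian I) (N + 1) _).mp (by
      rw [map_sub, H05EGA4.AdicLim.evalₐ_algebraMap, ← h1, sub_self])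
  have h3 := (H05EGA4.AdicLim.ker_evalₐ (IsNoetherian.noetherian I) N _).mpr
    (Ideal.pow_le_pow_right N.le_succ h2)
  rw [map_sub, H05EGA4.AdicLim.evalₐ_algebraMap, sub_eq_zero] at h3
  exact h3

/-- Solutions of polynomial systems in the completion are approximated by solutions in the ring. -/
theorem exists_approximation_solution {A : Type u} [CommRing A] [IsNoetherianRing A] (I : Ideal A)
    [HenselianRing A I] (hreg : CAlg.IsRegularHom A (AdicCompletion I A)) {n m : ℕ}
    (F : Fin m → MvPolynomial (Fin n) A) (a : Fin n → AdicCompletion I A)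
    (ha : ∀ j, MvPolynomial.aeval a (F j) = 0) (N : ℕ) :
    ∃ b : Fin n → A, (∀ j, MvPolynomial.eval b (F j) = 0) ∧
      ∀ i, AdicCompletion.evalₐ I N (a i) = Ideal.Quotient.mk (I ^ N) (b i) := by
  classical
  let J : Ideal (MvPolynomial (Fin n) A) := Ideal.span (Set.range F)
  let B := MvPolynomial (Fin n) A ⧸ J
  haveI : Algebra.FinitePresentation A B :=
    Algebra.FinitePresentation.quotient (Submodule.fg_span (Set.finite_range _))
  let f : B →ₐ[A] AdicCompletion I A := Ideal.Quotient.liftₐ J (MvPolynomial.aeval a) fun z hz => by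
    refine (Ideal.span_le.2 ?_ : J ≤ RingHom.ker (MvPolynomial.aeval a)) hz
    rintro _ ⟨j, rfl⟩
    exact ha j
  obtain ⟨g, hg⟩ := exists_approximation I hreg f N
  refine ⟨fun i => g (Ideal.Quotient.mk J (MvPolynomial.X i)), fun j => ?_, fun i => ?_⟩
  · have h1 : g.comp (Ideal.Quotient.mkₐ A J) = MvPolynomial.aeval fun i => g (Ideal.Quotient.mk J (MvPolynomial.X i)) :=
      MvPolynomial.algHom_ext fun i => (MvPolynomial.aeval_X (fun i => g (Ideal.Quotient.mk J (MvPolynomial.X i))) i).symm
    rw [← MvPolynomial.aeval_eq_eval, ← h1]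
    show g (Ideal.Quotient.mk J (F j)) = 0
    rw [Ideal.Quotient.eq_zero_iff_mem.2 (Ideal.subset_span (Set.mem_range_self j)), map_zero]
  · rw [← hg]
    show AdicCompletion.evalₐ I N (a i) = AdicCompletion.evalₐ I N (MvPolynomial.aeval a (MvPolynomial.X i))
    rw [MvPolynomial.aeval_X]

/-- Elements with the same image in a quotient are congruent in the completion. -/
theorem sub_mem_map_pow {A : Type u} [CommRing A] [IsNoetherianRing A] (I : Ideal A) (N : ℕ)
    (x : AdicCompletion I A) (b : A) (h : AdicCompletion.evalₐ I N x = Ideal.Quotient.mk (I ^ N) b) :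
    x - algebraMap A (AdicCompletion I A) b ∈ (I ^ N).map (algebraMap A (AdicCompletion I A)) := by
  rw [Ideal.map_pow]
  refine (H05EGA4.AdicLim.ker_evalₐ (IsNoetherian.noetherian I) N _).mp ?_
  rw [map_sub, H05EGA4.AdicLim.evalₐ_algebraMap, h, sub_self]

end Groth.Agent.H9Popescu
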