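import Groth.Agent.H9Hens.PairHens
import Groth.Agent.H9Hens.Newton
import Groth.Agent.H1CAlg.IndEtale

/-!
Points of smooth algebras with values in a quotient of a localization lift to etale algebras.
-/

set_option autoImplicit false
set_option linter.style.haveILetI false
universe u

namespace Groth.Agent.H9Popescu

/-- A point of a smooth algebra with values in `k`, every element of `k` being a fraction from `A`,
factors through an etale algebra. -/
theorem exists_etale_of_smooth {A C k : Type u} [CommRing A] [CommRing C] [CommRing k] [Algebra A C]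
    [Algebra A k] [Algebra.Smooth A C]
    (hk : ∀ q : k, ∃ r s : A, IsUnit (algebraMap A k s) ∧ algebraMap A k s * q = algebraMap A k r)
    (φ : C →ₐ[A] k) :
    ∃ (A' : Type u) (_ : CommRing A') (_ : Algebra A A'), Algebra.Etale A A' ∧
      ∃ (ψ : A' →ₐ[A] k) (g : C →ₐ[A] A'), ψ.comp g = φ := by
  obtain ⟨H, _, _, π, hπ⟩ := H9Hens.exists_isPtColim A k
  have hsurj : Function.Surjective π := by
    intro q
    obtain ⟨r, s, hs, hq⟩ := hk q
    obtain ⟨u, hu⟩ := hπ.isUnit_of_isUnit (x := algebraMap A H s) (by rw [π.commutes]; exact hs)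
    refine ⟨algebraMap A H r * ↑u⁻¹, hs.mul_left_cancel ?_⟩
    rw [hq, map_mul, π.commutes]
    have h : π (u : H) * π ↑u⁻¹ = 1 := by rw [← map_mul, Units.mul_inv, map_one]
    rw [hu, π.commutes] at h
    linear_combination algebraMap A k r * h
  haveI := hπ.henselianRing
  let e : (H ⧸ RingHom.ker π) ≃ₐ[A] k := Ideal.quotientKerAlgEquivOfSurjective hsurj
  obtain ⟨τ, hτ⟩ := H9Hens.exists_algHom_lift_smooth_rel (R := A) (A := H) (I := RingHom.ker π)
    (e.symm.toAlgHom.comp φ)
  obtain ⟨E, _, _, hE, g, h, hgh⟩ := H1CAlg.IndEtale.factors_of_isIndEtale hπ.isIndEtale C τ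
  refine ⟨E, inferInstance, inferInstance, hE, π.comp h, g, AlgHom.ext fun x => ?_⟩
  have h1 := congrArg e (AlgHom.congr_fun hτ x)
  show π (h (g x)) = φ x
  rw [show h (g x) = τ x from AlgHom.congr_fun hgh x]
  exact h1.trans (e.apply_symm_apply (φ x))

end Groth.Agent.H9Popescu
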