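import Groth.Agent.H9Popescu.FPColim

/-!
Elements of the values of a finitary functor on `CommAlgCat` come from finitely presented algebras.
-/

set_option autoImplicit false
universe u

namespace Groth.Agent.H9Popescu

open CategoryTheory CategoryTheory.Limits

/-- The comparison between the two descriptions of an algebra. -/
def commAlgCatInverseObjIso {A : Type u} [CommRing A] (B : Type u) [CommRing B] [Algebra A B] :
    (commAlgCatEquivUnder (CommRingCat.of A)).inverse.obj (Under.mk (CommRingCat.ofHom (algebraMap A B))) ≅
      CommAlgCat.of A B :=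
  ((commAlgCatEquivUnder (CommRingCat.of A)).unitIso.app (CommAlgCat.of A B)).symm

/-- An element of `F B` comes from a finitely presented algebra mapping to `B`. -/
theorem exists_finitePresentation_of_preservesFilteredColimits {A : Type u} [CommRing A]
    (F : CommAlgCat.{u} A ⥤ Type u) [PreservesFilteredColimits F]
    (B : Type u) [CommRing B] [Algebra A B] (ξ : F.obj (CommAlgCat.of A B)) :
    ∃ (P : Type u) (_ : CommRing P) (_ : Algebra A P), Algebra.FinitePresentation A P ∧
      ∃ (g : P →ₐ[A] B) (η : F.obj (CommAlgCat.of A P)), F.map (CommAlgCat.ofHom g) η = ξ := by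
  obtain ⟨P, _, _, hP, g, η, hη⟩ := exists_finitePresentation_of_preservesColimits
    ((commAlgCatEquivUnder (CommRingCat.of A)).inverse ⋙ F) (fun J _ _ => inferInstance) B
    (F.map (commAlgCatInverseObjIso B).inv ξ)
  refine ⟨P, inferInstance, inferInstance, hP, algHomOfUnder g, F.map (commAlgCatInverseObjIso P).hom η, ?_⟩
  have h : (commAlgCatInverseObjIso P).hom ≫ CommAlgCat.ofHom (algHomOfUnder g) =
      (commAlgCatEquivUnder (CommRingCat.of A)).inverse.map g ≫ (commAlgCatInverseObjIso B).hom :=
    CommAlgCat.hom_ext (AlgHom.ext fun _ => rfl)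
  rw [← Functor.map_comp_apply, h, Functor.map_comp_apply]
  rw [show F.map ((commAlgCatEquivUnder (CommRingCat.of A)).inverse.map g) η = F.map (commAlgCatInverseObjIso B).inv ξ from hη,
    ← Functor.map_comp_apply, Iso.inv_hom_id]
  simp

end Groth.Agent.H9Popescu
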