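import Groth.Agent.H9Popescu.Lifting

/-!
# The lifting lemma: statement
-/

set_option linter.style.haveILetI false

universe u

open MvPolynomial

namespace Groth.Agent.H9Popescu

/-- Descending along a surjection. -/
theorem exists_descend {R A C B : Type u} [CommRing R] [CommRing A] [CommRing C] [Semiring B] [Algebra R A]
    [Algebra R C] [Algebra R B] (χ : A →ₐ[R] C) (hχ : Function.Surjective χ) (ψ₀ : A →ₐ[R] B)
    (h : ∀ x, χ x = 0 → ψ₀ x = 0) : ∃ ψ : C →ₐ[R] B, ∀ x, ψ (χ x) = ψ₀ x :=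
  ⟨(Ideal.Quotient.liftₐ _ ψ₀ fun x hx => h x hx).comp (Ideal.quotientKerAlgEquivOfSurjective hχ).symm.toAlgHom,
    fun x => by
      show (Ideal.Quotient.liftₐ (RingHom.ker χ) ψ₀ fun y hy => h y hy) ((Ideal.quotientKerAlgEquivOfSurjective hχ).symm (χ x)) = _
      rw [show χ x = Ideal.quotientKerAlgEquivOfSurjective hχ (Ideal.Quotient.mk _ x) from rfl,
        AlgEquiv.symm_apply_apply]
      rfl⟩

/-- The lifting lemma. -/
theorem lifting_lemma {R Λ C : Type u} [CommRing R] [IsNoetherianRing R] [CommRing Λ]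
    [Algebra R Λ] (π : R) (hR : ∀ r : R, π ^ 2 * r = 0 → π * r = 0)
    (hΛ : ∀ x : Λ, π ^ 2 • x = 0 → π • x = 0) [CommRing C] [Algebra R C]
    [Algebra (R ⧸ Ideal.span {π ^ 2}) C] [IsScalarTower R (R ⧸ Ideal.span {π ^ 2}) C]
    [Algebra.FinitePresentation (R ⧸ Ideal.span {π ^ 2}) C]
    (g : C →ₐ[R] Λ ⧸ Ideal.span {algebraMap R Λ (π ^ 2)}) :
    ∃ (D : Type u) (_ : CommRing D) (_ : Algebra R D), Algebra.FinitePresentation R D ∧
      ∃ (δ : D →ₐ[R] Λ) (ψ : C →ₐ[R] D ⧸ Ideal.span {algebraMap R D π}),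
        (∀ (c : C) (d : D) (l : Λ), Ideal.Quotient.mk (Ideal.span {algebraMap R D π}) d = ψ c →
          Ideal.Quotient.mk (Ideal.span {algebraMap R Λ (π ^ 2)}) l = g c →
            δ d - l ∈ Ideal.span {algebraMap R Λ π}) ∧
        (∀ (Q : Ideal D) [Q.IsPrime], algebraMap R D π ∉ Q → Algebra.IsSmoothAt R Q) ∧
        (∀ (Q : Ideal (D ⧸ Ideal.span {algebraMap R D π})) [Q.IsPrime],
          Algebra.IsSmoothAt (R ⧸ Ideal.span {π ^ 2}) (Q.comap ψ) →
            Algebra.IsSmoothAt R (Q.comap (Ideal.Quotient.mk (Ideal.span {algebraMap R D π})))) := by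
  classical
  let R₀ := R ⧸ Ideal.span {π ^ 2}
  obtain ⟨n, χ₀, hχ₀, hfg⟩ := Algebra.FinitePresentation.out (R := R₀) (A := C)
  obtain ⟨m, f₀, hf₀⟩ := Submodule.fg_iff_exists_fin_generating_family.mp hfg
  have hker₀ : RingHom.ker χ₀ = Ideal.span (Set.range f₀) := hf₀.symm
  let red : MvPolynomial (Fin n) R →ₐ[R] MvPolynomial (Fin n) R₀ :=
    MvPolynomial.mapAlgHom (Ideal.Quotient.mkₐ R (Ideal.span {π ^ 2}))
  have hred : Function.Surjective red := MvPolynomial.map_surjective _ Ideal.Quotient.mk_surjective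
  choose f hf using fun j => hred (f₀ j)
  have hkred : ∀ x, red x = 0 → x ∈ Ideal.span {(MvPolynomial.C (π ^ 2) : MvPolynomial (Fin n) R)} := fun x hx => by
    have : x ∈ RingHom.ker (MvPolynomial.map (σ := Fin n) (Ideal.Quotient.mk (Ideal.span {π ^ 2}))) := hx
    rwa [MvPolynomial.ker_map, Ideal.mk_ker, Ideal.map_span, Set.image_singleton] at this
  have hspan : ∀ {ι : Type} (v : ι → Fin m) (x : MvPolynomial (Fin n) R),
      red x ∈ Ideal.span (Set.range (f₀ ∘ v)) → x ∈ Ideal.span (Set.range (f ∘ v)) ⊔ Ideal.span {(MvPolynomial.C (π ^ 2) : MvPolynomial (Fin n) R)} := by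
    intro ι v x hx
    rw [show Set.range (f₀ ∘ v) = red '' Set.range (f ∘ v) by
      rw [← Set.range_comp]; exact congrArg Set.range (funext fun j => (hf (v j)).symm), ← Ideal.map_span,
      Ideal.mem_map_iff_of_surjective _ hred] at hx
    obtain ⟨x', hx', hxx⟩ := hx
    rw [show x = x' + (x - x') by ring]
    exact add_mem (Ideal.mem_sup_left hx') (Ideal.mem_sup_right (hkred _ (by rw [map_sub, hxx, sub_self])))
  let χ : MvPolynomial (Fin n) R →ₐ[R] C := (χ₀.restrictScalars R).comp red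
  have hχ : Function.Surjective χ := hχ₀.comp hred
  -- the map to `Λ`
  choose lam hlam using fun i => Ideal.Quotient.mk_surjective (g (χ (X i)))
  have hlam' : ∀ p, Ideal.Quotient.mk _ (aeval lam p) = g (χ p) := fun p => by
    refine DFunLike.congr_fun (show (Ideal.Quotient.mkₐ R _).comp (aeval lam) = g.comp χ from
      MvPolynomial.algHom_ext fun i => ?_) p
    simp [hlam]
  have hfμ : ∀ j, ∃ μ : Λ, aeval lam (f j) = algebraMap R Λ (π ^ 2) * μ := fun j => by
    have h : χ (f j) = 0 := by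
      show χ₀ (red (f j)) = 0
      rw [hf, ← RingHom.mem_ker, hker₀]
      exact Ideal.subset_span ⟨j, rfl⟩
    have h2 := hlam' (f j)
    rw [h, map_zero, Ideal.Quotient.eq_zero_iff_mem, Ideal.mem_span_singleton'] at h2
    obtain ⟨μ, hμ⟩ := h2
    exact ⟨μ, by rw [← hμ, mul_comm]⟩
  choose μ hμ using hfμ
  -- the algebra `D`
  let L := liftIdeal π f
  let D := MvPolynomial (Fin (n + m)) R ⧸ L
  let δ₀ : MvPolynomial (Fin (n + m)) R →ₐ[R] Λ := aeval (Fin.append lam fun j => algebraMap R Λ π * μ j)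
  have hδ₀ : ∀ p, δ₀ (oldX n m p) = aeval lam p := fun p => by
    refine DFunLike.congr_fun (show δ₀.comp (oldX n m) = aeval lam from MvPolynomial.algHom_ext fun i => ?_) p
    simp [δ₀]
  have hδz : ∀ j, δ₀ (X (Fin.natAdd n j)) = algebraMap R Λ π * μ j := fun j => by simp [δ₀]
  have hδL : L ≤ RingHom.ker δ₀.toRingHom := by
    refine Ideal.span_le.mpr ?_
    rintro _ (⟨j, rfl⟩ | ⟨a, b, hab, rfl⟩)
    · show δ₀ (liftEq π f j) = 0
      rw [liftEq, map_sub, hδ₀, hμ, map_mul, hδz, ← MvPolynomial.algebraMap_eq, δ₀.commutes, map_pow]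
      ring
    · show δ₀ (syzRel π a b) = 0
      have h1 : δ₀ (syzRel π a b) = algebraMap R Λ π * (∑ j, aeval lam (a j) * μ j - aeval lam b) := by
        simp only [syzRel, map_sub, map_sum, map_mul, hδ₀, hδz, ← MvPolynomial.algebraMap_eq, AlgHom.commutes,
          mul_sub, Finset.mul_sum]
        congr 1
        exact Finset.sum_congr rfl fun j _ => by ring
      rw [h1, ← Algebra.smul_def]
      refine hΛ _ ?_
      rw [Algebra.smul_def, mul_sub, Finset.mul_sum]
      have h2 := congrArg (aeval lam) hab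
      simp only [map_sum, map_mul, hμ, aeval_C] at h2
      rw [← h2]
      rw [sub_eq_zero]
      exact Finset.sum_congr rfl fun j _ => by ring
  let δ : D →ₐ[R] Λ := Ideal.Quotient.liftₐ L δ₀ fun x hx => hδL hx
  let J := Ideal.span {algebraMap R D π}
  let ψ₀ : MvPolynomial (Fin n) R →ₐ[R] D ⧸ J :=
    ((Ideal.Quotient.mkₐ R J).comp (Ideal.Quotient.mkₐ R L)).comp (oldX n m)
  have hπJ : ∀ x : MvPolynomial (Fin (n + m)) R, Ideal.Quotient.mk L (MvPolynomial.C π * x) ∈ J := fun x => by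
    rw [map_mul]
    exact Ideal.mul_mem_right _ _ (Ideal.subset_span rfl)
  have hψ₀ : ∀ x, χ x = 0 → ψ₀ x = 0 := fun x hx => by
    have h1 : red x ∈ Ideal.span (Set.range (f₀ ∘ (id : Fin m → Fin m))) := by
      rw [Function.comp_id, ← hker₀]
      exact hx
    have hle : Ideal.span (Set.range (f ∘ id)) ⊔ Ideal.span {(MvPolynomial.C (π ^ 2) : MvPolynomial (Fin n) R)} ≤ RingHom.ker ψ₀.toRingHom := by
      refine sup_le (Ideal.span_le.mpr ?_) (Ideal.span_le.mpr ?_)
      · rintro _ ⟨j, rfl⟩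
        show Ideal.Quotient.mk J (Ideal.Quotient.mk L (oldX n m (f j))) = 0
        rw [Ideal.Quotient.eq_zero_iff_mem, show oldX n m (f j) = liftEq π f j + MvPolynomial.C π * X (Fin.natAdd n j)
          by rw [liftEq]; ring, map_add, Ideal.Quotient.eq_zero_iff_mem.mpr (liftEq_mem π f j), zero_add]
        exact hπJ _
      · rintro _ rfl
        show Ideal.Quotient.mk J (Ideal.Quotient.mk L (oldX n m (MvPolynomial.C (π ^ 2)))) = 0
        rw [Ideal.Quotient.eq_zero_iff_mem, show oldX n m (MvPolynomial.C (π ^ 2)) = MvPolynomial.C π * MvPolynomial.C π by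
          simp [oldX, pow_two]]
        exact hπJ _
    exact hle (hspan id x h1)
  obtain ⟨ψ, hψ⟩ := exists_descend χ hχ ψ₀ hψ₀
  have hD : Algebra.FinitePresentation R D := Algebra.FinitePresentation.quotient (IsNoetherian.noetherian _)
  refine ⟨D, inferInstance, inferInstance, hD, δ, ψ, fun c d l hd hl => ?_, fun Q _ hQ => ?_, fun Q _ hsm => ?_⟩
  · obtain ⟨p, rfl⟩ := hχ c
    rw [hψ] at hd
    rw [← hlam'] at hl
    obtain ⟨e, he⟩ := Ideal.mem_span_singleton'.mp (Ideal.Quotient.eq.mp hd :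
      d - Ideal.Quotient.mk L (oldX n m p) ∈ J)
    obtain ⟨k, hk⟩ := Ideal.mem_span_singleton'.mp (Ideal.Quotient.eq.mp hl)
    rw [Ideal.mem_span_singleton']
    refine ⟨δ e - algebraMap R Λ π * k, ?_⟩
    have h1 := congrArg δ he
    rw [map_mul, δ.commutes, map_sub, show δ (Ideal.Quotient.mk L (oldX n m p)) = δ₀ (oldX n m p) from rfl, hδ₀] at h1
    rw [sub_mul, h1, mul_assoc, mul_comm k, ← mul_assoc, mul_comm (algebraMap R Λ π * algebraMap R Λ π) k,
      ← map_mul, ← pow_two, hk]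
    ring
  · exact isSmoothAt_liftIdeal_of_notMem π f (Ideal.Quotient.mkₐ R L) (Ideal.Quotient.mkₐ_surjective R L)
      (Ideal.Quotient.mkₐ_ker R L) Q hQ
  · haveI := hsm
    haveI : (Q.comap ψ).IsPrime := inferInstance
    obtain ⟨c, rows, cols, r₀, hr₀, hμ₀, hrK⟩ :=
      H9Smooth.exists_minor_of_isSmoothAt f₀ χ₀ hχ₀ hker₀ (Q.comap ψ)
    obtain ⟨r, rfl⟩ := hred r₀
    have hQ : ∀ x : MvPolynomial (Fin n) R, χ x ∉ Q.comap ψ →
        Ideal.Quotient.mk L (oldX n m x) ∉ Q.comap (Ideal.Quotient.mk J) := fun x hx hmem => hx (by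
      show ψ (χ x) ∈ Q
      rw [hψ]
      exact hmem)
    refine isSmoothAt_liftIdeal_of_minor π f hR rows cols r (fun j => hspan rows _ ?_)
      (Ideal.Quotient.mkₐ R L) (Ideal.Quotient.mkₐ_surjective R L) (Ideal.Quotient.mkₐ_ker R L) _
      (hQ r hr₀) (hQ _ ?_)
    · rw [map_mul, hf]
      exact hrK _ (hker₀ ▸ Ideal.subset_span ⟨j, rfl⟩)
    · show χ₀ (red (Smoothing.jacobianMinor f rows cols)) ∉ Q.comap ψ
      rw [Smoothing.jacobianMinor, AlgHom.map_det]
      rw [show red.mapMatrix (Matrix.of fun j k => pderiv (cols k) (f (rows j))) =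
          Matrix.of fun a b => pderiv (cols b) (f₀ (rows a)) from Matrix.ext fun a b => by
        show red (pderiv (cols b) (f (rows a))) = pderiv (cols b) (f₀ (rows a))
        rw [← hf]
        exact (pderiv_map).symm]
      exact hμ₀

end Groth.Agent.H9Popescu
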