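import Groth.Agent.H9Popescu.DesingularizeRel
import Groth.Agent.H9Popescu.LiftingLemma

/-!
# Desingularization of a lifted problem
-/

set_option linter.style.haveILetI false

universe u

namespace Groth.Agent.H9Popescu

theorem lifting_lemma_of_eq {R Λ C : Type u} [CommRing R] [IsNoetherianRing R] [CommRing Λ]
    [Algebra R Λ] (π : R) (hR : ∀ r : R, π ^ 2 * r = 0 → π * r = 0)
    (hΛ : ∀ x : Λ, π ^ 2 • x = 0 → π • x = 0) [CommRing C] [Algebra R C] (q : R) (hq : q = π ^ 2)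
    [Algebra (R ⧸ Ideal.span {q}) C] [IsScalarTower R (R ⧸ Ideal.span {q}) C]
    [Algebra.FinitePresentation (R ⧸ Ideal.span {q}) C]
    (g : C →ₐ[R] Λ ⧸ Ideal.span {algebraMap R Λ q}) :
    ∃ (D : Type u) (_ : CommRing D) (_ : Algebra R D), Algebra.FinitePresentation R D ∧
      ∃ (δ : D →ₐ[R] Λ) (ψ : C →ₐ[R] D ⧸ Ideal.span {algebraMap R D π}),
        (∀ (c : C) (d : D) (l : Λ), Ideal.Quotient.mk (Ideal.span {algebraMap R D π}) d = ψ c →
          Ideal.Quotient.mk (Ideal.span {algebraMap R Λ q}) l = g c →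
            δ d - l ∈ Ideal.span {algebraMap R Λ π}) ∧
        (∀ (Q : Ideal D) [Q.IsPrime], algebraMap R D π ∉ Q → Algebra.IsSmoothAt R Q) ∧
        (∀ (Q : Ideal (D ⧸ Ideal.span {algebraMap R D π})) [Q.IsPrime],
          Algebra.IsSmoothAt (R ⧸ Ideal.span {q}) (Q.comap ψ) →
            Algebra.IsSmoothAt R (Q.comap (Ideal.Quotient.mk (Ideal.span {algebraMap R D π})))) := by
  subst hq
  exact lifting_lemma π hR hΛ g

theorem lift_desingularize {R Λ A C : Type u} [CommRing R] [IsNoetherianRing R] [CommRing Λ]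
    [Algebra R Λ] (π : R) (hR : ∀ r : R, π ^ 2 * r = 0 → π * r = 0)
    (hΛ : ∀ x : Λ, π ^ 2 • x = 0 → π • x = 0) [CommRing A] [Algebra R A]
    [Algebra.FinitePresentation R A] (φ : A →ₐ[R] Λ)
    (hπ : Smoothing.IsStrictlyStandard R A (algebraMap R A π))
    [CommRing C] [Algebra R C] [Algebra (R ⧸ Ideal.span {π ^ 8}) C] [IsScalarTower R (R ⧸ Ideal.span {π ^ 8}) C]
    [Algebra.FinitePresentation (R ⧸ Ideal.span {π ^ 8}) C]
    (γ : A →ₐ[R] C) (g : C →ₐ[R] Λ ⧸ Ideal.span {algebraMap R Λ (π ^ 8)})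
    (hfac : ∀ a : A, g (γ a) = Ideal.Quotient.mk (Ideal.span {algebraMap R Λ (π ^ 8)}) (φ a)) :
    ∃ (B : Type u) (_ : CommRing B) (_ : Algebra R B), Algebra.FinitePresentation R B ∧
      ∃ (α : A →ₐ[R] B) (β : B →ₐ[R] Λ), β.comp α = φ ∧
        (∀ (Q : Ideal B) [Q.IsPrime], algebraMap R B π ∉ Q → Algebra.IsSmoothAt R Q) ∧
        (Smoothing.singularIdeal (R ⧸ Ideal.span {π ^ 8}) C).map g ≤
          ((Smoothing.singularIdeal R B).map β).radical.map (Ideal.Quotient.mk (Ideal.span {algebraMap R Λ (π ^ 8)})) := by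
  have hR' : ∀ r : R, (π ^ 4) ^ 2 * r = 0 → π ^ 4 * r = 0 := fun r hr => by
    have h := pow_smul_eq_zero (Λ := R) (π := π) (fun x hx => by
      rw [smul_eq_mul] at hx ⊢; exact hR x hx) 7 r (by rw [smul_eq_mul, ← hr]; ring)
    rw [smul_eq_mul] at h
    rw [pow_succ, mul_assoc, h, mul_zero]
  have hΛ' : ∀ x : Λ, (π ^ 4) ^ 2 • x = 0 → π ^ 4 • x = 0 := fun x hx => by
    have h := pow_smul_eq_zero hΛ 7 x (by rwa [← pow_mul] at hx)
    rw [pow_succ, mul_smul, h, smul_zero]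
  obtain ⟨D, _, _, hD, δ, ψ, hcompat, haway, hsm⟩ := lifting_lemma_of_eq (π ^ 4) hR' hΛ' (π ^ 8) (by ring) g
  haveI := hD
  have hψ : ∀ (a : A) (d : D), Ideal.Quotient.mk (Ideal.span {algebraMap R D (π ^ 4)}) d = (ψ.comp γ) a →
      δ d - φ a ∈ Ideal.span {algebraMap R Λ (π ^ 4)} := fun a d hd => hcompat (γ a) d (φ a) hd (hfac a).symm
  obtain ⟨B, _, _, _, _, hB, α, β, hαβ, hβδ, -, hsing⟩ := desingularize_rel π hR hΛ φ δ hπ (ψ.comp γ) hψ
  have hπD : algebraMap R D π ∈ Smoothing.singularIdeal R D := by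
    rw [Smoothing.singularIdeal, PrimeSpectrum.mem_vanishingIdeal]
    intro P hP
    by_contra h
    exact hP (haway P.asIdeal fun h4 => h (P.isPrime.mem_of_pow_mem 4 (by rwa [map_pow] at h4)))
  have hπB : algebraMap R B π ∈ Smoothing.singularIdeal R B := by
    rw [IsScalarTower.algebraMap_apply R D B]
    exact hsing (Ideal.mem_map_of_mem _ hπD)
  refine ⟨B, inferInstance, inferInstance, hB, α, β, hαβ, fun Q hQ hπQ => ?_, Ideal.map_le_iff_le_comap.mpr
    fun c hc => ?_⟩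
  · rw [Smoothing.singularIdeal, PrimeSpectrum.mem_vanishingIdeal] at hπB
    by_contra hns
    exact hπQ (hπB ⟨Q, hQ⟩ hns)
  obtain ⟨d, hd⟩ := Ideal.Quotient.mk_surjective (ψ c)
  obtain ⟨l, hl⟩ := Ideal.Quotient.mk_surjective (g c)
  have hdD : d ∈ Smoothing.singularIdeal R D := by
    rw [Smoothing.singularIdeal, PrimeSpectrum.mem_vanishingIdeal]
    intro P hP
    have hπP : algebraMap R D (π ^ 4) ∈ P.asIdeal := by
      by_contra h
      exact hP (haway P.asIdeal h)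
    have hle : Ideal.span {algebraMap R D (π ^ 4)} ≤ P.asIdeal := (Ideal.span_singleton_le_iff_mem _).mpr hπP
    haveI : (P.asIdeal.map (Ideal.Quotient.mk (Ideal.span {algebraMap R D (π ^ 4)}))).IsPrime :=
      Ideal.map_isPrime_of_surjective Ideal.Quotient.mk_surjective (by rwa [Ideal.mk_ker])
    have heq : (P.asIdeal.map (Ideal.Quotient.mk (Ideal.span {algebraMap R D (π ^ 4)}))).comap
        (Ideal.Quotient.mk (Ideal.span {algebraMap R D (π ^ 4)})) = P.asIdeal := by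
      rw [Ideal.comap_map_of_surjective _ Ideal.Quotient.mk_surjective, sup_eq_left, ← RingHom.ker_eq_comap_bot,
        Ideal.mk_ker]
      exact hle
    have hcQ : c ∈ (P.asIdeal.map (Ideal.Quotient.mk _)).comap ψ := by
      rw [Smoothing.singularIdeal, PrimeSpectrum.mem_vanishingIdeal] at hc
      refine hc ⟨_, Ideal.IsPrime.comap ψ (hK := inferInstance)⟩ fun hs => hP ?_
      have hs' := hsm _ hs
      exact (congrArg (fun I : PrimeSpectrum D => Algebra.IsSmoothAt R I.asIdeal)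
        (PrimeSpectrum.ext heq : (⟨_, Ideal.IsPrime.comap (Ideal.Quotient.mk (Ideal.span {algebraMap R D (π ^ 4)})) (hK := inferInstance)⟩ : PrimeSpectrum D) = P)).mp hs'
    rw [Ideal.mem_comap, ← hd] at hcQ
    rw [← heq]
    exact hcQ
  have hlmem : l ∈ ((Smoothing.singularIdeal R B).map β).radical := by
    refine Ideal.le_radical ?_
    have h1 : δ d ∈ (Smoothing.singularIdeal R B).map β := by
      rw [← DFunLike.congr_fun hβδ d]
      exact Ideal.mem_map_of_mem _ (hsing (Ideal.mem_map_of_mem _ hdD))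
    obtain ⟨t, ht⟩ := Ideal.mem_span_singleton'.mp (hcompat c d l hd hl)
    rw [show l = δ d - t * algebraMap R Λ (π ^ 4) by rw [ht, sub_sub_cancel]]
    refine sub_mem h1 (Ideal.mul_mem_left _ _ ?_)
    rw [map_pow, ← β.commutes π]
    exact Ideal.pow_mem_of_mem _ (Ideal.mem_map_of_mem _ hπB) 4 (by norm_num)
  rw [Ideal.mem_comap]
  rw [← hl]
  exact Ideal.mem_map_of_mem _ hlmem

end Groth.Agent.H9Popescu
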