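import Groth.Agent.H9Popescu.FieldCase
import Groth.Agent.H9Popescu.LiftDesing
import Groth.Agent.S2029
import Groth.Agent.H02CA.RegularLocal
import Mathlib.RingTheory.LocalProperties.Reduced

/-!
# Popescu's theorem
-/

set_option autoImplicit false
set_option linter.style.haveILetI false

universe u

open TensorProduct IsLocalRing

namespace Groth.Agent.H9Popescu

/-- Ind-smoothness is invariant under isomorphisms of the algebra. -/
theorem indSmooth_of_algEquiv {R Λ Λ' : Type u} [CommRing R] [CommRing Λ] [CommRing Λ'] [Algebra R Λ] [Algebra R Λ']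
    (e : Λ ≃ₐ[R] Λ') (h : Smoothing.IndSmooth R Λ) : Smoothing.IndSmooth R Λ' := fun A _ _ hA f => by
  obtain ⟨B, _, _, hB, g, ψ, hgψ⟩ := h A hA (e.symm.toAlgHom.comp f)
  exact ⟨B, inferInstance, inferInstance, hB, g, e.toAlgHom.comp ψ, AlgHom.ext fun a => by
    have h1 := congrArg e (AlgHom.congr_fun hgψ a)
    exact h1.trans (e.apply_symm_apply _)⟩

/-- A minimal prime of a reduced ring gives a field. -/
theorem isField_localization_minimal {R : Type u} [CommRing R] [IsReduced R] (p : Ideal R) [p.IsPrime]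
    (hp : p ∈ minimalPrimes R) : IsField (Localization.AtPrime p) := by
  rw [IsLocalRing.isField_iff_maximalIdeal_eq, eq_bot_iff]
  refine le_trans ?_ (le_of_eq (nilradical_eq_zero (Localization.AtPrime p)))
  rw [nilradical_eq_sInf]
  refine le_sInf fun Q hQ => ?_
  haveI : Q.IsPrime := hQ
  have h1 : Q.comap (algebraMap R (Localization.AtPrime p)) ≤ p := fun x hx =>
    (IsLocalization.AtPrime.to_map_mem_maximal_iff (Localization.AtPrime p) p x).mp
      (IsLocalRing.le_maximalIdeal hQ.ne_top hx)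
  rw [← Localization.AtPrime.map_eq_maximalIdeal, Ideal.map_le_iff_le_comap]
  exact hp.2 ⟨inferInstance, bot_le⟩ h1

/-- Ind-smoothness over a reduced ring follows from that over all proper thickened quotients. -/
theorem indSmooth_of_reduced {R Λ : Type u} [CommRing R] [IsNoetherianRing R] [IsReduced R] [CommRing Λ]
    [IsNoetherianRing Λ] [Algebra R Λ] (hreg : CAlg.IsRegularHom R Λ)
    (hquot : ∀ J : Ideal R, J ≠ ⊥ → Smoothing.IndSmooth (R ⧸ J) ((R ⧸ J) ⊗[R] Λ)) : Smoothing.IndSmooth R Λ := by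
  classical
  intro A _ _ hA φ
  haveI := hA
  haveI := hreg.1
  rcases subsingleton_or_nontrivial R with hR | hR
  · haveI := Algebra.subsingleton R Λ
    exact exists_smooth_of_map_singularIdeal_eq_top φ
      ((Ideal.eq_top_iff_one _).2 (Subsingleton.elim (0 : Λ) 1 ▸ zero_mem _))
  obtain ⟨p, hp⟩ := Ideal.nonempty_minimalPrimes (I := (⊥ : Ideal R)) bot_ne_top
  haveI := hp.1.1
  let K := Localization.AtPrime p
  letI : Field K := (isField_localization_minimal p hp).toField
  -- the generic case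
  have hgeom : CAlg.IsGeometricallyRegular K (K ⊗[R] Λ) := by
    intro k' _ _ _
    letI : Algebra R k' := ((algebraMap K k').comp (algebraMap R K)).toAlgebra
    haveI : IsScalarTower R K k' := IsScalarTower.of_algebraMap_eq' rfl
    haveI : Algebra.EssFiniteType R k' := Algebra.EssFiniteType.comp R K k'
    haveI := H02CA.isNoetherianRing_tensor_of_essFiniteType R Λ k'
    haveI := H05EGA4.isRegularRing_tensor_field_of_isRegularHom hreg k'
    exact IsRegularRing.of_ringEquiv (Algebra.TensorProduct.cancelBaseChange R K k' k' Λ).symm.toRingEquiv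
  haveI : IsNoetherianRing (K ⊗[R] Λ) := H02CA.isNoetherianRing_tensor_of_essFiniteType R Λ K
  obtain ⟨B', _, _, hB', g', h', hgh'⟩ := indSmooth_of_geometricallyRegular hgeom (K ⊗[R] A) inferInstance
    (Algebra.TensorProduct.map (AlgHom.id K K) φ)
  haveI := hB'
  obtain ⟨B, _, _, α, β, hαβ, s, hs, hstd⟩ := S2029.result φ p.primeCompl g' h' hgh'
  obtain ⟨Pres, -⟩ := id hstd
  haveI : Algebra.FinitePresentation R B := H9Smooth.finitePresentation Pres
  -- the element
  let chain : ℕ →o Ideal R :=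
    { toFun := fun i => LinearMap.ker (LinearMap.mulLeft R (s ^ i))
      monotone' := fun i j hij x hx => by
        obtain ⟨r, rfl⟩ := Nat.exists_eq_add_of_le hij
        have hx' : s ^ i * x = 0 := hx
        show s ^ (i + r) * x = 0
        rw [pow_add, mul_right_comm, hx', zero_mul] }
  obtain ⟨N, hN⟩ := monotone_stabilizes_iff_noetherian.mpr (inferInstance : IsNoetherian R R) chain
  let π := s ^ (N + 1)
  have hR : ∀ r : R, π ^ 2 * r = 0 → π * r = 0 := fun r hr => by
    have h1 : r ∈ chain ((N + 1) * 2) := by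
      show s ^ ((N + 1) * 2) * r = 0
      rwa [pow_mul]
    rw [← hN _ (by omega)] at h1
    have h2 : s ^ N * r = 0 := h1
    show s ^ (N + 1) * r = 0
    rw [pow_succ', mul_assoc, h2, mul_zero]
  have hπstd : Smoothing.IsStrictlyStandard R B (algebraMap R B π) := by
    rw [map_pow, pow_succ]
    exact isStrictlyStandard_mul (H9Smooth.isStrictlyStandard_of_isElementaryStandard hstd)
  let J : Ideal R := Ideal.span {π ^ 8}
  have hJ : J ≠ ⊥ := by
    rw [Ne, Ideal.span_singleton_eq_bot]
    intro h0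
    exact hs (hp.1.1.mem_of_pow_mem _ (by rw [← pow_mul] at h0; rw [h0]; exact zero_mem _))
  -- modulo the element
  obtain ⟨C, _, _, hC, γ₀, g₀, hg₀⟩ := hquot J hJ ((R ⧸ J) ⊗[R] B) inferInstance
    (Algebra.TensorProduct.map (AlgHom.id (R ⧸ J) (R ⧸ J)) β)
  haveI := hC
  letI : Algebra R C := ((algebraMap (R ⧸ J) C).comp (algebraMap R (R ⧸ J))).toAlgebra
  haveI : IsScalarTower R (R ⧸ J) C := IsScalarTower.of_algebraMap_eq' rfl
  let mkΛ := Ideal.Quotient.mkₐ R (Ideal.span {algebraMap R Λ (π ^ 8)})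
  let toQ : (R ⧸ J) →ₐ[R] Λ ⧸ Ideal.span {algebraMap R Λ (π ^ 8)} :=
    Ideal.Quotient.liftₐ J (Algebra.ofId R _) fun r hr => by
      obtain ⟨c, rfl⟩ := Ideal.mem_span_singleton'.1 hr
      rw [map_mul]
      refine mul_eq_zero_of_right _ ?_
      show algebraMap R (Λ ⧸ _) (π ^ 8) = 0
      rw [IsScalarTower.algebraMap_apply R Λ]
      exact Ideal.Quotient.eq_zero_iff_mem.2 (Ideal.subset_span rfl)
  let e : (R ⧸ J) ⊗[R] Λ →ₐ[R] Λ ⧸ Ideal.span {algebraMap R Λ (π ^ 8)} :=
    Algebra.TensorProduct.lift toQ mkΛ fun _ _ => Commute.all _ _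
  let g : C →ₐ[R] Λ ⧸ Ideal.span {algebraMap R Λ (π ^ 8)} := e.comp (g₀.restrictScalars R)
  let γ : B →ₐ[R] C := (γ₀.restrictScalars R).comp Algebra.TensorProduct.includeRight
  obtain ⟨B₂, _, _, hB₂, α₂, β₂, hαβ₂, hsm, hsing⟩ := lift_desingularize π hR (smul_eq_zero_of_flat hR) β hπstd
    γ g fun b => by
      show e (g₀ (γ₀ (1 ⊗ₜ b))) = _
      rw [← AlgHom.comp_apply g₀ γ₀, hg₀, Algebra.TensorProduct.map_tmul]
      show toQ 1 * mkΛ (β b) = _
      rw [map_one, one_mul]
      rfl
  haveI := hB₂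
  have htop : (Smoothing.singularIdeal R B₂).map β₂ = ⊤ := by
    rw [← Ideal.radical_eq_top]
    rw [singularIdeal_eq_top, Ideal.map_top, top_le_iff] at hsing
    have h1 := congrArg (Ideal.comap (Ideal.Quotient.mk (Ideal.span {algebraMap R Λ (π ^ 8)}))) hsing
    rw [Ideal.comap_map_of_surjective _ Ideal.Quotient.mk_surjective, ← RingHom.ker_eq_comap_bot, Ideal.mk_ker,
      Ideal.comap_top] at h1
    rw [← h1, eq_comm, sup_eq_left, Ideal.span_le, Set.singleton_subset_iff]
    refine Ideal.le_radical ?_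
    rw [map_pow]
    refine Ideal.pow_mem_of_mem _ ?_ 8 (by norm_num)
    have hπ : algebraMap R B₂ π ∈ Smoothing.singularIdeal R B₂ := by
      rw [Smoothing.singularIdeal, PrimeSpectrum.mem_vanishingIdeal]
      intro Q hQ
      by_contra hc
      exact hQ (hsm Q.asIdeal hc)
    have := Ideal.mem_map_of_mem β₂ hπ
    rwa [AlgHom.commutes] at this
  obtain ⟨D, _, _, hD, g₂, ψ, hψ⟩ := exists_smooth_of_map_singularIdeal_eq_top β₂ htop
  exact ⟨D, inferInstance, inferInstance, hD, g₂.comp (α₂.comp α), ψ, by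
    rw [← AlgHom.comp_assoc, hψ, ← AlgHom.comp_assoc, hαβ₂, hαβ]⟩

/-- Popescu's theorem. -/
theorem popescu {R Λ : Type u} [CommRing R] [IsNoetherianRing R] [CommRing Λ] [IsNoetherianRing Λ] [Algebra R Λ]
    (hreg : CAlg.IsRegularHom R Λ) : Smoothing.IndSmooth R Λ := by
  suffices ∀ (I : Ideal R) (R' : Type u) [CommRing R'] (e : R →+* R'), Function.Surjective e → RingHom.ker e = I →
      ∀ (Λ' : Type u) [CommRing Λ'] [IsNoetherianRing Λ'] [Algebra R' Λ'], CAlg.IsRegularHom R' Λ' →
        Smoothing.IndSmooth R' Λ' from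
    this ⊥ R (RingHom.id R) Function.surjective_id (RingHom.ker_eq_bot_iff_eq_zero _ |>.2 fun _ h => h) Λ hreg
  intro I
  induction I using WellFoundedGT.induction with
  | ind I ih =>
    intro R' _ e he hker Λ' _ _ _ hreg'
    haveI : IsNoetherianRing R' := isNoetherianRing_of_surjective R R' e he
    have hquot : ∀ J : Ideal R', J ≠ ⊥ → Smoothing.IndSmooth (R' ⧸ J) ((R' ⧸ J) ⊗[R'] Λ') := by
      intro J hJ
      have hlt : I < RingHom.ker ((Ideal.Quotient.mk J).comp e) := by
        rw [← RingHom.comap_ker, Ideal.mk_ker, ← hker, RingHom.ker_eq_comap_bot]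
        refine lt_of_le_of_ne (Ideal.comap_mono bot_le) fun h => hJ ?_
        exact (Ideal.comap_injective_of_surjective e he h).symm
      haveI : IsNoetherianRing ((R' ⧸ J) ⊗[R'] Λ') := H02CA.isNoetherianRing_tensor_of_essFiniteType R' Λ' (R' ⧸ J)
      refine ih _ hlt (R' ⧸ J) _ (Ideal.Quotient.mk_surjective.comp he) rfl _ ?_
      refine H05EGA4.isRegularHom_baseChange hreg' fun L _ _ _ _ hL => ?_
      haveI := hL
      haveI : Algebra.EssFiniteType R' L := Algebra.EssFiniteType.comp R' (R' ⧸ J) L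
      exact H02CA.isNoetherianRing_tensor_of_essFiniteType R' Λ' L
    by_cases hred : IsReduced R'
    · exact indSmooth_of_reduced hreg' hquot
    · haveI := hreg'.1
      have hN : nilradical R' ≠ ⊥ := fun h => hred (nilradical_eq_bot_iff.1 h)
      have hnil : IsNilpotent (nilradical R') := IsNoetherianRing.isNilpotent_nilradical R'
      exact H9Smooth.indSmooth_of_nilpotent (nilradical R') hnil
        (indSmooth_of_algEquiv (Algebra.TensorProduct.quotIdealMapEquivQuotTensor Λ' (nilradical R')).symm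
          (hquot _ hN))

end Groth.Agent.H9Popescu
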