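import Groth.Agent.H05EGA4.PBasis2
import Mathlib.RingTheory.EssentialFiniteness
import Mathlib.RingTheory.Flat.FaithfullyFlat.Algebra
import Mathlib.RingTheory.Artinian.Ring
import Mathlib.LinearAlgebra.Basis.VectorSpace

/-!
# Models of Artinian local algebras over fields of positive characteristic
-/

set_option autoImplicit false
set_option linter.style.haveILetI false

universe u

open TensorProduct KaehlerDifferential EGA41 IsLocalRing
open Groth.Agent.H05EGA4

namespace Groth.Agent.H9Popescu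

variable (p : ℕ) [hp : Fact p.Prime]

/-- A field is generated by its `p ^ n`-th powers and a `p`-basis. -/
theorem closure_pow_union_eq_top {F K : Type u} [Field F] [Field K] [Algebra F K] [CharP K p]
    (hF : ∀ (T : Subfield K) (f : F), algebraMap F K f ∈ T) {B : Set K}
    (hB : IsPGenerating p F (Subtype.val : B → K)) (n : ℕ) :
    Subfield.closure (Set.range (fun x : K => x ^ p ^ n) ∪ B) = ⊤ := by
  induction n with
  | zero =>
    refine eq_top_iff.2 fun x _ => Subfield.subset_closure (Or.inl ⟨x, ?_⟩)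
    simp
  | succ n ih =>
    refine eq_top_iff.2 fun x hx0 => ?_
    clear hx0
    let T := Subfield.closure (Set.range (fun x : K => x ^ p ^ (n + 1)) ∪ B)
    have hpow : ∀ y : K, y ^ p ∈ T := by
      intro y
      have h : Subfield.closure (Set.range (fun x : K => x ^ p ^ n) ∪ B) ≤ T.comap (frobenius K p) := by
        rw [Subfield.closure_le]
        rintro z (⟨y, rfl⟩ | hz)
        · show frobenius K p (y ^ p ^ n) ∈ T
          rw [frobenius_def, ← pow_mul, ← pow_succ]
          exact Subfield.subset_closure (Or.inl ⟨y, rfl⟩)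
        · show frobenius K p z ∈ T
          rw [frobenius_def]
          exact pow_mem (Subfield.subset_closure (Set.mem_union_right _ hz)) p
      exact h (ih ▸ Subfield.mem_top y)
    have hx : x ∈ Algebra.adjoin (pPowerSubalgebra p F K) (Set.range (Subtype.val : B → K)) :=
      (PBasis.isPGenerating_iff p _).1 hB ▸ Algebra.mem_top
    show x ∈ T
    induction hx using Algebra.adjoin_induction with
    | mem z hz =>
      obtain ⟨b, rfl⟩ := hz
      exact Subfield.subset_closure (Or.inr b.2)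
    | algebraMap r =>
      obtain ⟨r, hr⟩ := r
      show r ∈ T
      induction hr using Algebra.adjoin_induction with
      | mem z hz =>
        obtain ⟨y, rfl⟩ := hz
        exact hpow y
      | algebraMap f => exact hF T f
      | add u v _ _ hu hv => exact add_mem hu hv
      | mul u v _ _ hu hv => exact mul_mem hu hv
    | add u v _ _ hu hv => exact add_mem hu hv
    | mul u v _ _ hu hv => exact mul_mem hu hv

/-- A `p`-basis of the ground field split along the imperfection module. -/
theorem exists_split {F k K : Type u} [Field F] [Field k] [Field K] [Algebra F k] [Algebra k K] [Algebra F K]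
    [IsScalarTower F k K] [CharP k p] (hfin : Module.Finite K (LinearMap.ker (mapBaseChange F k K))) :
    ∃ Γ₀ Γ₁ : Set k, Γ₁.Finite ∧ IsPGenerating p F (Subtype.val : ↥(Γ₀ ∪ Γ₁) → k) ∧
      LinearIndependent K (fun γ : Γ₀ => D F K (algebraMap k K γ)) := by
  classical
  obtain ⟨Γ, hΓ⟩ := PBasis.exists_pBasis p (k := F) (K := k)
  obtain ⟨b, hb⟩ := PBasis.exists_basis p hΓ
  let bK := b.baseChange K
  let v : Γ → Ω[K⁄F] := fun γ => D F K (algebraMap k K γ)
  have hv : ∀ l, mapBaseChange F k K (bK.repr.symm l) = Finsupp.linearCombination K v l := by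
    intro l
    induction l using Finsupp.induction_linear with
    | zero => simp
    | add l l' hl hl' => rw [map_add, map_add, map_add, hl, hl']
    | single γ c =>
      rw [Module.Basis.repr_symm_single, map_smul, Finsupp.linearCombination_single]
      refine congrArg (c • ·) ?_
      rw [Module.Basis.baseChange_apply, hb, mapBaseChange_tmul, one_smul, map_D]
  obtain ⟨G, -, -, hspan, hli⟩ := exists_linearIndepOn_extension (K := K) (v := v) (s := ∅) (t := Set.univ)
    (linearIndepOn_empty K v) (Set.empty_subset _)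
  have hl : ∀ γ : {γ : Γ // γ ∉ G}, ∃ l ∈ Finsupp.supported K K G, Finsupp.linearCombination K v l = v γ := fun γ =>
    (Finsupp.mem_span_image_iff_linearCombination K).1 (hspan ⟨γ, Set.mem_univ _, rfl⟩)
  choose l hlG hlv using hl
  let r : {γ : Γ // γ ∉ G} → LinearMap.ker (mapBaseChange F k K) := fun γ =>
    ⟨bK.repr.symm (Finsupp.single γ.1 1 - l γ), by
      rw [LinearMap.mem_ker, hv, map_sub, Finsupp.linearCombination_single, one_smul, hlv, sub_self]⟩
  have hr : LinearIndependent K r := by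
    refine LinearIndependent.of_comp ((Finsupp.lsubtypeDomain {γ : Γ | γ ∉ G}).comp
      (bK.repr.toLinearMap.comp (LinearMap.ker (mapBaseChange F k K)).subtype)) ?_
    have hbs := (Finsupp.basisSingleOne (R := K) (ι := {γ : Γ // γ ∉ G})).linearIndependent
    refine (congrArg (fun f : {γ : Γ // γ ∉ G} → ({γ : Γ // γ ∉ G} →₀ K) => LinearIndependent K f) (?_ : _ = _)).mpr hbs
    funext γ
    ext δ
    show (bK.repr (bK.repr.symm (Finsupp.single γ.1 1 - l γ))) δ.1 = _
    have h0 : l γ δ.1 = 0 := by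
      by_contra h
      exact δ.2 (hlG γ (Finsupp.mem_support_iff.2 h))
    rw [LinearEquiv.apply_symm_apply, Finsupp.sub_apply, h0, sub_zero, Finsupp.coe_basisSingleOne,
      Finsupp.single_apply, Finsupp.single_apply]
    exact if_congr Subtype.coe_inj rfl rfl
  haveI : Finite {γ : Γ // γ ∉ G} := hr.finite
  haveI : Finite ↥(Gᶜ) := ‹Finite {γ : Γ // γ ∉ G}›
  refine ⟨Subtype.val '' G, Subtype.val '' Gᶜ, (Set.toFinite Gᶜ).image _, ?_, ?_⟩
  · rw [← Set.image_union, Set.union_compl_self, Set.image_univ, Subtype.range_coe]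
    exact hΓ.2
  · let e := Equiv.Set.image (Subtype.val : Γ → k) G Subtype.val_injective
    have h := hli.linearIndependent.comp e.symm e.symm.injective
    convert h using 1
    funext y
    show D F K (algebraMap k K y.1) = D F K (algebraMap k K ((e.symm y).1 : k))
    obtain ⟨x, rfl⟩ := e.surjective y
    rw [Equiv.symm_apply_apply]
    rfl

/-- An Artinian local ring is finite over a coefficient field. -/
theorem finite_of_coefficientField {K Λ : Type u} [Field K] [CommRing Λ] [IsLocalRing Λ] [IsArtinianRing Λ]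
    [Algebra K Λ] (h : ∀ x : Λ, ∃ c : K, x - algebraMap K Λ c ∈ maximalIdeal Λ) : Module.Finite K Λ := by
  classical
  obtain ⟨N, hN⟩ := IsArtinianRing.isNilpotent_jacobson_bot (R := Λ)
  rw [jacobson_eq_maximalIdeal ⊥ bot_ne_top] at hN
  suffices ∀ i, ((maximalIdeal Λ) ^ (N - i)).restrictScalars K |>.FG by
    have := this N
    rw [Nat.sub_self, pow_zero, Ideal.one_eq_top, Submodule.restrictScalars_top] at this
    exact ⟨this⟩
  intro i
  induction i with
  | zero =>
    rw [Nat.sub_zero, hN]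
    exact Submodule.fg_bot
  | succ i ih =>
    by_cases hi : N ≤ i
    · rwa [show N - (i + 1) = N - i by omega]
    obtain ⟨s, hs⟩ := IsNoetherian.noetherian ((maximalIdeal Λ) ^ (N - (i + 1)))
    have hsucc : (maximalIdeal Λ) ^ (N - i) = maximalIdeal Λ * (maximalIdeal Λ) ^ (N - (i + 1)) := by
      rw [← pow_succ', show N - (i + 1) + 1 = N - i by omega]
    suffices ((maximalIdeal Λ) ^ (N - (i + 1))).restrictScalars K =
        Submodule.span K (s : Set Λ) ⊔ ((maximalIdeal Λ) ^ (N - i)).restrictScalars K by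
      rw [this]
      exact (Submodule.fg_span s.finite_toSet).sup ih
    refine le_antisymm (fun x hx => ?_) (sup_le (Submodule.span_le.2 fun y hy => hs.le (Submodule.subset_span hy))
      fun y hy => Ideal.pow_le_pow_right (by omega) hy)
    obtain ⟨c, rfl⟩ := Submodule.mem_span_finset'.1 (hs.ge hx)
    refine sum_mem fun y _ => ?_
    obtain ⟨a, ha⟩ := h (c y)
    rw [show c y • (y : Λ) = a • (y : Λ) + (c y - algebraMap K Λ a) * y by
      rw [smul_eq_mul, Algebra.smul_def]; ring]
    refine Submodule.add_mem_sup (Submodule.smul_mem _ _ (Submodule.subset_span y.2)) ?_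
    rw [Submodule.restrictScalars_mem, hsucc]
    exact Ideal.mul_mem_mul ha (hs.le (Submodule.subset_span y.2))

set_option maxHeartbeats 1000000 in
/-- An Artinian local algebra descends to the localisation of a finitely generated subalgebra. -/
theorem exists_artinian_model {k Λ : Type u} [Field k] [CharP k p] [CommRing Λ] [Algebra k Λ] [IsArtinianRing Λ]
    [IsLocalRing Λ]
    (hfin : Module.Finite (ResidueField Λ)
      (LinearMap.ker (mapBaseChange (⊥ : Subfield k) k (ResidueField Λ))))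
    (S : Subalgebra k Λ) (hS : ∀ x : Λ, ∃ t ∈ S, IsUnit t ∧ x * t ∈ S) (E : Finset Λ) :
    ∃ (g : Finset Λ) (A : Subalgebra k Λ), (↑g : Set Λ) ⊆ S ∧
      (∀ x, x ∈ A ↔ ∃ t ∈ Algebra.adjoin k (g : Set Λ), IsUnit t ∧ x * t ∈ Algebra.adjoin k (g : Set Λ)) ∧
      (↑E : Set Λ) ⊆ A ∧ Module.Free A Λ ∧
      ∃ μ : Finset Λ, (↑μ : Set Λ) ⊆ A ∧ Ideal.span (μ : Set Λ) = maximalIdeal Λ := by
  classical
  let K := ResidueField Λ
  let F : Subfield k := ⊥
  haveI : CharP F p := (RingHom.charP_iff (algebraMap F k) (algebraMap F k).injective p).2 inferInstance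
  haveI : CharP K p := charP_of_injective_algebraMap (algebraMap k K).injective p
  haveI : CharP Λ p := charP_of_injective_algebraMap (algebraMap k Λ).injective p
  haveI : PerfectRing F p := PerfectRing.ofSurjective F p fun x => ⟨x, Subtype.ext (by
    have h : (⊥ : Subfield k) ≤ (frobenius k p).eqLocusField (RingHom.id k) := bot_le
    exact h x.2)⟩
  have hres : ∀ a, residue Λ (algebraMap k Λ a) = algebraMap k K a := fun a => rfl
  have hFK : ∀ (T : Subfield K) (f : F), algebraMap F K f ∈ T := fun T f =>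
    (bot_le : (⊥ : Subfield k) ≤ T.comap (algebraMap k K)) f.2
  have hFk : ∀ (T : Subfield k) (f : F), algebraMap F k f ∈ T := fun T f => (bot_le : (⊥ : Subfield k) ≤ T) f.2
  obtain ⟨Γ₀, Γ₁, hΓ₁, hΓ, hΓ₀⟩ := exists_split p (F := F) (k := k) (K := K) hfin
  -- the `p`-basis of the residue field
  let L₀ : Set K := algebraMap k K '' Γ₀
  let Sb : Set K := residue Λ '' (S : Set Λ)
  have hLS : L₀ ⊆ Sb := by
    rintro _ ⟨a, -, rfl⟩
    exact ⟨algebraMap k Λ a, S.algebraMap_mem a, rfl⟩
  have hSgen : IsPGenerating p F (Subtype.val : Sb → K) := by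
    rw [PBasis.pGenerating_iff, eq_top_iff, ← span_range_derivation, Submodule.span_le]
    rintro _ ⟨x, rfl⟩
    obtain ⟨x, rfl⟩ := residue_surjective x
    obtain ⟨t, ht, htu, hxt⟩ := hS x
    have h := congrArg (D F K) (map_mul (residue Λ) x t)
    rw [Derivation.leibniz] at h
    have h1 : D F K (residue Λ x) = (residue Λ t)⁻¹ • (D F K (residue Λ (x * t)) -
        residue Λ x • D F K (residue Λ t)) := by
      rw [h, add_sub_cancel_left, inv_smul_smul₀ (htu.map (residue Λ)).ne_zero]
    rw [SetLike.mem_coe, h1]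
    exact Submodule.smul_mem _ _ (sub_mem (Submodule.subset_span ⟨⟨_, x * t, hxt, rfl⟩, rfl⟩)
      (Submodule.smul_mem _ _ (Submodule.subset_span ⟨⟨_, t, ht, rfl⟩, rfl⟩)))
  have hLind : IsPIndependent p F (Subtype.val : L₀ → K) := by
    rw [PBasis.pIndependent_iff]
    let e := Equiv.Set.image (algebraMap k K) Γ₀ (algebraMap k K).injective
    convert hΓ₀.comp e.symm e.symm.injective using 1
    funext y
    obtain ⟨x, rfl⟩ := e.surjective y
    show _ = D F K (algebraMap k K ((e.symm (e x)) : k))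
    rw [Equiv.symm_apply_apply]
    rfl
  obtain ⟨B, hLB, hBS, hB⟩ := PBasis.exists_between p hLS hSgen hLind
  -- lifts
  have hlift : ∀ b : B, ∃ s ∈ S, residue Λ s = (b : K) ∧ ∀ a ∈ Γ₀, algebraMap k K a = b → s = algebraMap k Λ a := by
    intro b
    by_cases h : ∃ a ∈ Γ₀, algebraMap k K a = b
    · obtain ⟨a, ha, hab⟩ := h
      exact ⟨algebraMap k Λ a, S.algebraMap_mem a, hab, fun a' _ h' =>
        congrArg _ ((algebraMap k K).injective (hab.trans h'.symm))⟩
    · obtain ⟨s, hs, hsb⟩ := hBS b.2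
      exact ⟨s, hs, hsb, fun a ha h' => absurd ⟨a, ha, h'⟩ h⟩
  choose z hzS hzr hzγ using hlift
  obtain ⟨M, hM⟩ := IsArtinianRing.isNilpotent_jacobson_bot (R := Λ)
  rw [jacobson_eq_maximalIdeal ⊥ bot_ne_top] at hM
  obtain ⟨w, ⟨hw₁, hw₂⟩, -⟩ := PBasis.existsUnique_lift p (Subtype.val : B → K) hB Λ (maximalIdeal Λ) ⟨M, hM⟩
    (AlgHom.id F K) z hzr
  have hwr : ∀ c, residue Λ (w c) = c := fun c => AlgHom.congr_fun hw₁ c
  let P := p ^ M
  have hMP : M ≤ P := (Nat.lt_pow_self hp.out.one_lt).le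
  have hP0 : P ≠ 0 := pow_ne_zero _ hp.out.ne_zero
  have hP : ∀ x : Λ, x ^ P = w (residue Λ x ^ P) := by
    intro x
    have h : x - w (residue Λ x) ∈ maximalIdeal Λ := by
      rw [← residue_eq_zero_iff, map_sub, hwr, sub_self]
    have h' : (x - w (residue Λ x)) ^ P = 0 := by
      have := Ideal.pow_le_pow_right hMP (Ideal.pow_mem_pow h P)
      rwa [hM] at this
    rw [sub_pow_char_pow, sub_eq_zero] at h'
    rw [h', map_pow]
  have hwγ : ∀ a ∈ Γ₀, w (algebraMap k K a) = algebraMap k Λ a := fun a ha => by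
    rw [show algebraMap k K a = ((⟨_, hLB ⟨a, ha, rfl⟩⟩ : B) : K) from rfl, hw₂]
    exact hzγ _ a ha rfl
  have hwk : ∀ a : k, w (algebraMap k K a ^ P) = algebraMap k Λ a ^ P := fun a => by
    rw [hP, hres]
  -- elements of the coefficient field are fractions of elements of `S`
  have hfrac : ∀ f : K, ∃ σ τ : K, τ ≠ 0 ∧ w σ ∈ S ∧ w τ ∈ S ∧ f * τ = σ := by
    intro f
    have hf : f ∈ Subfield.closure (Set.range (fun x : K => x ^ P) ∪ B) :=
      closure_pow_union_eq_top p hFK hB.2 M ▸ Subfield.mem_top f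
    induction hf using Subfield.closure_induction with
    | mem x hx =>
      rcases hx with ⟨y, rfl⟩ | hx
      · obtain ⟨y, rfl⟩ := residue_surjective y
        obtain ⟨t, ht, htu, hyt⟩ := hS y
        refine ⟨residue Λ (y * t) ^ P, residue Λ t ^ P, pow_ne_zero _ (htu.map (residue Λ)).ne_zero, ?_, ?_, ?_⟩
        · rw [← hP]; exact pow_mem hyt _
        · rw [← hP]; exact pow_mem ht _
        · show residue Λ y ^ P * _ = _
          rw [map_mul, mul_pow]
      · refine ⟨x, 1, one_ne_zero, ?_, ?_, mul_one x⟩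
        · rw [show x = ((⟨x, hx⟩ : B) : K) from rfl, hw₂]; exact hzS _
        · rw [map_one]; exact one_mem _
    | one => exact ⟨1, 1, one_ne_zero, by rw [map_one]; exact one_mem _, by rw [map_one]; exact one_mem _, mul_one _⟩
    | add x y _ _ hx hy =>
      obtain ⟨σ, τ, hτ, h1, h2, h3⟩ := hx
      obtain ⟨σ', τ', hτ', h1', h2', h3'⟩ := hy
      exact ⟨σ * τ' + σ' * τ, τ * τ', mul_ne_zero hτ hτ', by rw [map_add, map_mul, map_mul]; exact add_mem (mul_mem h1 h2') (mul_mem h1' h2),
        by rw [map_mul]; exact mul_mem h2 h2', by rw [← h3, ← h3']; ring⟩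
    | neg x _ hx =>
      obtain ⟨σ, τ, hτ, h1, h2, h3⟩ := hx
      exact ⟨-σ, τ, hτ, by rw [map_neg]; exact neg_mem h1, h2, by rw [← h3]; ring⟩
    | inv x _ hx =>
      obtain ⟨σ, τ, hτ, h1, h2, h3⟩ := hx
      by_cases hx0 : x = 0
      · subst hx0
        exact ⟨0, 1, one_ne_zero, by rw [map_zero]; exact zero_mem _, by rw [map_one]; exact one_mem _, by simp⟩
      · exact ⟨τ, σ, h3 ▸ mul_ne_zero hx0 hτ, h2, h1, by rw [← h3, ← mul_assoc, inv_mul_cancel₀ hx0, one_mul]⟩
    | mul x y _ _ hx hy =>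
      obtain ⟨σ, τ, hτ, h1, h2, h3⟩ := hx
      obtain ⟨σ', τ', hτ', h1', h2', h3'⟩ := hy
      exact ⟨σ * σ', τ * τ', mul_ne_zero hτ hτ', by rw [map_mul]; exact mul_mem h1 h1',
        by rw [map_mul]; exact mul_mem h2 h2', by rw [← h3, ← h3']; ring⟩
  choose num den hden hnum_mem hden_mem hnd using hfrac
  -- the basis
  letI : Algebra K Λ := w.toRingHom.toAlgebra
  have hsmul : ∀ (c : K) (x : Λ), c • x = w c * x := fun c x => rfl
  haveI : Module.Finite K Λ := finite_of_coefficientField fun x => ⟨residue Λ x, by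
    show x - w (residue Λ x) ∈ _
    rw [← residue_eq_zero_iff, map_sub, hwr, sub_self]⟩
  have hspanS : (⊤ : Submodule K Λ) ≤ Submodule.span K (S : Set Λ) := by
    intro x _
    obtain ⟨t, ht, htu, hxt⟩ := hS x
    obtain ⟨P', hP'⟩ : ∃ P', P = P' + 1 := ⟨P - 1, by omega⟩
    have hx : x = (residue Λ t ^ P)⁻¹ • (x * t * t ^ P') := by
      have h : x * t * t ^ P' = (residue Λ t ^ P) • x := by
        rw [hsmul, ← hP, hP', pow_succ]; ring
      rw [h, inv_smul_smul₀ (pow_ne_zero _ (htu.map (residue Λ)).ne_zero)]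
    rw [hx]
    exact Submodule.smul_mem _ _ (Submodule.subset_span (mul_mem hxt (pow_mem ht _)))
  obtain ⟨es, hesS, hespan, hesli⟩ := exists_linearIndependent K (S : Set Λ)
  haveI : Finite es := hesli.finite
  letI : Fintype es := Fintype.ofFinite _
  let e : Module.Basis es K Λ := Module.Basis.mk hesli (by rw [Subtype.range_coe, hespan]; exact hspanS)
  have he : ∀ i, e i = (i : Λ) := fun i => Module.Basis.mk_apply hesli _ i
  obtain ⟨μ, hμ⟩ := IsNoetherian.noetherian (maximalIdeal Λ)
  -- the finite set of coefficients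
  let X : Set Λ := ↑E ∪ ↑μ ∪ algebraMap k Λ '' Γ₁ ∪ (Set.range fun q : es × es => (q.1 : Λ) * q.2) ∪ {1}
  have hX : X.Finite := ((((E.finite_toSet).union μ.finite_toSet).union (hΓ₁.image _)).union
    (Set.finite_range _)).union (Set.finite_singleton _)
  let F₀ : Set K := (fun q : Λ × es => e.repr q.1 q.2) '' (X ×ˢ (Set.univ : Set es)) ∪
    Set.range fun i : es => residue Λ (i : Λ)
  have hF₀ : F₀.Finite := ((hX.prod Set.finite_univ).image _).union (Set.finite_range _)
  let F₁ : Set K := num '' F₀ ∪ den '' F₀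
  have hF₁ : F₁.Finite := (hF₀.image _).union (hF₀.image _)
  let K₀ : Subfield K := Subfield.closure
    (algebraMap k K '' Set.range (fun a : k => a ^ P) ∪ algebraMap k K '' Γ₀ ∪ F₁)
  have hF₀K : ∀ f ∈ F₀, f ∈ K₀ := fun f hf => by
    have h : f = num f / den f := by rw [eq_div_iff (hden f), hnd]
    rw [h]
    exact div_mem (Subfield.subset_closure (Or.inr (Or.inl ⟨f, hf, rfl⟩)))
      (Subfield.subset_closure (Or.inr (Or.inr ⟨f, hf, rfl⟩)))
  let InN : Λ → Prop := fun x => ∀ i, e.repr x i ∈ K₀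
  have hXN : ∀ x ∈ X, InN x := fun x hx i => hF₀K _ (Or.inl ⟨(x, i), ⟨hx, Set.mem_univ _⟩, rfl⟩)
  have hone : InN 1 := hXN 1 (Or.inr rfl)
  have hsmulN : ∀ c ∈ K₀, ∀ x, InN x → InN (w c * x) := fun c hc x hx i => by
    rw [← hsmul, map_smul, Finsupp.smul_apply, smul_eq_mul]
    exact mul_mem hc (hx i)
  have hwN : ∀ c ∈ K₀, InN (w c) := fun c hc => mul_one (w c) ▸ hsmulN c hc 1 hone
  have hadd : ∀ x y, InN x → InN y → InN (x + y) := fun x y hx hy i => by
    rw [map_add, Finsupp.add_apply]
    exact add_mem (hx i) (hy i)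
  have hzero : InN 0 := fun i => by
    rw [map_zero, Finsupp.zero_apply]
    exact zero_mem _
  have hmul : ∀ x y, InN x → InN y → InN (x * y) := fun x y hx hy => by
    rw [← e.sum_repr x, ← e.sum_repr y, Finset.sum_mul_sum]
    refine Finset.sum_induction _ InN hadd hzero fun i _ => Finset.sum_induction _ InN hadd hzero fun j _ => ?_
    rw [hsmul, hsmul, he, he, mul_mul_mul_comm, ← map_mul]
    exact hsmulN _ (mul_mem (hx i) (hy j)) _ (hXN _ (Or.inl (Or.inr ⟨(i, j), rfl⟩)))
  have hpowN : ∀ x, InN x → ∀ j : ℕ, InN (x ^ j) := fun x hx j => by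
    induction j with
    | zero => rw [pow_zero]; exact hone
    | succ j ih => rw [pow_succ]; exact hmul _ _ ih hx
  have hresN : ∀ x, InN x → residue Λ x ∈ K₀ := fun x hx => by
    rw [← e.sum_repr x, map_sum]
    refine sum_mem fun i _ => ?_
    rw [hsmul, map_mul, hwr, he]
    exact mul_mem (hx i) (hF₀K _ (Or.inr ⟨i, rfl⟩))
  have hinv : ∀ x, InN x → IsUnit x → ∃ y, InN y ∧ x * y = 1 := fun x hx hu => by
    obtain ⟨P', hP'⟩ : ∃ P', P = P' + 1 := ⟨P - 1, by omega⟩
    refine ⟨w ((residue Λ x ^ P)⁻¹) * x ^ P', hsmulN _ (inv_mem (pow_mem (hresN x hx) _)) _ (hpowN x hx _), ?_⟩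
    rw [mul_left_comm, ← pow_succ', ← hP', hP, ← map_mul,
      inv_mul_cancel₀ (pow_ne_zero _ (hu.map (residue Λ)).ne_zero), map_one]
  have hkN : ∀ a : k, InN (algebraMap k Λ a) := fun a => by
    have ha : a ∈ Subfield.closure (Set.range (fun x : k => x ^ P) ∪ (Γ₀ ∪ Γ₁)) :=
      closure_pow_union_eq_top p hFk hΓ M ▸ Subfield.mem_top a
    induction ha using Subfield.closure_induction with
    | mem x hx =>
      rcases hx with ⟨y, rfl⟩ | hx | hx
      · rw [map_pow, ← hwk]
        exact hwN _ (Subfield.subset_closure (Or.inl (Or.inl ⟨_, ⟨y, rfl⟩, map_pow _ _ _⟩)))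
      · rw [← hwγ x hx]
        exact hwN _ (Subfield.subset_closure (Or.inl (Or.inr ⟨x, hx, rfl⟩)))
      · exact hXN _ (Or.inl (Or.inl (Or.inr ⟨x, hx, rfl⟩)))
    | one => rw [map_one]; exact hone
    | add x y _ _ hx hy => rw [map_add]; exact hadd _ _ hx hy
    | neg x _ hx => rw [map_neg]; exact fun i => by rw [map_neg, Finsupp.neg_apply]; exact neg_mem (hx i)
    | inv x _ hx =>
      by_cases hx0 : x = 0
      · subst hx0; rwa [inv_zero]
      · obtain ⟨y, hy, hxy⟩ := hinv _ hx ((Ne.isUnit hx0).map _)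
        rwa [show algebraMap k Λ x⁻¹ = y from by
          rw [← mul_one (algebraMap k Λ x⁻¹), ← hxy, ← mul_assoc, ← map_mul, inv_mul_cancel₀ hx0, map_one, one_mul]]
    | mul x y _ _ hx hy => rw [map_mul]; exact hmul _ _ hx hy
  let NA : Subalgebra k Λ :=
    { carrier := {x | InN x}
      mul_mem' := fun {a b} ha hb => hmul a b ha hb
      one_mem' := hone
      add_mem' := fun {a b} ha hb => hadd a b ha hb
      zero_mem' := hzero
      algebraMap_mem' := hkN }
  -- the generators and the algebra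
  have hg : (w '' F₁ ∪ es).Finite := (hF₁.image _).union es.toFinite
  let G := Algebra.adjoin k (hg.toFinset : Set Λ)
  have hgG : ∀ x ∈ w '' F₁ ∪ es, x ∈ G := fun x hx => Algebra.subset_adjoin (by simpa using hx)
  let A : Subalgebra k Λ :=
    { carrier := {x | ∃ t ∈ G, IsUnit t ∧ x * t ∈ G}
      mul_mem' := by
        rintro a b ⟨t, ht, htu, hat⟩ ⟨t', ht', htu', hbt⟩
        exact ⟨t * t', mul_mem ht ht', htu.mul htu', by rw [mul_mul_mul_comm]; exact mul_mem hat hbt⟩
      one_mem' := ⟨1, one_mem _, isUnit_one, by rw [mul_one]; exact one_mem _⟩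
      add_mem' := by
        rintro a b ⟨t, ht, htu, hat⟩ ⟨t', ht', htu', hbt⟩
        refine ⟨t * t', mul_mem ht ht', htu.mul htu', ?_⟩
        rw [show (a + b) * (t * t') = a * t * t' + b * t' * t by ring]
        exact add_mem (mul_mem hat ht') (mul_mem hbt ht)
      zero_mem' := ⟨1, one_mem _, isUnit_one, by rw [zero_mul]; exact zero_mem _⟩
      algebraMap_mem' := fun a => ⟨1, one_mem _, isUnit_one, by rw [mul_one]; exact G.algebraMap_mem a⟩ }
  have hmemA : ∀ x, x ∈ A ↔ ∃ t ∈ G, IsUnit t ∧ x * t ∈ G := fun _ => Iff.rfl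
  have hGN : G ≤ NA := Algebra.adjoin_le fun x hx => by
    have hx' : x ∈ w '' F₁ ∪ es := by simpa using hx
    rcases hx' with ⟨c, hc, rfl⟩ | hx'
    · exact hwN c (Subfield.subset_closure (Or.inr hc))
    · show InN x
      intro i
      rw [show x = e ⟨x, hx'⟩ from (he ⟨x, hx'⟩).symm, e.repr_self, Finsupp.single_apply]
      split_ifs
      · exact one_mem _
      · exact zero_mem _
  have hAN : ∀ x ∈ A, InN x := fun x hx => by
    obtain ⟨t, ht, htu, hxt⟩ := (hmemA x).1 hx
    obtain ⟨y, hy, hty⟩ := hinv t (hGN ht) htu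
    rw [← mul_one x, ← hty, ← mul_assoc]
    exact hmul _ _ (hGN hxt) hy
  have hwA : ∀ c ∈ K₀, w c ∈ A := fun c hc => by
    induction hc using Subfield.closure_induction with
    | mem x hx =>
      rcases hx with (⟨_, ⟨y, rfl⟩, rfl⟩ | ⟨y, hy, rfl⟩) | hx
      · rw [map_pow (algebraMap k K), hwk, ← map_pow]
        exact A.algebraMap_mem _
      · rw [hwγ y hy]
        exact A.algebraMap_mem _
      · exact ⟨1, one_mem _, isUnit_one, by rw [mul_one]; exact hgG _ (Or.inl ⟨x, hx, rfl⟩)⟩
    | one => rw [map_one]; exact A.one_mem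
    | add x y _ _ hx hy => rw [map_add]; exact A.add_mem hx hy
    | neg x _ hx => rw [map_neg]; exact A.neg_mem hx
    | inv x _ hx =>
      by_cases hx0 : x = 0
      · rw [hx0, inv_zero, map_zero]; exact A.zero_mem
      obtain ⟨t, ht, htu, hxt⟩ := (hmemA _).1 hx
      refine ⟨w x * t, hxt, ((Ne.isUnit hx0).map w).mul htu, ?_⟩
      rwa [← mul_assoc, ← map_mul, inv_mul_cancel₀ hx0, map_one, one_mul]
    | mul x y _ _ hx hy => rw [map_mul]; exact A.mul_mem hx hy
  have heA : ∀ i : es, (i : Λ) ∈ A := fun i =>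
    ⟨1, one_mem _, isUnit_one, by rw [mul_one]; exact hgG _ (Or.inr i.2)⟩
  have hNA : ∀ x, InN x → x ∈ A := fun x hx => by
    rw [← e.sum_repr x]
    refine sum_mem fun i _ => ?_
    rw [hsmul, he]
    exact A.mul_mem (hwA _ (hx i)) (heA i)
  -- freeness
  let β := Module.Basis.ofVectorSpace K₀ K
  have hAsmul : ∀ (a : A) (x : Λ), a • x = (a : Λ) * x := fun a x => rfl
  have hβli : LinearIndependent A (fun j => w (β j)) := by
    rw [linearIndependent_iff']
    intro s c hc j hj
    refine Subtype.ext ?_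
    show (c j : Λ) = 0
    rw [← e.sum_repr (c j : Λ)]
    refine Finset.sum_eq_zero fun i _ => ?_
    have h := congrArg (fun x => e.repr x i) hc
    simp only [map_sum, Finsupp.coe_finsetSum, Finset.sum_apply, map_zero, Finsupp.coe_zero, Pi.zero_apply,
      hAsmul] at h
    simp only [mul_comm _ (w _), ← hsmul, map_smul, Finsupp.smul_apply, smul_eq_mul] at h
    have h0 := linearIndependent_iff'.1 β.linearIndependent s
      (fun j => ⟨e.repr (c j : Λ) i, hAN _ (c j).2 i⟩) (by
        rw [← h]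
        exact Finset.sum_congr rfl fun j _ => mul_comm _ _) j hj
    rw [show e.repr (c j : Λ) i = 0 from congrArg Subtype.val h0, zero_smul]
  have hβspan : ⊤ ≤ Submodule.span A (Set.range fun j => w (β j)) := by
    intro x _
    rw [← e.sum_repr x]
    refine sum_mem fun i _ => ?_
    rw [← β.linearCombination_repr (e.repr x i), Finsupp.linearCombination_apply, Finsupp.sum, Finset.sum_smul]
    refine sum_mem fun j _ => ?_
    rw [he, hsmul, show (β.repr (e.repr x i) j) • β j = ((β.repr (e.repr x i) j : K₀) : K) * β j from rfl, map_mul,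
      mul_assoc, mul_comm (w (β j)), ← mul_assoc, ← hAsmul ⟨_, A.mul_mem (hwA _ (β.repr (e.repr x i) j).2) (heA i)⟩]
    exact Submodule.smul_mem _ _ (Submodule.subset_span ⟨j, rfl⟩)
  refine ⟨hg.toFinset, A, ?_, hmemA, fun x hx => hNA x (hXN x (Or.inl (Or.inl (Or.inl (Or.inl hx))))),
    Module.Free.of_basis (Module.Basis.mk hβli hβspan), μ,
    fun x hx => hNA x (hXN x (Or.inl (Or.inl (Or.inl (Or.inr hx))))), hμ⟩
  intro x hx
  have hx' : x ∈ w '' F₁ ∪ es := by simpa using hx
  rcases hx' with ⟨_, (⟨f, -, rfl⟩ | ⟨f, -, rfl⟩), rfl⟩ | hx'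
  · exact hnum_mem f
  · exact hden_mem f
  · exact hesS hx'

end Groth.Agent.H9Popescu
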