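import Groth.Agent.H9Popescu.ArtinianModel
import Mathlib.RingTheory.Kaehler.JacobiZariski

/-!
# Properties of models of Artinian local algebras
-/

set_option autoImplicit false
set_option linter.style.haveILetI false

universe u

open TensorProduct KaehlerDifferential IsLocalRing

namespace Groth.Agent.H9Popescu

/-- The imperfection module is a quotient of the first cotangent homology. -/
theorem finite_imperfection_of_finite_h1 {F k K : Type u} [CommRing F] [CommRing k] [CommRing K] [Algebra F k]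
    [Algebra k K] [Algebra F K] [IsScalarTower F k K] (hH : Module.Finite K (Algebra.H1Cotangent k K)) :
    Module.Finite K (LinearMap.ker (mapBaseChange F k K)) := by
  haveI := hH
  rw [(Algebra.H1Cotangent.exact_δ_mapBaseChange F k K).linearMap_ker_eq]
  exact Module.Finite.range _

section Props

variable {k Λ : Type u} [Field k] [CommRing Λ] [Algebra k Λ] [IsLocalRing Λ] {G : Subalgebra k Λ}
  {A : Subalgebra k Λ} (hA : ∀ x, x ∈ A ↔ ∃ t ∈ G, IsUnit t ∧ x * t ∈ G)

include hA

omit [IsLocalRing Λ] in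
theorem le_of_mem_iff : G ≤ A := fun x hx =>
  (hA x).2 ⟨1, one_mem _, isUnit_one, by rwa [mul_one]⟩

omit [IsLocalRing Λ] in
theorem isUnit_iff_of_mem_iff (x : A) : IsUnit x ↔ IsUnit (x : Λ) := by
  refine ⟨fun h => h.map A.val, fun hu => ?_⟩
  obtain ⟨t, ht, htu, hxt⟩ := (hA x).1 x.2
  obtain ⟨v, hv⟩ := hu
  have hy : (↑v⁻¹ : Λ) ∈ A := (hA _).2 ⟨x * t, hxt, (hv ▸ v.isUnit).mul htu, by
    rw [← hv, Units.inv_mul_cancel_left]
    exact ht⟩
  exact IsUnit.of_mul_eq_one ⟨_, hy⟩ (Subtype.ext (by show (x : Λ) * _ = 1; rw [← hv, Units.mul_inv]))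

theorem isLocalRing_of_mem_iff : IsLocalRing A := by
  haveI : Nontrivial A := ⟨⟨0, 1, fun h => zero_ne_one (congrArg Subtype.val h)⟩⟩
  refine IsLocalRing.of_nonunits_add fun a b ha hb => ?_
  rw [mem_nonunits_iff, isUnit_iff_of_mem_iff hA] at ha hb ⊢
  exact IsLocalRing.nonunits_add ha hb

omit [IsLocalRing Λ] in
theorem essFiniteType_of_mem_iff (hG : G.FG) : Algebra.EssFiniteType k A := by
  classical
  obtain ⟨g, rfl⟩ := hG
  rw [Algebra.essFiniteType_iff]
  let g' : Finset A := g.attach.map (⟨fun x => ⟨x.1, le_of_mem_iff hA (Algebra.subset_adjoin x.2)⟩,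
    fun x y h => Subtype.ext (congrArg (fun z : A => (z : Λ)) h)⟩ : {x // x ∈ g} ↪ A)
  have hmap : (Algebra.adjoin k (g' : Set A)).map A.val = Algebra.adjoin k (g : Set Λ) := by
    rw [AlgHom.map_adjoin]
    congr 1
    ext x
    simp only [g', Finset.coe_map, Set.mem_image, Finset.mem_coe, Finset.mem_attach, true_and]
    constructor
    · rintro ⟨_, ⟨y, rfl⟩, rfl⟩
      exact y.2
    · intro hx
      exact ⟨_, ⟨⟨x, hx⟩, rfl⟩, rfl⟩
  refine ⟨g', fun x => ?_⟩
  obtain ⟨t, ht, htu, hxt⟩ := (hA x).1 x.2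
  rw [← hmap] at ht hxt
  obtain ⟨t', ht', rfl⟩ := ht
  obtain ⟨y, hy, hyx⟩ := hxt
  refine ⟨t', ht', (isUnit_iff_of_mem_iff hA t').2 htu, ?_⟩
  rwa [show x * t' = y from Subtype.ext hyx.symm]

theorem map_maximalIdeal_of_mem_iff [IsLocalRing A] {μ : Finset Λ} (hμA : (↑μ : Set Λ) ⊆ A)
    (hμ : Ideal.span (μ : Set Λ) = maximalIdeal Λ) :
    (maximalIdeal A).map (algebraMap A Λ) = maximalIdeal Λ := by
  refine le_antisymm (Ideal.map_le_iff_le_comap.2 fun x hx => ?_) ?_
  · show (x : Λ) ∈ maximalIdeal Λ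
    rw [IsLocalRing.mem_maximalIdeal, mem_nonunits_iff, ← isUnit_iff_of_mem_iff hA]
    exact hx
  · conv_lhs => rw [← hμ]
    rw [Ideal.span_le]
    intro x hx
    refine Ideal.mem_map_of_mem (algebraMap A Λ) (x := (⟨x, hμA hx⟩ : A)) ?_
    rw [IsLocalRing.mem_maximalIdeal, mem_nonunits_iff, isUnit_iff_of_mem_iff hA, ← mem_nonunits_iff,
      ← IsLocalRing.mem_maximalIdeal, ← hμ]
    exact Ideal.subset_span hx

end Props

/-- Artinian descends along faithfully flat maps. -/
theorem isArtinianRing_of_faithfullyFlat (A B : Type u) [CommRing A] [CommRing B] [Algebra A B]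
    [Module.FaithfullyFlat A B] [IsArtinianRing B] : IsArtinianRing A := by
  have hinj : Function.Injective (fun I : Ideal A => I.map (algebraMap A B)) := fun I J h => by
    rw [← Ideal.comap_map_eq_self_of_faithfullyFlat (B := B) I,
      ← Ideal.comap_map_eq_self_of_faithfullyFlat (B := B) J]
    exact congrArg (Ideal.comap (algebraMap A B)) h
  have hmono : StrictMono (fun I : Ideal A => I.map (algebraMap A B)) :=
    Monotone.strictMono_of_injective (fun _ _ => Ideal.map_mono) hinj
  rw [isArtinianRing_iff, isArtinian_iff]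
  exact (hmono.wellFoundedLT).wf

end Groth.Agent.H9Popescu
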