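import Groth.Agent.H05EGA4.FieldSmooth
import Mathlib.RingTheory.MvPolynomial.Ideal
import Mathlib.Algebra.MvPolynomial.PDeriv
import Mathlib.RingTheory.RegularLocalRing.Polynomial

/-!
# Parameters of a polynomial model inside a formally smooth local ring
-/

set_option autoImplicit false
set_option linter.style.haveILetI false

universe u

open IsLocalRing

namespace Groth.Agent.H9Popescu

/-- A function obeying the Leibniz rule and killing constants is determined by the variables. -/
theorem leibniz_pderiv {k σ K : Type u} [CommRing k] [Fintype σ] [CommRing K] (r : MvPolynomial σ k →+* K)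
    (G : MvPolynomial σ k → K) (hadd : ∀ f g, G (f + g) = G f + G g) (hC : ∀ a, G (MvPolynomial.C a) = 0)
    (hmul : ∀ f g, G (f * g) = r f * G g + r g * G f) (f : MvPolynomial σ k) :
    G f = ∑ i, r (MvPolynomial.pderiv i f) * G (MvPolynomial.X i) := by
  classical
  induction f using MvPolynomial.induction_on with
  | C a => simp [hC]
  | add f g hf hg => simp [hadd, hf, hg, add_mul, Finset.sum_add_distrib]
  | mul_X f j hf =>
    rw [hmul, hf, Finset.mul_sum]
    simp only [MvPolynomial.pderiv_mul, map_add, map_mul, add_mul, Finset.sum_add_distrib]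
    rw [add_comm]
    congr 1
    · exact Finset.sum_congr rfl fun i _ => by ring
    · rw [Finset.sum_eq_single j]
      · simp
      · intro i _ hij
        simp [MvPolynomial.pderiv_X, Pi.single_eq_of_ne hij.symm]
      · exact fun h => absurd (Finset.mem_univ j) h

/-- An additive derivation dual to given independent elements of the cotangent space. -/
theorem exists_dual_derivation {P : Type u} [CommRing P] [IsLocalRing P] {F : Type u} [Field F] [Algebra F P]
    [Algebra.FormallySmooth F (ResidueField P)] {r : ℕ} (x : Fin r → maximalIdeal P)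
    (hx : LinearIndependent (ResidueField P) fun l => (maximalIdeal P).toCotangent (x l)) (l₀ : Fin r) :
    ∃ D : P → ResidueField P, (∀ a b, D (a + b) = D a + D b) ∧
      (∀ a b, D (a * b) = residue P a * D b + residue P b * D a) ∧
      ∀ l, D (x l) = if l = l₀ then 1 else 0 := by
  classical
  let m := maximalIdeal P
  obtain ⟨ψ, hψ⟩ : ∃ ψ : CotangentSpace P →ₗ[ResidueField P] ResidueField P,
      ∀ l, ψ (m.toCotangent (x l)) = if l = l₀ then 1 else 0 := by
    let b := Module.Basis.extend hx.linearIndepOn_id
    refine ⟨b.constr (ResidueField P) (fun v => if (v : m.Cotangent) = m.toCotangent (x l₀) then 1 else 0),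
      fun l => ?_⟩
    have hl : m.toCotangent (x l) ∈ hx.linearIndepOn_id.extend (Set.subset_univ _) :=
      hx.linearIndepOn_id.subset_extend _ ⟨l, rfl⟩
    have hb : b ⟨_, hl⟩ = m.toCotangent (x l) := Module.Basis.extend_apply_self _ ⟨_, hl⟩
    conv_lhs => rw [← hb]
    rw [Module.Basis.constr_basis]
    by_cases h : l = l₀
    · subst h
      rw [if_pos rfl, if_pos rfl]
    · rw [if_neg h, if_neg fun hh => h (hx.injective hh)]
  let π : P ⧸ m ^ 2 →ₐ[F] ResidueField P :=
    Ideal.Quotient.factorₐ F (Ideal.pow_le_self two_ne_zero)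
  have hπ : Function.Surjective π :=
    Ideal.Quotient.factor_surjective (Ideal.pow_le_self two_ne_zero : m ^ 2 ≤ m)
  have hker : IsNilpotent (RingHom.ker (π : P ⧸ m ^ 2 →+* ResidueField P)) := by
    refine ⟨2, ?_⟩
    show RingHom.ker (Ideal.Quotient.factor (Ideal.pow_le_self two_ne_zero : m ^ 2 ≤ m)) ^ 2 = 0
    rw [Ideal.Quotient.factor_ker, ← Ideal.map_pow, Ideal.map_quotient_self]
    rfl
  let σ := Algebra.FormallySmooth.liftOfSurjective (AlgHom.id F (ResidueField P)) π hπ hker
  have hσ : ∀ c, π (σ c) = c := fun c =>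
    Algebra.FormallySmooth.liftOfSurjective_apply (AlgHom.id F (ResidueField P)) π hπ hker c
  choose s hs using fun c => Ideal.Quotient.mk_surjective (σ c)
  have hres : ∀ c, residue P (s c) = c := fun c => by
    have := hσ c
    rw [← hs] at this
    exact this
  have hmem : ∀ a, a - s (residue P a) ∈ m := fun a => by
    rw [← residue_eq_zero_iff, map_sub, hres, sub_self]
  let D : P → ResidueField P := fun a => ψ (m.toCotangent ⟨_, hmem a⟩)
  have hsm : ∀ c c', s (c * c') - s c * s c' ∈ m ^ 2 := fun c c' => by
    rw [← Ideal.Quotient.eq, map_mul, hs, hs, hs, map_mul]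
  have hsa : ∀ c c', s (c + c') - (s c + s c') ∈ m ^ 2 := fun c c' => by
    rw [← Ideal.Quotient.eq, map_add, hs, hs, hs, map_add]
  refine ⟨D, fun a b => ?_, fun a b => ?_, fun l => ?_⟩
  · show ψ _ = ψ _ + ψ _
    rw [← map_add, ← map_add]
    refine congrArg ψ ((Ideal.toCotangent_eq _).2 ?_)
    show a + b - s (residue P (a + b)) - (a - s (residue P a) + (b - s (residue P b))) ∈ m ^ 2
    have := neg_mem (hsa (residue P a) (residue P b))
    rw [map_add]
    convert this using 1
    ring
  · have h1 : ∀ (c : P) (v : CotangentSpace P), residue P c * ψ v = ψ (c • v) := fun c v => by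
      rw [← IsScalarTower.algebraMap_smul (ResidueField P) c v, map_smul]
      rfl
    show ψ _ = residue P a * ψ _ + residue P b * ψ _
    have h2 : ∀ (c : ResidueField P) (v : CotangentSpace P), c * ψ v = ψ (s c • v) := fun c v => by
      rw [← h1, hres]
    rw [h1 a, h2 (residue P b), ← map_smul m.toCotangent, ← map_smul m.toCotangent, ← map_add ψ, ← map_add m.toCotangent]
    refine congrArg ψ ((Ideal.toCotangent_eq _).2 ?_)
    show a * b - s (residue P (a * b)) - (a * (b - s (residue P b)) + s (residue P b) * (a - s (residue P a))) ∈ m ^ 2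
    have := neg_mem (hsm (residue P a) (residue P b))
    rw [map_mul]
    convert this using 1
    ring
  · show ψ _ = _
    rw [← hψ l]
    refine congrArg ψ ((Ideal.toCotangent_eq _).2 ?_)
    have h0 : residue P (x l : P) = 0 := (residue_eq_zero_iff _).2 (x l).2
    have h1 : s (0 : ResidueField P) ∈ m ^ 2 := by
      rw [← Ideal.Quotient.eq_zero_iff_mem, hs, map_zero]
    show (x l : P) - s (residue P (x l : P)) - (x l : P) ∈ m ^ 2
    rw [h0, sub_sub_cancel_left]
    exact neg_mem h1

/-- Independent cotangent vectors of a polynomial model stay independent. -/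
theorem exists_cotangent_independent {k L σ : Type u} [Field k] [Finite σ] {q : ℕ} [Fact q.Prime] [CharP k q]
    [CommRing L] [IsLocalRing L] [Algebra k L]
    (hext : ∀ D : Derivation ℤ k (ResidueField L), ∃ E : Derivation ℤ L (ResidueField L),
      ∀ t, E (algebraMap k L t) = D t)
    (ev : MvPolynomial σ k →ₐ[k] L)
    (hpd : ∀ f ∈ (maximalIdeal L).comap ev, ∀ i, MvPolynomial.pderiv i f ∈ (maximalIdeal L).comap ev) :
    ∃ (r : ℕ) (γ : Fin r → MvPolynomial σ k), (∀ l, ev (γ l) ∈ maximalIdeal L) ∧
      (∃ s, ev s ∉ maximalIdeal L ∧ ∀ f, ev f ∈ maximalIdeal L → s * f ∈ Ideal.span (Set.range γ)) ∧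
      ∀ c : Fin r → L, ∑ l, c l * ev (γ l) ∈ maximalIdeal L ^ 2 → ∀ l, c l ∈ maximalIdeal L := by
  classical
  letI := Fintype.ofFinite σ
  let S := MvPolynomial σ k
  let p : Ideal S := (maximalIdeal L).comap ev
  let P := Localization.AtPrime p
  haveI : IsNoetherianRing P := IsLocalization.isNoetherianRing p.primeCompl _ inferInstance
  let F : Subfield k := ⊥
  haveI : CharP F q := (RingHom.charP_iff (algebraMap F k) (algebraMap F k).injective q).2 inferInstance
  haveI : PerfectRing F q := PerfectRing.ofSurjective F q fun x => ⟨x, Subtype.ext (by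
    have h : (⊥ : Subfield k) ≤ (frobenius k q).eqLocusField (RingHom.id k) := bot_le
    exact h x.2)⟩
  haveI : PerfectField F := PerfectRing.toPerfectField F q
  haveI : Algebra.FormallySmooth F (ResidueField P) :=
    H05EGA4.formallySmooth_of_perfectField F (ResidueField P)
  let T : Set (maximalIdeal P) := {x | ∃ f : S, algebraMap S P f = (x : P)}
  have hT : Submodule.span P T = ⊤ := by
    refine eq_top_iff.2 fun x _ => ?_
    obtain ⟨f, s, hfs⟩ := IsLocalization.exists_mk'_eq p.primeCompl (x : P)
    have hf : algebraMap S P f ∈ maximalIdeal P := by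
      rw [← IsLocalization.mk'_spec P f s, hfs]
      exact Ideal.mul_mem_right _ _ x.2
    rw [show x = (IsLocalization.mk' P (1 : S) s) • (⟨algebraMap S P f, hf⟩ : maximalIdeal P) from Subtype.ext (by
      show (x : P) = IsLocalization.mk' P (1 : S) s * algebraMap S P f
      rw [← hfs, mul_comm, IsLocalization.mul_mk'_eq_mk'_of_mul, mul_one])]
    exact Submodule.smul_mem _ _ (Submodule.subset_span ⟨f, rfl⟩)
  obtain ⟨V, hVT, hVspan, hVli⟩ := exists_linearIndependent (ResidueField P) ((maximalIdeal P).toCotangent '' T)
  rw [CotangentSpace.span_image_eq_top_iff.2 hT] at hVspan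
  haveI : Finite V := hVli.finite
  letI : Fintype V := Fintype.ofFinite V
  let e := (Fintype.equivFin V).symm
  have hlift : ∀ v : V, ∃ (f : S) (hf : algebraMap S P f ∈ maximalIdeal P),
      (maximalIdeal P).toCotangent ⟨_, hf⟩ = (v : CotangentSpace P) := fun v => by
    obtain ⟨⟨y, hy⟩, ⟨f, hfy⟩, hyv⟩ := hVT v.2
    subst hfy
    exact ⟨f, hy, hyv⟩
  choose g hgm hgv using hlift
  let γ : Fin (Fintype.card V) → S := fun l => g (e l)
  let x : Fin (Fintype.card V) → maximalIdeal P := fun l => ⟨algebraMap S P (γ l), hgm (e l)⟩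
  have hxv : ∀ l, (maximalIdeal P).toCotangent (x l) = (e l : CotangentSpace P) := fun l => hgv (e l)
  have hx : LinearIndependent (ResidueField P) fun l => (maximalIdeal P).toCotangent (x l) := by
    simp only [hxv]
    exact hVli.comp e e.injective
  have hγm : ∀ l, ev (γ l) ∈ maximalIdeal L := fun l =>
    (IsLocalization.AtPrime.to_map_mem_maximal_iff P p (γ l)).1 (x l).2
  refine ⟨_, γ, hγm, ?_, fun c hc l₀ => ?_⟩
  · have hgen : Submodule.span P (Set.range x) = ⊤ := by
      rw [← CotangentSpace.span_image_eq_top_iff, ← hVspan, ← Set.range_comp]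
      refine congrArg (Submodule.span _) (Set.ext fun v => ⟨?_, fun hv => ⟨e.symm ⟨v, hv⟩, ?_⟩⟩)
      · rintro ⟨l, rfl⟩
        show (maximalIdeal P).toCotangent (x l) ∈ V
        rw [hxv]
        exact (e l).2
      · show (maximalIdeal P).toCotangent (x _) = v
        rw [hxv, e.apply_symm_apply]
    have hloc : ∀ f ∈ p, ∃ s : p.primeCompl, (s : S) * f ∈ Ideal.span (Set.range γ) := fun f hf => by
      have hfm : algebraMap S P f ∈ maximalIdeal P := (IsLocalization.AtPrime.to_map_mem_maximal_iff P p f).2 hf
      have h : algebraMap S P f ∈ (Ideal.span (Set.range γ)).map (algebraMap S P) := by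
        rw [Ideal.map_span, ← Set.range_comp]
        have := Submodule.mem_map_of_mem (f := (maximalIdeal P).subtype)
          (show (⟨_, hfm⟩ : maximalIdeal P) ∈ Submodule.span P (Set.range x) from hgen ▸ trivial)
        rw [Submodule.map_span, ← Set.range_comp] at this
        exact this
      obtain ⟨s, hs, hsf⟩ := (IsLocalization.algebraMap_mem_map_algebraMap_iff p.primeCompl P _ _).1 h
      exact ⟨⟨s, hs⟩, hsf⟩
    obtain ⟨G, hG⟩ := (IsNoetherian.noetherian p : p.FG)
    have hG' : ∀ f : G, (f : S) ∈ p := fun f => hG ▸ Ideal.subset_span f.2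
    choose s hs using fun f : G => hloc f (hG' f)
    refine ⟨∏ f, (s f : S), fun h => ?_, fun f hf => ?_⟩
    · exact (∏ f, s f : p.primeCompl).2 (by rw [Submonoid.coe_finsetProd]; exact h)
    · have hf' : f ∈ p := hf
      rw [← hG] at hf'
      refine Submodule.span_induction (fun y hy => ?_) ?_ (fun y z _ _ hy hz => ?_) (fun a y _ hy => ?_) hf'
      · rw [Fintype.prod_eq_mul_prod_compl ⟨y, hy⟩, mul_comm (s ⟨y, hy⟩ : S), mul_assoc]
        exact Ideal.mul_mem_left _ _ (hs ⟨y, hy⟩)
      · rw [mul_zero]; exact zero_mem _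
      · rw [mul_add]; exact add_mem hy hz
      · rw [smul_eq_mul, mul_left_comm]; exact Ideal.mul_mem_left _ _ hy
  · obtain ⟨D, hDadd, hDmul, hDx⟩ := exists_dual_derivation (F := F) x hx l₀
    let r : S →+* ResidueField L := (residue L).comp ev.toRingHom
    have hunit : ∀ s : p.primeCompl, IsUnit (ev s) := fun s => notMem_maximalIdeal.1 s.2
    let j : P →+* L := IsLocalization.lift (g := ev.toRingHom) hunit
    have hj : ∀ f, j (algebraMap S P f) = ev f := fun f => IsLocalization.lift_eq _ f
    haveI : IsLocalHom j := ⟨fun a ha => by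
      obtain ⟨f, s, rfl⟩ := IsLocalization.exists_mk'_eq p.primeCompl a
      have h1 : IsUnit (ev f) := by
        rw [← hj, ← IsLocalization.mk'_spec P f s, map_mul]
        exact ha.mul (by rw [hj]; exact hunit s)
      have hf : f ∈ p.primeCompl := fun h => (mem_nonunits_iff.1 h) h1
      exact IsLocalization.mk'_eq_mul_mk'_one (M := p.primeCompl) (S := P) f s ▸
        (IsLocalization.map_units P ⟨f, hf⟩).mul (IsUnit.of_mul_eq_one (algebraMap S P s)
          (IsLocalization.mk'_spec P 1 s |>.trans (map_one _)))⟩
    let ι : ResidueField P →+* ResidueField L := ResidueField.map j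
    have hι : ∀ f, ι (residue P (algebraMap S P f)) = r f := fun f => by
      rw [ResidueField.map_residue, hj]
      rfl
    let D' : S → ResidueField L := fun f => ι (D (algebraMap S P f))
    have hD'add : ∀ f g, D' (f + g) = D' f + D' g := fun f g => by
      simp only [D', map_add, hDadd]
    have hD'mul : ∀ f g, D' (f * g) = r f * D' g + r g * D' f := fun f g => by
      simp only [D', map_mul, hDmul, map_add, hι]
    have hrC : ∀ a, r (MvPolynomial.C a) = algebraMap k (ResidueField L) a := fun a =>
      congrArg (residue L) (ev.commutes a)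
    let δ : Derivation ℤ k (ResidueField L) := Derivation.mk'
      (AddMonoidHom.mk' (fun a => D' (MvPolynomial.C a)) fun a b => by rw [map_add, hD'add]).toIntLinearMap
      fun a b => by
        show D' (MvPolynomial.C (a * b)) = a • D' (MvPolynomial.C b) + b • D' (MvPolynomial.C a)
        rw [map_mul, hD'mul, hrC, hrC, Algebra.smul_def, Algebra.smul_def]
    obtain ⟨E, hE⟩ := hext δ
    have hEmul : ∀ a b, E (a * b) = residue L a * E b + residue L b * E a := fun a b => by
      rw [E.leibniz, Algebra.smul_def, Algebra.smul_def]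
      rfl
    have hkey : ∀ f, ev f ∈ maximalIdeal L → E (ev f) = D' f := fun f hf => by
      have h := leibniz_pderiv r (fun f => E (ev f) - D' f)
        (fun f g => by simp only [map_add, hD'add]; ring)
        (fun a => by
          show E (ev (algebraMap k S a)) - D' _ = 0
          rw [ev.commutes, hE]
          exact sub_self _)
        (fun f g => by
          simp only [map_mul, hEmul, hD'mul]
          show residue L (ev f) * _ + residue L (ev g) * _ - _ = _
          simp only [r, RingHom.comp_apply, AlgHom.toRingHom_eq_coe, RingHom.coe_coe]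
          ring) f
      rw [Finset.sum_eq_zero fun i _ => ?_, sub_eq_zero] at h
      · exact h
      · rw [show r (MvPolynomial.pderiv i f) = 0 from (residue_eq_zero_iff _).2 (hpd f hf i), zero_mul]
    have hsq : ∀ z ∈ maximalIdeal L ^ 2, E z = 0 := fun z hz => by
      rw [pow_two] at hz
      refine Submodule.mul_induction_on hz (fun a ha b hb => ?_) fun a b ha hb => by rw [map_add, ha, hb, add_zero]
      rw [hEmul, (residue_eq_zero_iff a).2 ha, (residue_eq_zero_iff b).2 hb, zero_mul, zero_mul, add_zero]
    have h0 := hsq _ hc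
    rw [map_sum] at h0
    rw [Finset.sum_congr rfl fun l _ => show E (c l * ev (γ l)) = if l = l₀ then residue L (c l) else 0 by
      rw [hEmul, (residue_eq_zero_iff _).2 (hγm l), zero_mul, add_zero, hkey _ (hγm l)]
      show _ * ι (D (x l : P)) = _
      rw [hDx]
      split_ifs <;> simp] at h0
    rw [Finset.sum_ite_eq' Finset.univ l₀, if_pos (Finset.mem_univ _)] at h0
    exact (residue_eq_zero_iff _).1 h0

end Groth.Agent.H9Popescu
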