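import Groth.Agent.H02CA.RegularHom
import Mathlib.RingTheory.Nilpotent.GeometricallyReduced
import Mathlib.RingTheory.Artinian.Ring
import Mathlib.RingTheory.DiscreteValuationRing.Basic
import Mathlib.RingTheory.Flat.TorsionFree

/-!
Unramified extensions of discrete valuation rings with separable residue and fraction field extensions are regular.
-/

set_option autoImplicit false
set_option linter.style.haveILetI false
universe u
open TensorProduct IsLocalRing

namespace Groth.Agent.H9Popescu

/-- Reduced Artinian rings are regular. -/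
theorem isRegularRing_of_isArtinian_isReduced (T : Type u) [CommRing T] [IsArtinianRing T] [IsReduced T] :
    IsRegularRing T := by
  haveI : IsNoetherianRing T := inferInstance
  rw [isRegularRing_iff]
  intro P _
  haveI : IsArtinianRing (Localization.AtPrime P) :=
    (IsArtinianRing.localization_surjective P.primeCompl (Localization.AtPrime P)).isArtinianRing
  letI := (IsArtinianRing.isField_of_isReduced_of_isLocalRing (Localization.AtPrime P)).toField
  infer_instance

/-- A finite extension tensored with a geometrically reduced field extension is regular. -/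
theorem isRegularRing_tensor_of_isGeometricallyReduced (k k' L : Type u) [Field k] [Field k'] [Field L]
    [Algebra k k'] [Module.Finite k k'] [Algebra k L] [Algebra.IsGeometricallyReduced k L] :
    IsRegularRing (k' ⊗[k] L) := by
  haveI : Algebra.IsAlgebraic k k' := Algebra.IsAlgebraic.of_finite k k'
  haveI : IsReduced (k' ⊗[k] L) := inferInstance
  haveI : IsArtinianRing (L ⊗[k] k') := IsArtinianRing.of_finite L _
  haveI : IsArtinianRing (k' ⊗[k] L) :=
    (Algebra.TensorProduct.comm k L k').surjective.isArtinianRing
      (f := (Algebra.TensorProduct.comm k L k').toRingEquiv.toRingHom)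
  exact isRegularRing_of_isArtinian_isReduced _

/-- Fibres described by a geometrically reduced field extension are regular. -/
theorem isRegularRing_tensor_of_bijective {R Λ κ L : Type u} [CommRing R] [CommRing Λ] [Field κ] [Field L]
    [Algebra R Λ] [Algebra R κ] [Algebra κ L] [Algebra R L] [IsScalarTower R κ L]
    [Algebra.IsGeometricallyReduced κ L] (f : Λ →ₐ[R] L)
    (hf : Function.Bijective (Algebra.TensorProduct.lift (Algebra.ofId κ L) f fun _ _ => Commute.all _ _))
    (k' : Type u) [Field k'] [Algebra κ k'] [Algebra R k'] [IsScalarTower R κ k'] [Module.Finite κ k'] :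
    IsRegularRing (k' ⊗[R] Λ) := by
  haveI := isRegularRing_tensor_of_isGeometricallyReduced κ k' L
  let e : κ ⊗[R] Λ ≃ₐ[κ] L := AlgEquiv.ofBijective _ hf
  let e' : k' ⊗[κ] L ≃+* k' ⊗[R] Λ :=
    ((Algebra.TensorProduct.congr (AlgEquiv.refl : k' ≃ₐ[κ] k') e.symm).toRingEquiv).trans
      (Algebra.TensorProduct.cancelBaseChange R κ k' k' Λ).toRingEquiv
  exact IsRegularRing.of_ringEquiv e'

/-- An extension of discrete valuation rings of ramification index one with geometrically reduced
residue and fraction field extensions is regular. -/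
theorem isRegularHom_of_discreteValuationRing {R Λ K L : Type u} [CommRing R] [IsDomain R]
    [IsDiscreteValuationRing R] [CommRing Λ] [IsDomain Λ] [IsDiscreteValuationRing Λ] [Algebra R Λ]
    [IsLocalHom (algebraMap R Λ)] (hinj : Function.Injective (algebraMap R Λ))
    (he : (maximalIdeal R).map (algebraMap R Λ) = maximalIdeal Λ)
    [Algebra.IsGeometricallyReduced (ResidueField R) (ResidueField Λ)]
    [Field K] [Algebra R K] [IsFractionRing R K] [Field L] [Algebra Λ L] [IsFractionRing Λ L]
    [Algebra K L] [Algebra R L] [IsScalarTower R K L] [IsScalarTower R Λ L]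
    [Algebra.IsGeometricallyReduced K L] : CAlg.IsRegularHom R Λ := by
  obtain ⟨ϖ, hϖ⟩ := IsDiscreteValuationRing.exists_irreducible R
  have hΛ : maximalIdeal Λ = Ideal.span {algebraMap R Λ ϖ} := by
    rw [← he, hϖ.maximalIdeal_eq, Ideal.map_span, Set.image_singleton]
  haveI : Module.IsTorsionFree R Λ := (Module.isTorsionFree_iff_algebraMap_injective (R := R) (A := Λ)).2 hinj
  haveI : Module.Flat R Λ := inferInstance
  refine H02CA.isRegularHom_of_forall (fun p _ => ?_) fun p _ k' _ _ _ _ _ => ?_
  · haveI : IsNoetherianRing (Λ ⊗[R] p.ResidueField) := Algebra.EssFiniteType.isNoetherianRing Λ _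
    exact isNoetherianRing_of_ringEquiv _ (Algebra.TensorProduct.comm R Λ p.ResidueField).toRingEquiv
  rcases eq_or_ne p ⊥ with rfl | hp
  · -- the generic fibre
    letI : Algebra K k' := RingHom.toAlgebra <| (algebraMap (⊥ : Ideal R).ResidueField k').comp
      (IsFractionRing.lift (K := K) (g := algebraMap R (⊥ : Ideal R).ResidueField) ((injective_iff_map_eq_zero _).2
        fun x hx => by simpa using hx))
    haveI : IsScalarTower R K k' := IsScalarTower.of_algebraMap_eq fun r => by
      rw [RingHom.algebraMap_toAlgebra, RingHom.comp_apply, IsFractionRing.lift_algebraMap,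
        ← IsScalarTower.algebraMap_apply]
    haveI : Module.Finite K k' := by
      haveI : Algebra.EssFiniteType R k' := Algebra.EssFiniteType.comp R (⊥ : Ideal R).ResidueField k'
      haveI : Algebra.EssFiniteType K k' := Algebra.EssFiniteType.of_comp R K k'
      haveI : Algebra.FiniteType K k' := by
        letI : Algebra K (⊥ : Ideal R).ResidueField := (IsFractionRing.lift (K := K)
          (g := algebraMap R (⊥ : Ideal R).ResidueField) ((injective_iff_map_eq_zero _).2
            fun x hx => by simpa using hx)).toAlgebra
        haveI : IsScalarTower K (⊥ : Ideal R).ResidueField k' := .of_algebraMap_eq' rfl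
        have hs : Function.Surjective (algebraMap K (⊥ : Ideal R).ResidueField) := fun x => by
          obtain ⟨a, b, hb, rfl⟩ := IsFractionRing.div_surjective (R ⧸ (⊥ : Ideal R)) x
          obtain ⟨a, rfl⟩ := Ideal.Quotient.mk_surjective a
          obtain ⟨b, rfl⟩ := Ideal.Quotient.mk_surjective b
          refine ⟨algebraMap R K a / algebraMap R K b, ?_⟩
          rw [RingHom.algebraMap_toAlgebra, map_div₀, IsFractionRing.lift_algebraMap,
            IsFractionRing.lift_algebraMap]
          rfl
        haveI : Module.Finite K (⊥ : Ideal R).ResidueField :=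
          Module.Finite.of_surjective (Algebra.linearMap K (⊥ : Ideal R).ResidueField) hs
        haveI : Module.Finite K k' := Module.Finite.trans (⊥ : Ideal R).ResidueField k'
        infer_instance
      exact finite_of_finite_type_of_isJacobsonRing K k'
    let f : Λ →ₐ[R] L := IsScalarTower.toAlgHom R Λ L
    refine isRegularRing_tensor_of_bijective (κ := K) f ⟨(injective_iff_map_eq_zero _).2 fun x hx => ?_, fun y => ?_⟩ k'
    · have hrep : ∃ (s : R) (a : Λ), s ≠ 0 ∧ x = (algebraMap R K s)⁻¹ ⊗ₜ[R] a := by
        clear hx
        induction x with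
        | zero => exact ⟨1, 0, one_ne_zero, by simp⟩
        | tmul k a =>
          obtain ⟨r, s, hs, rfl⟩ := IsFractionRing.div_surjective R k
          refine ⟨s, r • a, nonZeroDivisors.ne_zero hs, ?_⟩
          rw [← TensorProduct.smul_tmul, Algebra.smul_def, div_eq_mul_inv]
        | add u v hu hv =>
          obtain ⟨s, a, hs, rfl⟩ := hu
          obtain ⟨t, b, ht, rfl⟩ := hv
          refine ⟨s * t, t • a + s • b, mul_ne_zero hs ht, ?_⟩
          have hs' : algebraMap R K s ≠ 0 := by simpa using hs
          have ht' : algebraMap R K t ≠ 0 := by simpa using ht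
          rw [TensorProduct.tmul_add, ← TensorProduct.smul_tmul, ← TensorProduct.smul_tmul]
          congr 2 <;> rw [Algebra.smul_def, map_mul] <;> field_simp
      obtain ⟨s, a, hs, rfl⟩ := hrep
      rw [Algebra.TensorProduct.lift_tmul, mul_eq_zero] at hx
      rcases hx with hx | hx
      · rw [Algebra.ofId_apply, map_eq_zero, inv_eq_zero, ← map_zero (algebraMap R K)] at hx
        exact absurd (IsFractionRing.injective R K hx) hs
      · rw [show a = 0 from IsFractionRing.injective Λ L (hx.trans (map_zero _).symm), TensorProduct.tmul_zero]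
    · obtain ⟨a, b, hb, rfl⟩ := IsFractionRing.div_surjective Λ y
      have hϖ' : Irreducible (algebraMap R Λ ϖ) :=
        (IsDiscreteValuationRing.irreducible_iff_uniformizer _).2 hΛ
      obtain ⟨n, v, rfl⟩ := IsDiscreteValuationRing.eq_unit_mul_pow_irreducible (nonZeroDivisors.ne_zero hb) hϖ'
      refine ⟨((algebraMap R K ϖ) ^ n)⁻¹ ⊗ₜ (a * ↑v⁻¹), ?_⟩
      have h1 : algebraMap Λ L (v : Λ) * algebraMap Λ L ↑v⁻¹ = 1 := by
        rw [← map_mul, Units.mul_inv, map_one]
      rw [Algebra.TensorProduct.lift_tmul, Algebra.ofId_apply, map_inv₀, map_pow,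
        ← IsScalarTower.algebraMap_apply, IsScalarTower.algebraMap_apply R Λ L]
      show ((algebraMap Λ L (algebraMap R Λ ϖ)) ^ n)⁻¹ * algebraMap Λ L (a * ↑v⁻¹) = _
      rw [map_mul, map_mul, map_pow, div_eq_mul_inv, mul_inv, eq_inv_of_mul_eq_one_left h1, inv_inv]
      ring
  · -- the closed fibre
    obtain rfl : p = maximalIdeal R := eq_maximalIdeal (Ideal.IsPrime.isMaximal inferInstance hp)
    let ψ : ResidueField R →+* (maximalIdeal R).ResidueField :=
      Ideal.Quotient.lift (maximalIdeal R) (algebraMap R _) fun x hx => by
        simpa using hx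
    letI : Algebra (ResidueField R) k' := ((algebraMap (maximalIdeal R).ResidueField k').comp ψ).toAlgebra
    haveI : IsScalarTower R (ResidueField R) k' := IsScalarTower.of_algebraMap_eq fun r => by
      show _ = algebraMap (maximalIdeal R).ResidueField k' (ψ (Ideal.Quotient.mk _ r))
      exact IsScalarTower.algebraMap_apply R (maximalIdeal R).ResidueField k' r
    haveI : Module.Finite (ResidueField R) k' := by
      letI : Algebra (ResidueField R) (maximalIdeal R).ResidueField := ψ.toAlgebra
      haveI : IsScalarTower (ResidueField R) (maximalIdeal R).ResidueField k' := .of_algebraMap_eq' rfl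
      have hs : Function.Surjective ψ := fun x => by
        obtain ⟨y, rfl⟩ := Ideal.algebraMap_residueField_surjective (maximalIdeal R) x
        exact ⟨Ideal.Quotient.mk _ y, Ideal.Quotient.lift_mk _ _ _⟩
      haveI : Module.Finite (ResidueField R) (maximalIdeal R).ResidueField :=
        Module.Finite.of_surjective (Algebra.linearMap (ResidueField R) (maximalIdeal R).ResidueField) hs
      exact Module.Finite.trans (maximalIdeal R).ResidueField k'
    let f : Λ →ₐ[R] ResidueField Λ := IsScalarTower.toAlgHom R Λ (ResidueField Λ)
    refine isRegularRing_tensor_of_bijective (κ := ResidueField R) f ⟨(injective_iff_map_eq_zero _).2 fun x hx => ?_, fun y => ?_⟩ k'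
    · have hrep : ∃ a : Λ, x = 1 ⊗ₜ[R] a := by
        clear hx
        induction x with
        | zero => exact ⟨0, by simp⟩
        | tmul k a =>
          obtain ⟨r, rfl⟩ := IsLocalRing.residue_surjective k
          exact ⟨r • a, by rw [← TensorProduct.smul_tmul, Algebra.smul_def, mul_one]; rfl⟩
        | add u v hu hv =>
          obtain ⟨a, rfl⟩ := hu; obtain ⟨b, rfl⟩ := hv
          exact ⟨a + b, (TensorProduct.tmul_add _ _ _).symm⟩
      obtain ⟨a, rfl⟩ := hrep
      rw [Algebra.TensorProduct.lift_tmul, map_one, one_mul] at hx
      have ha : a ∈ maximalIdeal Λ := (residue_eq_zero_iff a).1 hx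
      rw [hΛ] at ha
      obtain ⟨b, rfl⟩ := Ideal.mem_span_singleton'.1 ha
      rw [mul_comm, ← Algebra.smul_def, ← TensorProduct.smul_tmul, Algebra.smul_def, mul_one,
        show algebraMap R (ResidueField R) ϖ = 0 from (residue_eq_zero_iff ϖ).2 (mem_maximalIdeal _ |>.2 hϖ.not_isUnit),
        TensorProduct.zero_tmul]
    · obtain ⟨a, rfl⟩ := IsLocalRing.residue_surjective y
      exact ⟨1 ⊗ₜ a, by rw [Algebra.TensorProduct.lift_tmul, map_one, one_mul]; rfl⟩

end Groth.Agent.H9Popescu
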