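import Groth.Agent.H9Smooth.Standard
import Mathlib.RingTheory.Localization.AtPrime.Basic
import Mathlib.RingTheory.Polynomial.Basic

/-!
# Descending a resolution from the local ring
-/

set_option linter.style.haveILetI false

universe u

open TensorProduct MvPolynomial

namespace Groth.Agent.H9Popescu

/-- Homogenization. -/
theorem exists_homog {A : Type u} [CommRing A] {N : ℕ} (g : MvPolynomial (Fin N) A) :
    ∃ (d : ℕ) (G : MvPolynomial (Option (Fin N)) A), ∀ (B : Type u) [CommRing B] (ι : A →+* B) (t : B)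
      (y : Fin N → B), eval₂Hom ι (fun o => o.elim t fun i => t * y i) G = t ^ d * eval₂Hom ι y g := by
  induction g using MvPolynomial.induction_on with
  | C a => exact ⟨0, MvPolynomial.C a, fun B _ ι t y => by simp⟩
  | add p q hp hq =>
    obtain ⟨d₁, G₁, h₁⟩ := hp
    obtain ⟨d₂, G₂, h₂⟩ := hq
    refine ⟨d₁ + d₂, G₁ * X none ^ d₂ + G₂ * X none ^ d₁, fun B _ ι t y => ?_⟩
    simp only [map_add, map_mul, map_pow, h₁, h₂, eval₂Hom_X', Option.elim_none]
    ring
  | mul_X p i hp =>
    obtain ⟨d, G, h⟩ := hp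
    refine ⟨d + 1, G * X (some i), fun B _ ι t y => ?_⟩
    simp only [map_mul, h, eval₂Hom_X', Option.elim_some]
    ring

/-- A smooth image point keeps the singular ideal out of a prime. -/
theorem not_map_singularIdeal_le {R C Λ : Type u} [CommRing R] [CommRing C] [Algebra R C]
    [Algebra.FinitePresentation R C] [CommRing Λ] (h : C →+* Λ) (𝔮 : Ideal Λ) [𝔮.IsPrime]
    (hsm : Algebra.IsSmoothAt R (𝔮.comap h)) : ¬ (Smoothing.singularIdeal R C).map h ≤ 𝔮 := fun hle => by
  haveI := hsm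
  obtain ⟨f, hf, hfs⟩ := Algebra.IsSmoothAt.exists_notMem_smooth R (𝔮.comap h)
  exact hf (hle (Ideal.mem_map_of_mem h
    (H9Smooth.mem_singularIdeal (Algebra.basicOpen_subset_smoothLocus_iff_smooth.mpr hfs))))

/-- Descending a resolution from the local ring. -/
theorem descend {R A Λ Rₚ Λq : Type u} [CommRing R] [IsNoetherianRing R] [CommRing A]
    [Algebra R A] [Algebra.FinitePresentation R A] [CommRing Λ] [Algebra R Λ] (φ : A →ₐ[R] Λ)
    (𝔮 : Ideal Λ) [𝔮.IsPrime]
    [CommRing Rₚ] [Algebra R Rₚ] [IsLocalization.AtPrime Rₚ (𝔮.comap (algebraMap R Λ))]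
    [CommRing Λq] [Algebra Λ Λq] [IsLocalization.AtPrime Λq 𝔮] [Algebra R Λq] [IsScalarTower R Λ Λq]
    [Algebra Rₚ Λq] [IsScalarTower R Rₚ Λq]
    (hres : Smoothing.Resolvable Rₚ
      (Algebra.TensorProduct.lift (Algebra.ofId Rₚ Λq) ((IsScalarTower.toAlgHom R Λ Λq).comp φ)
        (fun _ _ => Commute.all _ _) : Rₚ ⊗[R] A →ₐ[Rₚ] Λq) (𝔮.map (algebraMap Λ Λq))) :
    ∃ (C : Type u) (_ : CommRing C) (_ : Algebra R C), Algebra.FinitePresentation R C ∧
      ∃ (g : A →ₐ[R] C) (h : C →ₐ[R] Λ), h.comp g = φ ∧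
        ¬ (Smoothing.singularIdeal R C).map h ≤ 𝔮 := by
  classical
  haveI : IsLocalRing Λq := IsLocalization.AtPrime.isLocalRing Λq 𝔮
  obtain ⟨C, _, _, hCfp, gC, hC, hgh, -, hnle⟩ := hres
  haveI := hCfp
  have hmax : 𝔮.map (algebraMap Λ Λq) = IsLocalRing.maximalIdeal Λq := IsLocalization.AtPrime.map_eq_maximalIdeal 𝔮 Λq
  haveI : (𝔮.map (algebraMap Λ Λq)).IsPrime := hmax ▸ inferInstance
  let QC : Ideal C := (𝔮.map (algebraMap Λ Λq)).comap hC.toRingHom
  haveI : QC.IsPrime := Ideal.IsPrime.comap _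
  have hsmC : Algebra.IsSmoothAt Rₚ QC := by
    by_contra hns
    refine hnle (Ideal.IsRadical.radical_le_iff (Ideal.IsPrime.isRadical inferInstance) |>.mpr
      (Ideal.map_le_iff_le_comap.mpr fun c hc => ?_))
    rw [Smoothing.singularIdeal, PrimeSpectrum.mem_vanishingIdeal] at hc
    exact hc ⟨QC, inferInstance⟩ hns
  letI : Algebra R C := ((algebraMap Rₚ C).comp (algebraMap R Rₚ)).toAlgebra
  haveI : IsScalarTower R Rₚ C := IsScalarTower.of_algebraMap_eq' rfl
  let γ : A →ₐ[R] C := (gC.restrictScalars R).comp Algebra.TensorProduct.includeRight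
  have hγ : ∀ a, hC (γ a) = algebraMap Λ Λq (φ a) := fun a => by
    show hC (gC (1 ⊗ₜ a)) = _
    rw [← AlgHom.comp_apply, hgh, Algebra.TensorProduct.lift_tmul, map_one, one_mul]
    rfl
  obtain ⟨N, Y, hY⟩ := (Algebra.FiniteType.iff_quotient_mvPolynomial'' (R := Rₚ) (S := C)).mp inferInstance
  let Yv : Fin N → C := fun i => Y (X i)
  let χ : MvPolynomial (Fin N) A →ₐ[R] C :=
    { eval₂Hom γ.toRingHom Yv with
      commutes' := fun r => by
        show eval₂Hom γ.toRingHom Yv (MvPolynomial.C (algebraMap R A r)) = _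
        rw [eval₂Hom_C]
        exact γ.commutes r }
  have hχC : ∀ a, χ (MvPolynomial.C a) = γ a := fun a => eval₂Hom_C _ _ a
  have hχX : ∀ i, χ (X i) = Yv i := fun i => eval₂Hom_X' _ _ i
  let K := RingHom.ker χ
  let C₁ := MvPolynomial (Fin N) A ⧸ K
  letI : Algebra C₁ C := (Ideal.Quotient.liftₐ K χ fun x hx => hx).toRingHom.toAlgebra
  haveI : IsScalarTower R C₁ C := ⟨fun r y z => by
    obtain ⟨y, rfl⟩ := Ideal.Quotient.mk_surjective y
    show χ (r • y) * z = r • (χ y * z)
    rw [map_smul, smul_mul_assoc]⟩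
  let p := 𝔮.comap (algebraMap R Λ)
  haveI : IsLocalization (Algebra.algebraMapSubmonoid C₁ p.primeCompl) C := by
    refine (isLocalization_iff _ _).mpr ⟨?_, fun c => ?_, fun {x y} hxy => ?_⟩
    · rintro ⟨_, s, hs, rfl⟩
      rw [← IsScalarTower.algebraMap_apply R C₁ C, IsScalarTower.algebraMap_apply R Rₚ C]
      exact (IsLocalization.map_units Rₚ (⟨s, hs⟩ : p.primeCompl)).map _
    · obtain ⟨q, rfl⟩ := hY c
      suffices ∃ s ∈ p.primeCompl, ∃ x : MvPolynomial (Fin N) A, Y q * algebraMap R C s = χ x by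
        obtain ⟨s, hs, x, hx⟩ := this
        refine ⟨(Ideal.Quotient.mk K x, ⟨algebraMap R C₁ s, s, hs, rfl⟩), ?_⟩
        show Y q * algebraMap C₁ C (algebraMap R C₁ s) = χ x
        rw [← IsScalarTower.algebraMap_apply, hx]
      induction q using MvPolynomial.induction_on with
      | C a =>
        obtain ⟨⟨r, s⟩, hrs⟩ := IsLocalization.surj p.primeCompl a
        refine ⟨s, s.2, MvPolynomial.C (algebraMap R A r), ?_⟩
        rw [hχC, AlgHom.commutes, IsScalarTower.algebraMap_apply R Rₚ C, IsScalarTower.algebraMap_apply R Rₚ C,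
          ← MvPolynomial.algebraMap_eq, AlgHom.commutes, ← map_mul, hrs]
      | add q₁ q₂ h₁ h₂ =>
        obtain ⟨s₁, hs₁, x₁, hx₁⟩ := h₁
        obtain ⟨s₂, hs₂, x₂, hx₂⟩ := h₂
        refine ⟨s₁ * s₂, mul_mem hs₁ hs₂, s₂ • x₁ + s₁ • x₂, ?_⟩
        rw [map_add χ, map_smul χ, map_smul χ, ← hx₁, ← hx₂, Algebra.smul_def, Algebra.smul_def, map_add Y, map_mul]
        ring
      | mul_X q i h =>
        obtain ⟨s, hs, x, hx⟩ := h
        refine ⟨s, hs, x * X i, ?_⟩
        rw [map_mul χ, ← hx, hχX, map_mul Y]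
        ring
    · obtain ⟨x, rfl⟩ := Ideal.Quotient.mk_surjective x
      obtain ⟨y, rfl⟩ := Ideal.Quotient.mk_surjective y
      refine ⟨1, ?_⟩
      have : χ x = χ y := hxy
      rw [Ideal.Quotient.eq.mpr (show x - y ∈ K by rw [RingHom.mem_ker, map_sub, this, sub_self])]
  -- the local ring of the resolution
  let T := Localization.AtPrime QC
  let Q₁ : Ideal C₁ := QC.comap (algebraMap C₁ C)
  haveI : IsLocalization.AtPrime T Q₁ :=
    IsLocalization.isLocalization_isLocalization_atPrime_isLocalization (Algebra.algebraMapSubmonoid C₁ p.primeCompl) T QC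
  haveI : Algebra.FormallySmooth R Rₚ := Algebra.FormallySmooth.of_isLocalization p.primeCompl
  haveI : Algebra.FormallySmooth Rₚ T := hsmC
  haveI hT : Algebra.FormallySmooth R T := Algebra.FormallySmooth.comp R Rₚ T
  -- the global algebra
  obtain ⟨b, hb⟩ := IsLocalization.exist_integer_multiples_of_finite 𝔮.primeCompl fun i => hC (Yv i)
  choose y hy using hb
  haveI : IsNoetherianRing A := Algebra.FiniteType.isNoetherianRing R A
  obtain ⟨M, gs, hgs⟩ := Submodule.fg_iff_exists_fin_generating_family.mp (IsNoetherian.noetherian K)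
  choose d G hG using fun j => exists_homog (gs j)
  let yν : Option (Fin N) → Λ := fun o => o.elim (b : Λ) y
  have hgK : ∀ j, χ (gs j) = 0 := fun j => hgs.le (Ideal.subset_span ⟨j, rfl⟩)
  have hzero : ∀ j, algebraMap Λ Λq (eval₂Hom φ.toRingHom yν (G j)) = 0 := fun j => by
    have hfun : (fun o => algebraMap Λ Λq (yν o)) =
        fun o : Option (Fin N) => o.elim (algebraMap Λ Λq b) fun i => algebraMap Λ Λq b * hC (Yv i) := by
      funext o
      cases o with
      | none => rfl
      | some i =>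
        show algebraMap Λ Λq (y i) = _
        rw [hy i]
        exact Algebra.smul_def (b : Λ) (hC (Yv i))
    rw [map_eval₂Hom, hfun, hG]
    have : eval₂Hom ((algebraMap Λ Λq).comp φ.toRingHom) (fun i => hC (Yv i)) (gs j) = hC (χ (gs j)) := by
      refine Eq.trans ?_ (map_eval₂Hom γ.toRingHom Yv hC.toRingHom _).symm
      congr 2
      exact RingHom.ext fun a => (hγ a).symm
    rw [this, hgK, map_zero, mul_zero]
  choose μ hμ using fun j => (IsLocalization.map_eq_zero_iff 𝔮.primeCompl Λq _).mp (hzero j)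
  let μ₀ : Λ := ∏ j, (μ j : Λ)
  let val : Option (Option (Fin N)) → Λ := fun o => o.elim μ₀ yν
  let S : Ideal (MvPolynomial (Option (Option (Fin N))) A) :=
    Ideal.span (Set.range fun j => X none * rename some (G j))
  let C₂ := MvPolynomial (Option (Option (Fin N))) A ⧸ S
  haveI : Algebra.FinitePresentation A C₂ :=
    Algebra.FinitePresentation.quotient (Submodule.fg_span (Set.finite_range _))
  haveI hC₂ : Algebra.FinitePresentation R C₂ := Algebra.FinitePresentation.trans R A C₂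
  have hS : ∀ x ∈ S, eval₂Hom φ.toRingHom val x = 0 := fun x hx => by
    refine (Ideal.span_le.mpr ?_ : S ≤ RingHom.ker (eval₂Hom φ.toRingHom val)) hx
    rintro _ ⟨j, rfl⟩
    rw [SetLike.mem_coe, RingHom.mem_ker, map_mul, eval₂Hom_X', eval₂Hom_rename]
    obtain ⟨l, hl⟩ := Finset.dvd_prod_of_mem (fun j => (μ j : Λ)) (Finset.mem_univ j)
    show μ₀ * eval₂Hom φ.toRingHom yν (G j) = 0
    rw [show μ₀ = (μ j : Λ) * l from hl, mul_right_comm, hμ j, zero_mul]
  let h₂ : C₂ →ₐ[R] Λ :=
    { Ideal.Quotient.lift S (eval₂Hom φ.toRingHom val) hS with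
      commutes' := fun r => by
        show eval₂Hom φ.toRingHom val (MvPolynomial.C (algebraMap R A r)) = _
        rw [eval₂Hom_C]
        exact φ.commutes r }
  have hh₂ : ∀ x, h₂ (Ideal.Quotient.mk S x) = eval₂Hom φ.toRingHom val x := fun x => rfl
  refine ⟨C₂, inferInstance, inferInstance, hC₂, IsScalarTower.toAlgHom R A C₂, h₂, AlgHom.ext fun a => ?_,
    not_map_singularIdeal_le h₂.toRingHom 𝔮 ?_⟩
  · show eval₂Hom φ.toRingHom val (MvPolynomial.C a) = φ a
    rw [eval₂Hom_C]
    rfl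
  let Q : Ideal C₂ := 𝔮.comap h₂.toRingHom
  let T₂ := Localization.AtPrime Q
  let κ : T₂ →+* Λq := IsLocalization.lift (M := Q.primeCompl) (g := (algebraMap Λ Λq).comp h₂.toRingHom)
    fun s => IsLocalization.map_units Λq (⟨h₂ s, s.2⟩ : 𝔮.primeCompl)
  have hκ : ∀ x, κ (algebraMap C₂ T₂ x) = algebraMap Λ Λq (h₂ x) := fun x => IsLocalization.lift_eq _ x
  let mk₂ : MvPolynomial (Option (Option (Fin N))) A →+* T₂ := (algebraMap C₂ T₂).comp (Ideal.Quotient.mk S)
  have hunit : ∀ x, eval₂Hom φ.toRingHom val x ∉ 𝔮 → IsUnit (mk₂ x) := fun x hx =>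
    IsLocalization.map_units T₂ (⟨Ideal.Quotient.mk S x, hx⟩ : Q.primeCompl)
  obtain ⟨v, hv⟩ := hunit (X (some none)) (by rw [eval₂Hom_X']; exact b.2)
  have hwunit : IsUnit (mk₂ (X none)) := hunit _ (by
    rw [eval₂Hom_X']
    exact (𝔮.primeCompl).prod_mem fun j _ => (μ j).2)
  let ιA : A →+* T₂ := mk₂.comp MvPolynomial.C
  let η : MvPolynomial (Fin N) A →+* T₂ := eval₂Hom ιA fun i => ↑v⁻¹ * mk₂ (X (some (some i)))
  have hη : ∀ x ∈ K, η x = 0 := fun x hx => by
    refine (Ideal.span_le.mpr ?_ : Ideal.span (Set.range gs) ≤ RingHom.ker η) (hgs.ge hx)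
    rintro _ ⟨j, rfl⟩
    have h1 := hG j T₂ ιA v (fun i => ↑v⁻¹ * mk₂ (X (some (some i))))
    have h0 : mk₂ (X none * rename some (G j)) = 0 := by
      show algebraMap C₂ T₂ (Ideal.Quotient.mk S (X none * rename some (G j))) = 0
      have hm : X none * rename some (G j) ∈ S := Ideal.subset_span ⟨j, rfl⟩
      rw [Ideal.Quotient.eq_zero_iff_mem.mpr hm, map_zero]
    rw [map_mul, hwunit.mul_right_eq_zero] at h0
    have h2 : eval₂Hom ιA (fun o => o.elim (v : T₂) fun i => v * (↑v⁻¹ * mk₂ (X (some (some i))))) (G j) = 0 := by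
      refine Eq.trans ?_ h0
      refine DFunLike.congr_fun (show _ = mk₂.comp (rename some).toRingHom from
        MvPolynomial.ringHom_ext (fun a => by simp [ιA]) fun o => ?_) (G j)
      cases o with
      | none => simp [hv]
      | some i => simp
    rw [h2] at h1
    exact ((v.isUnit.pow (d j)).mul_right_eq_zero).mp h1.symm
  let η₁ : C₁ →+* T₂ := Ideal.Quotient.lift K η hη
  have hκη : ∀ x, κ (η₁ x) = hC (algebraMap C₁ C x) := fun x => by
    obtain ⟨x, rfl⟩ := Ideal.Quotient.mk_surjective x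
    show κ (η x) = hC (χ x)
    refine DFunLike.congr_fun (show κ.comp η = hC.toRingHom.comp χ.toRingHom from
      MvPolynomial.ringHom_ext (fun a => ?_) fun i => ?_) x
    · show κ (η (MvPolynomial.C a)) = hC (χ (MvPolynomial.C a))
      rw [hχC, hγ, eval₂Hom_C]
      show κ (algebraMap C₂ T₂ _) = _
      rw [hκ, hh₂, eval₂Hom_C]
      rfl
    · show κ (η (X i)) = hC (χ (X i))
      rw [hχX, eval₂Hom_X']
      refine (v.isUnit.map κ).mul_left_cancel ?_
      rw [← map_mul κ, Units.mul_inv_cancel_left, hv]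
      show κ (algebraMap C₂ T₂ _) = κ (algebraMap C₂ T₂ _) * _
      rw [hκ, hκ]
      show algebraMap Λ Λq (eval₂Hom φ.toRingHom val _) = algebraMap Λ Λq (eval₂Hom φ.toRingHom val _) * _
      erw [eval₂Hom_X', eval₂Hom_X']
      show algebraMap Λ Λq (y i) = _
      rw [hy i]
      exact Algebra.smul_def (b : Λ) (hC (Yv i))
  have hη₁unit : ∀ s : Q₁.primeCompl, IsUnit (η₁ s) := fun s => by
    obtain ⟨⟨x, t⟩, hxt⟩ := IsLocalization.surj Q.primeCompl (η₁ s)
    have h1 : h₂ x ∉ 𝔮 := fun hx => s.2 (show hC (algebraMap C₁ C s) ∈ 𝔮.map (algebraMap Λ Λq) by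
      have h := congrArg κ hxt
      rw [map_mul, hκη, hκ, hκ] at h
      exact ((Ideal.IsPrime.mem_or_mem inferInstance (h ▸ Ideal.mem_map_of_mem _ hx)).resolve_right fun ht => t.2
        ((IsLocalization.AtPrime.to_map_mem_maximal_iff Λq 𝔮 _).mp (hmax ▸ ht))))
    have h2 : IsUnit (η₁ s * algebraMap C₂ T₂ t) := hxt ▸ IsLocalization.map_units T₂ (⟨x, h1⟩ : Q.primeCompl)
    exact isUnit_of_mul_isUnit_left h2
  letI : Algebra T T₂ := (IsLocalization.lift (M := Q₁.primeCompl) hη₁unit).toAlgebra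
  have hTT₂ : ∀ x, algebraMap T T₂ (algebraMap C₁ T x) = η₁ x := fun x => IsLocalization.lift_eq _ x
  haveI : IsScalarTower R T T₂ := IsScalarTower.of_algebraMap_eq fun r => by
    rw [IsScalarTower.algebraMap_apply R C₁ T, hTT₂]
    show _ = η (MvPolynomial.C (algebraMap R A r))
    rw [eval₂Hom_C, IsScalarTower.algebraMap_apply R C₂ T₂]
    rfl
  haveI : Algebra.FormallySmooth T T₂ := by
    refine .of_comp_surjective fun B _ _ I hI f => ?_
    have hlift : ∀ x, ∃ z, Ideal.Quotient.mk I z = f (mk₂ x) := fun x => Ideal.Quotient.mk_surjective _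
    choose bw hbw using hlift
    have hbu : ∀ x, IsUnit (mk₂ x) → IsUnit (bw x) := fun x hx => by
      refine (IsNilpotent.isUnit_quotient_mk_iff ⟨2, hI⟩).mp ?_
      rw [hbw]
      exact hx.map f
    let ι' : MvPolynomial (Fin N) A →+* B := (algebraMap T B).comp ((algebraMap C₁ T).comp (Ideal.Quotient.mk K))
    let val' : Option (Option (Fin N)) → B := fun o =>
      o.elim (bw (X none)) fun o => o.elim (bw (X (some none))) fun i => bw (X (some none)) * ι' (X i)
    let e : MvPolynomial (Option (Option (Fin N))) A →+* B := eval₂Hom (ι'.comp MvPolynomial.C) val'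
    have he : ∀ x ∈ S, e x = 0 := fun x hx => by
      refine (Ideal.span_le.mpr ?_ : S ≤ RingHom.ker e) hx
      rintro _ ⟨j, rfl⟩
      rw [SetLike.mem_coe, RingHom.mem_ker, map_mul, eval₂Hom_rename]
      rw [show val' ∘ some = fun o => o.elim (bw (X (some none))) fun i => bw (X (some none)) * ι' (X i) from rfl, hG]
      rw [show eval₂Hom (ι'.comp MvPolynomial.C) (fun i => ι' (X i)) (gs j) = ι' (gs j) from
        DFunLike.congr_fun (MvPolynomial.ringHom_ext (f := eval₂Hom (ι'.comp MvPolynomial.C) fun i => ι' (X i))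
          (g := ι') (fun a => eval₂Hom_C _ _ a) fun i => eval₂Hom_X' _ _ i) (gs j)]
      show _ * (_ * algebraMap T B (algebraMap C₁ T (Ideal.Quotient.mk K (gs j)))) = 0
      rw [Ideal.Quotient.eq_zero_iff_mem.mpr (hgK j), map_zero, map_zero, mul_zero, mul_zero]
    let e₂ : C₂ →+* B := Ideal.Quotient.lift S e he
    have hfι : ∀ x, f (η x) = Ideal.Quotient.mk I (ι' x) := fun x => by
      show f (η₁ (Ideal.Quotient.mk K x)) = _
      rw [← hTT₂, AlgHom.commutes]
      rfl
    have hef : (Ideal.Quotient.mk I).comp e₂ = f.toRingHom.comp (algebraMap C₂ T₂) := by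
      refine Ideal.Quotient.ringHom_ext (MvPolynomial.ringHom_ext (fun a => ?_) fun o => ?_)
      · show Ideal.Quotient.mk I (e (MvPolynomial.C a)) = f (mk₂ (MvPolynomial.C a))
        rw [eval₂Hom_C, RingHom.comp_apply, ← hfι, eval₂Hom_C]
        rfl
      · show Ideal.Quotient.mk I (e (X o)) = f (mk₂ (X o))
        rw [eval₂Hom_X']
        match o with
        | none => exact hbw _
        | some none => exact hbw _
        | some (some i) =>
          show Ideal.Quotient.mk I (bw (X (some none)) * ι' (X i)) = _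
          rw [map_mul, hbw, ← hfι, eval₂Hom_X', ← map_mul, ← hv, Units.mul_inv_cancel_left]
    have he₂unit : ∀ s : Q.primeCompl, IsUnit (e₂ s) := fun s => by
      refine (IsNilpotent.isUnit_quotient_mk_iff ⟨2, hI⟩).mp ?_
      rw [← RingHom.comp_apply, hef]
      exact (IsLocalization.map_units T₂ s).map f
    let l : T₂ →+* B := IsLocalization.lift (M := Q.primeCompl) he₂unit
    have hl : ∀ x, l (algebraMap C₂ T₂ x) = e₂ x := fun x => IsLocalization.lift_eq _ x
    have hlT : l.comp (algebraMap T T₂) = algebraMap T B := by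
      refine IsLocalization.ringHom_ext Q₁.primeCompl (Ideal.Quotient.ringHom_ext ?_)
      refine MvPolynomial.ringHom_ext (fun a => ?_) fun i => ?_
      · show l (algebraMap T T₂ (algebraMap C₁ T (Ideal.Quotient.mk K (MvPolynomial.C a)))) = ι' (MvPolynomial.C a)
        rw [hTT₂]
        show l (η (MvPolynomial.C a)) = _
        rw [eval₂Hom_C]
        show l (algebraMap C₂ T₂ _) = _
        rw [hl]
        exact eval₂Hom_C _ _ a
      · show l (algebraMap T T₂ (algebraMap C₁ T (Ideal.Quotient.mk K (X i)))) = ι' (X i)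
        rw [hTT₂]
        show l (η (X i)) = _
        rw [eval₂Hom_X']
        refine (v.isUnit.map l).mul_left_cancel ?_
        rw [← map_mul l, Units.mul_inv_cancel_left, hv]
        show l (algebraMap C₂ T₂ _) = l (algebraMap C₂ T₂ _) * _
        rw [hl, hl]
        show e (X (some (some i))) = e (X (some none)) * _
        rw [eval₂Hom_X', eval₂Hom_X']
        rfl
    refine ⟨{ l with commutes' := fun x => DFunLike.congr_fun hlT x }, AlgHom.coe_ringHom_injective ?_⟩
    refine IsLocalization.ringHom_ext Q.primeCompl (RingHom.ext fun x => ?_)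
    show Ideal.Quotient.mk I (l (algebraMap C₂ T₂ x)) = f (algebraMap C₂ T₂ x)
    rw [hl]
    exact DFunLike.congr_fun hef x
  exact Algebra.FormallySmooth.comp R T T₂

end Groth.Agent.H9Popescu
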