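import Groth.Agent.H9Popescu.SmoothPoint

/-!
# Néron-type desingularization
-/

set_option linter.style.haveILetI false

universe u

open MvPolynomial

namespace Groth.Agent.H9Popescu

/-- Taylor expansion to first order. -/
theorem taylor_mem {R S : Type u} [CommRing R] [CommRing S] [Algebra R S] {n : ℕ}
    (f : MvPolynomial (Fin n) R) (r : Fin n → R) (t : S) (v : Fin n → S) :
    aeval (fun i => algebraMap R S (r i) + t * v i) f - algebraMap R S (eval r f) -
      t * ∑ k, algebraMap R S (eval r (pderiv k f)) * v k ∈ Ideal.span {t ^ 2} := by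
  classical
  induction f using MvPolynomial.induction_on with
  | C a => simp
  | add p q hp hq =>
    convert add_mem hp hq using 1
    simp only [map_add, add_mul, Finset.sum_add_distrib]
    ring
  | mul_X p i hp =>
    have h1 : ∑ k, algebraMap R S (eval r (pderiv k (p * X i))) * v k =
        algebraMap R S (r i) * (∑ k, algebraMap R S (eval r (pderiv k p)) * v k) + algebraMap R S (eval r p) * v i := by
      simp only [pderiv_mul, pderiv_X, map_add, map_mul, eval_X, add_mul, Finset.sum_add_distrib, Finset.mul_sum,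
        Pi.single_apply, apply_ite (eval r), apply_ite (algebraMap R S), map_one, map_zero, mul_ite, ite_mul,
        mul_one, mul_zero, zero_mul, Finset.sum_ite_eq', Finset.sum_ite_eq, Finset.mem_univ, if_true]
      congr 1
      exact Finset.sum_congr rfl fun k _ => by ring
    rw [h1, map_mul, map_mul, aeval_X, eval_X, map_mul]
    set P := aeval (fun i => algebraMap R S (r i) + t * v i) p
    set e := algebraMap R S (eval r p)
    set s := ∑ k, algebraMap R S (eval r (pderiv k p)) * v k
    rw [show P * (algebraMap R S (r i) + t * v i) - e * algebraMap R S (r i) -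
        t * (algebraMap R S (r i) * s + e * v i) =
      (P - e - t * s) * (algebraMap R S (r i) + t * v i) + t ^ 2 * (s * v i) by ring]
    exact add_mem (Ideal.mul_mem_right _ _ hp) (Ideal.mul_mem_right _ _ (Ideal.subset_span rfl))

/-- The derivative of a substitution by affine functions. -/
theorem pderiv_aeval_affine {R : Type u} [CommRing R] {n N : ℕ} (x : Fin n → MvPolynomial (Fin N) R) (d : Fin N)
    (f : MvPolynomial (Fin n) R) :
    pderiv d (aeval x f) = ∑ k, aeval x (pderiv k f) * pderiv d (x k) := by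
  classical
  induction f using MvPolynomial.induction_on with
  | C a => simp [MvPolynomial.algebraMap_eq]
  | add p q hp hq => simp only [map_add, hp, hq, add_mul, Finset.sum_add_distrib]
  | mul_X p i hp =>
    simp only [map_mul, aeval_X, pderiv_mul, hp, map_add, Finset.sum_mul, add_mul, Finset.sum_add_distrib]
    congr 1
    · exact Finset.sum_congr rfl fun k _ => by ring
    · rw [Finset.sum_eq_single i]
      · simp
      · intro k _ hk
        rw [pderiv_X_of_ne hk.symm]
        simp
      · simp

/-- A matrix congruent to the identity has determinant congruent to one. -/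
theorem det_sub_one_mem {S : Type u} [CommRing S] {c : ℕ} (M : Matrix (Fin c) (Fin c) S) (I : Ideal S)
    (h : ∀ i j, M i j - (if i = j then 1 else 0) ∈ I) : M.det - 1 ∈ I := by
  rw [← Ideal.Quotient.eq_zero_iff_mem, map_sub, RingHom.map_det, map_one, sub_eq_zero]
  rw [show (Ideal.Quotient.mk I).mapMatrix M = 1 from Matrix.ext fun i j => by
    rw [RingHom.mapMatrix_apply, Matrix.map_apply, Matrix.one_apply]
    have := Ideal.Quotient.eq.mpr (h i j)
    rwa [apply_ite (Ideal.Quotient.mk I), map_one, map_zero] at this, Matrix.det_one]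

theorem pow_smul_eq_zero {R Λ : Type u} [CommRing R] [CommRing Λ] [Algebra R Λ] {π : R}
    (hΛ : ∀ x : Λ, π ^ 2 • x = 0 → π • x = 0) (k : ℕ) (x : Λ) (h : π ^ (k + 1) • x = 0) : π • x = 0 := by
  induction k generalizing x with
  | zero => simpa using h
  | succ k ih =>
    refine hΛ x ?_
    have := ih (π • x) (by rwa [smul_smul, ← pow_succ])
    rwa [smul_smul, ← pow_two] at this

/-- Desingularization of a problem which is trivial modulo the fourth power of a strictly standard element. -/
theorem desingularize {R Λ A : Type u} [CommRing R] [IsNoetherianRing R] [CommRing Λ]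
    [Algebra R Λ] (π : R) (hΛ : ∀ x : Λ, π ^ 2 • x = 0 → π • x = 0) [CommRing A] [Algebra R A]
    (φ : A →ₐ[R] Λ) (hπ : Smoothing.IsStrictlyStandard R A (algebraMap R A π))
    (ρ : A →ₐ[R] R ⧸ Ideal.span {π ^ 4})
    (hρ : ∀ (a : A) (r : R), Ideal.Quotient.mk (Ideal.span {π ^ 4}) r = ρ a →
      algebraMap R Λ r - φ a ∈ Ideal.span {algebraMap R Λ (π ^ 4)}) :
    ∃ (B : Type u) (_ : CommRing B) (_ : Algebra R B), Algebra.FinitePresentation R B ∧
      ∃ (α : A →ₐ[R] B) (β : B →ₐ[R] Λ), β.comp α = φ ∧
        ∀ r : R, (∀ x : R, π ^ 2 * x = 0 → π * (r * x) = 0) →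
          algebraMap R B r ∈ Smoothing.singularIdeal R B := by
  classical
  obtain ⟨P, hspan, hkill⟩ := hπ
  let F := P.rel
  let lead : Fin P.c → Fin P.m := Fin.castLE P.hcm
  -- the point
  choose r hr using fun i => Ideal.Quotient.mk_surjective (ρ (P.hom (X i)))
  choose μ hμ using fun i => Ideal.mem_span_singleton'.mp (hρ (P.hom (X i)) (r i) (hr i))
  have hρev : ∀ p, ρ (P.hom p) = Ideal.Quotient.mk _ (eval r p) := fun p => by
    refine DFunLike.congr_fun (show ρ.comp P.hom = (Ideal.Quotient.mkₐ R _).comp (aeval r) from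
      MvPolynomial.algHom_ext fun i => ?_) p
    simp [hr]
  have hFker : ∀ j, P.hom (F j) = 0 := fun j => P.ker_eq.ge (Ideal.subset_span ⟨j, rfl⟩)
  have he : ∀ j, ∃ e, eval r (F j) = π ^ 4 * e := fun j => by
    have h := hρev (F j)
    rw [hFker, map_zero, eq_comm, Ideal.Quotient.eq_zero_iff_mem, Ideal.mem_span_singleton'] at h
    obtain ⟨e, he⟩ := h
    exact ⟨e, by rw [← he, mul_comm]⟩
  choose e he using he
  -- the combination of minors
  obtain ⟨a, ha⟩ := Ideal.mem_span_range_iff_exists_fun.mp hspan
  choose a' ha' using fun cols => P.surj (a cols)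
  let J : Matrix (Fin P.m) (Fin P.n) R := Matrix.of fun j k => eval r (pderiv k (F j))
  let Jc : (Fin P.c → Fin P.n) → Matrix (Fin P.c) (Fin P.c) R := fun cols => Matrix.of fun j k => J (lead j) (cols k)
  have hu : ∃ ε : R, ∑ cols, eval r (a' cols) * (Jc cols).det = π * (1 - π ^ 3 * ε) := by
    have h : P.hom (MvPolynomial.C π - ∑ cols, a' cols * Smoothing.jacobianMinor F lead cols) = 0 := by
      rw [map_sub, map_sum, ← MvPolynomial.algebraMap_eq, AlgHom.commutes, ← ha, sub_eq_zero]
      exact Finset.sum_congr rfl fun cols _ => by rw [map_mul, ha']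
    have h2 := hρev (MvPolynomial.C π - ∑ cols, a' cols * Smoothing.jacobianMinor F lead cols)
    rw [h, map_zero, eq_comm, Ideal.Quotient.eq_zero_iff_mem, Ideal.mem_span_singleton'] at h2
    obtain ⟨ε, hε⟩ := h2
    refine ⟨ε, ?_⟩
    simp only [map_sub, map_sum, map_mul, eval_C, Smoothing.jacobianMinor, RingHom.map_det] at hε
    rw [mul_sub, mul_one, ← mul_assoc, ← pow_succ', mul_comm (π ^ (3 + 1)), hε, sub_sub_cancel]
    exact Finset.sum_congr rfl fun cols _ => rfl
  obtain ⟨ε, hε⟩ := hu
  let u : R := 1 - π ^ 3 * ε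
  let H : Matrix (Fin P.n) (Fin P.c) R := Matrix.of fun k l =>
    ∑ cols, eval r (a' cols) * ∑ i, if cols i = k then (Jc cols).adjugate i l else 0
  have hJH : ∀ j l, ∑ k, J (lead j) k * H k l = if j = l then π * u else 0 := fun j l => by
    have h1 : ∀ cols, ∑ k, J (lead j) k * (∑ i, if cols i = k then (Jc cols).adjugate i l else 0) =
        if j = l then (Jc cols).det else 0 := fun cols => by
      simp only [Finset.mul_sum, mul_ite, mul_zero]
      rw [Finset.sum_comm]
      simp only [Finset.sum_ite_eq, Finset.mem_univ, if_true]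
      have h := congrFun (congrFun (Matrix.mul_adjugate (Jc cols)) j) l
      rw [Matrix.mul_apply, Matrix.smul_apply, Matrix.one_apply, smul_eq_mul, mul_ite, mul_one, mul_zero] at h
      exact h
    have h2 : ∑ k, J (lead j) k * H k l = ∑ cols, eval r (a' cols) *
        ∑ k, J (lead j) k * (∑ i, if cols i = k then (Jc cols).adjugate i l else 0) := by
      simp only [H, Matrix.of_apply, Finset.mul_sum]
      rw [Finset.sum_comm]
      exact Finset.sum_congr rfl fun _ _ => Finset.sum_congr rfl fun _ _ => Finset.sum_congr rfl fun _ _ => by ring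
    rw [h2]
    simp only [h1, mul_ite, mul_zero]
    by_cases hjl : j = l
    · simp only [if_pos hjl]; exact hε
    · simp only [if_neg hjl, Finset.sum_const_zero]
  -- the new variables
  let z : Fin P.c → (MvPolynomial (Fin (P.c + P.n)) R) := fun l => X (Fin.castAdd P.n l)
  let w : Fin P.n → (MvPolynomial (Fin (P.c + P.n)) R) := fun k => X (Fin.natAdd P.c k)
  let v : Fin P.n → (MvPolynomial (Fin (P.c + P.n)) R) := fun k => ∑ l, MvPolynomial.C (H k l) * z l + MvPolynomial.C π * w k
  let x : Fin P.n → (MvPolynomial (Fin (P.c + P.n)) R) := fun k => MvPolynomial.C (r k) + MvPolynomial.C π ^ 2 * v k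
  have hQ : ∀ j, ∃ Q : (MvPolynomial (Fin (P.c + P.n)) R), aeval x (F j) = MvPolynomial.C π ^ 2 *
      (MvPolynomial.C π ^ 2 * MvPolynomial.C (e j) + ∑ k, MvPolynomial.C (J j k) * v k + MvPolynomial.C π ^ 2 * Q) := by
    intro j
    obtain ⟨Q, hQ⟩ := Ideal.mem_span_singleton'.mp
      (taylor_mem (S := (MvPolynomial (Fin (P.c + P.n)) R)) (F j) r (MvPolynomial.C π ^ 2) v)
    refine ⟨Q, ?_⟩
    simp only [MvPolynomial.algebraMap_eq] at hQ
    change Q * _ = aeval x (F j) - _ - MvPolynomial.C π ^ 2 * ∑ k, MvPolynomial.C (J j k) * v k at hQ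
    rw [he, map_mul, map_pow] at hQ
    linear_combination -hQ
  choose Q hQ using hQ
  let U : Fin P.m → (MvPolynomial (Fin (P.c + P.n)) R) := fun j =>
    MvPolynomial.C π ^ 2 * MvPolynomial.C (e j) + ∑ k, MvPolynomial.C (J j k) * v k + MvPolynomial.C π ^ 2 * Q j
  have hU : ∀ j, aeval x (F j) = MvPolynomial.C π ^ 2 * U j := hQ
  let g : Fin P.c → (MvPolynomial (Fin (P.c + P.n)) R) := fun j => MvPolynomial.C u * z j + ∑ k, MvPolynomial.C (J (lead j) k) * w k +
    MvPolynomial.C π * (MvPolynomial.C (e (lead j)) + Q (lead j))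
  have hUg : ∀ j, U (lead j) = MvPolynomial.C π * g j := fun j => by
    have h1 : ∑ k, MvPolynomial.C (J (lead j) k) * v k =
        MvPolynomial.C π * (MvPolynomial.C u * z j) + MvPolynomial.C π * ∑ k, MvPolynomial.C (J (lead j) k) * w k := by
      simp only [v, mul_add, Finset.sum_add_distrib, Finset.mul_sum]
      congr 1
      · rw [Finset.sum_comm, Finset.sum_eq_single j]
        · simp only [← mul_assoc, ← map_mul, ← Finset.sum_mul, ← map_sum, hJH, if_true]
        · intro l _ hl
          simp only [← mul_assoc, ← map_mul, ← Finset.sum_mul, ← map_sum, hJH, if_neg hl.symm, map_zero, zero_mul]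
        · simp
      · exact Finset.sum_congr rfl fun k _ => by ring
    simp only [U, g, h1]
    ring
  -- the map to `Λ`
  let δ₀ : (MvPolynomial (Fin (P.c + P.n)) R) →ₐ[R] Λ := aeval (Fin.append (fun _ => (0 : Λ)) fun k => -(algebraMap R Λ π * μ k))
  have hδz : ∀ l, δ₀ (z l) = 0 := fun l => by simp [δ₀, z]
  have hδw : ∀ k, δ₀ (w k) = -(algebraMap R Λ π * μ k) := fun k => by simp [δ₀, w]
  have hδC : ∀ y, δ₀ (MvPolynomial.C y) = algebraMap R Λ y := fun y => δ₀.commutes y
  have hδv : ∀ k, δ₀ (v k) = -(algebraMap R Λ π ^ 2 * μ k) := fun k => by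
    simp only [v, map_add, map_sum, map_mul, hδz, hδw, hδC, mul_zero, Finset.sum_const_zero, zero_add]
    ring
  have hδx : ∀ k, δ₀ (x k) = φ (P.hom (X k)) := fun k => by
    simp only [x, map_add, map_mul, map_pow, hδv, hδC]
    rw [show φ (P.hom (X k)) = algebraMap R Λ (r k) - μ k * algebraMap R Λ (π ^ 4) by rw [hμ k, sub_sub_cancel],
      map_pow]
    ring
  have hδev : ∀ p, δ₀ (aeval x p) = φ (P.hom p) := fun p => by
    refine DFunLike.congr_fun (show δ₀.comp (aeval x) = φ.comp P.hom from
      MvPolynomial.algHom_ext fun i => ?_) p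
    simp [hδx]
  have hδg : ∀ j, δ₀ (g j) = 0 := fun j => by
    obtain ⟨s, hs⟩ : ∃ s, δ₀ (g j) = π • s := by
      refine ⟨-∑ k, algebraMap R Λ (J (lead j) k) * μ k + algebraMap R Λ (e (lead j)) + δ₀ (Q (lead j)), ?_⟩
      simp only [g, map_add, map_sum, map_mul, hδz, hδw, hδC, mul_zero, zero_add, Algebra.smul_def, mul_add,
        mul_neg, Finset.sum_neg_distrib, Finset.mul_sum]
      rw [add_assoc]
      congr 2
      exact Finset.sum_congr rfl fun k _ => by ring
    have h4 : π ^ (3 + 1) • s = 0 := by
      have h := hδev (F (lead j))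
      rw [hU, hUg, hFker, map_zero, map_mul, map_mul, map_pow, hδC, hs] at h
      rw [← h]
      simp only [Algebra.smul_def, map_pow]
      ring
    rw [hs]
    exact pow_smul_eq_zero hΛ 3 s h4
  let rel : Fin (P.c + P.m) → (MvPolynomial (Fin (P.c + P.n)) R) := Fin.append g fun j => aeval x (F j)
  have hrelg : ∀ j, rel (Fin.castAdd P.m j) = g j := fun j => Fin.append_left ..
  have hrelF : ∀ j, rel (Fin.natAdd P.c j) = aeval x (F j) := fun j => Fin.append_right ..
  let K := Ideal.span (Set.range rel)
  have hKF : ∀ p ∈ Ideal.span (Set.range F), aeval x p ∈ K := fun p hp => by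
    refine (Ideal.span_le.mpr ?_ : Ideal.span (Set.range F) ≤ K.comap (aeval x).toRingHom) hp
    rintro _ ⟨j, rfl⟩
    exact Ideal.subset_span ⟨Fin.natAdd P.c j, hrelF j⟩
  let B := (MvPolynomial (Fin (P.c + P.n)) R) ⧸ K
  let φB : (MvPolynomial (Fin (P.c + P.n)) R) →ₐ[R] B := Ideal.Quotient.mkₐ R K
  let α : A →ₐ[R] B :=
    (Ideal.Quotient.liftₐ (RingHom.ker P.hom) (φB.comp (aeval x)) fun p hp => by
      exact Ideal.Quotient.eq_zero_iff_mem.mpr (hKF p (P.ker_eq.le hp))).comp
      (Ideal.quotientKerAlgEquivOfSurjective P.surj).symm.toAlgHom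
  have hα : ∀ p, α (P.hom p) = φB (aeval x p) := fun p => by
    show (Ideal.Quotient.liftₐ (RingHom.ker P.hom) (φB.comp (aeval x)) fun q hq =>
      Ideal.Quotient.eq_zero_iff_mem.mpr (hKF q (P.ker_eq.le hq)))
        ((Ideal.quotientKerAlgEquivOfSurjective P.surj).symm (P.hom p)) = _
    rw [show P.hom p = Ideal.quotientKerAlgEquivOfSurjective P.surj (Ideal.Quotient.mk _ p) from rfl,
      AlgEquiv.symm_apply_apply]
    rfl
  have hδK : K ≤ RingHom.ker δ₀.toRingHom := by
    refine Ideal.span_le.mpr ?_
    rintro _ ⟨i, rfl⟩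
    show δ₀ (rel i) = 0
    induction i using Fin.addCases with
    | left j => rw [hrelg]; exact hδg j
    | right j => rw [hrelF, hδev, hFker, map_zero]
  let β : B →ₐ[R] Λ := Ideal.Quotient.liftₐ K δ₀ fun p hp => hδK hp
  refine ⟨B, inferInstance, inferInstance, Algebra.FinitePresentation.quotient (IsNoetherian.noetherian _),
    α, β, AlgHom.ext fun a => ?_, fun r₀ hr₀ => ?_⟩
  · obtain ⟨p, rfl⟩ := P.surj a
    rw [AlgHom.comp_apply, hα]
    exact hδev p
  rw [Smoothing.singularIdeal, PrimeSpectrum.mem_vanishingIdeal]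
  intro q hq
  by_contra hr₀q
  apply hq
  show Algebra.IsSmoothAt R q.asIdeal
  let rows : Fin P.c ↪ Fin (P.c + P.m) := ⟨Fin.castAdd P.m, Fin.castAdd_injective _ _⟩
  have hrows : rel ∘ rows = g := funext hrelg
  have hφC : ∀ y, φB (MvPolynomial.C y) = algebraMap R B y := fun y => φB.commutes y
  have hgspan : ∀ j, g j ∈ Ideal.span (Set.range g) := fun j => Ideal.subset_span ⟨j, rfl⟩
  have hleadspan : ∀ p ∈ Ideal.span (F '' {j' : Fin P.m | (j' : ℕ) < P.c}), aeval x p ∈ Ideal.span (Set.range g) := by
    intro p hp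
    refine (Ideal.span_le.mpr ?_ : Ideal.span (F '' {j' : Fin P.m | (j' : ℕ) < P.c}) ≤
      (Ideal.span (Set.range g)).comap (aeval x).toRingHom) hp
    rintro _ ⟨j, hj, rfl⟩
    show aeval x (F j) ∈ Ideal.span (Set.range g)
    rw [show j = lead ⟨j, hj⟩ from rfl, hU, hUg]
    exact Ideal.mul_mem_left _ _ (Ideal.mul_mem_left _ _ (hgspan _))
  have hkill' : ∀ j, MvPolynomial.C π * F j ∈ Ideal.span (F '' {j' : Fin P.m | (j' : ℕ) < P.c}) ⊔
      Ideal.span (Set.range F) ^ 2 := fun j => by
    rcases lt_or_ge (j : ℕ) P.c with hj | hj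
    · exact Ideal.mem_sup_left (Ideal.mul_mem_left _ _ (Ideal.subset_span ⟨j, hj, rfl⟩))
    · exact hkill _ (P.hom.commutes π) j hj
  by_cases hπq : algebraMap R B π ∈ q.asIdeal
  · -- `π` vanishes: the variables `z` give the minor
    let cols : Fin P.c ↪ Fin (P.c + P.n) := ⟨Fin.castAdd P.n, Fin.castAdd_injective _ _⟩
    let μz := Smoothing.jacobianMinor g id cols
    have hμz : μz - 1 ∈ Ideal.span {MvPolynomial.C π} := by
      refine det_sub_one_mem _ _ fun i l => ?_
      rw [Matrix.of_apply]
      have h1 : pderiv (cols l) (z i) = if i = l then 1 else 0 := by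
        by_cases h : i = l
        · subst h; simp [z, cols]
        · rw [if_neg h]
          exact pderiv_X_of_ne ((Fin.castAdd_injective P.c P.n).ne h)
      have h2 : ∀ k, pderiv (cols l) (w k) = 0 := fun k => pderiv_X_of_ne fun h => by
        have := congrArg Fin.val h
        simp [cols] at this
        omega
      simp only [id, g, map_add, map_sum, pderiv_mul, pderiv_C, zero_mul, zero_add, h1, h2, mul_zero,
        Finset.sum_const_zero, add_zero]
      rw [show MvPolynomial.C u * (if i = l then 1 else 0) +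
          MvPolynomial.C π * pderiv (cols l) (Q (lead i)) - (if i = l then (1 : (MvPolynomial (Fin (P.c + P.n)) R)) else 0) =
        MvPolynomial.C π * (pderiv (cols l) (Q (lead i)) -
          MvPolynomial.C (π ^ 2 * ε) * (if i = l then 1 else 0)) by
        simp only [u, map_sub, map_one, map_mul, map_pow]; ring]
      exact Ideal.mul_mem_right _ _ (Ideal.subset_span rfl)
    have hπ' : ∀ p, p - 1 ∈ Ideal.span {(MvPolynomial.C π : (MvPolynomial (Fin (P.c + P.n)) R))} → φB p ∉ q.asIdeal := fun p hp hmem => by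
      obtain ⟨b, hb⟩ := Ideal.mem_span_singleton'.mp hp
      have h1 : φB (p - 1) ∈ q.asIdeal := by
        rw [← hb, map_mul, hφC]
        exact Ideal.mul_mem_left _ _ hπq
      rw [map_sub, map_one] at h1
      exact q.isPrime.ne_top ((Ideal.eq_top_iff_one _).mpr (by simpa using sub_mem hmem h1))
    have hs : ∀ j, ∃ s : Fin P.m → (MvPolynomial (Fin (P.c + P.n)) R), MvPolynomial.C π * aeval x (F j) -
        MvPolynomial.C π ^ 4 * ∑ k, s k * U k ∈ Ideal.span (Set.range g) := fun j => by
      obtain ⟨p, hp, p', hp', hpp⟩ := Submodule.mem_sup.mp (hkill' j)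
      have h2 : ∃ s : Fin P.m → (MvPolynomial (Fin (P.c + P.n)) R), aeval x p' = MvPolynomial.C π ^ 4 * ∑ k, s k * U k := by
        rw [pow_two] at hp'
        clear hpp
        induction hp' using Submodule.mul_induction_on' with
        | mem_mul_mem y hy y' hy' =>
          obtain ⟨c₁, rfl⟩ := Ideal.mem_span_range_iff_exists_fun.mp hy
          obtain ⟨c₂, rfl⟩ := Ideal.mem_span_range_iff_exists_fun.mp hy'
          refine ⟨fun k => (∑ i, aeval x (c₁ i) * U i) * aeval x (c₂ k), ?_⟩
          simp only [map_mul, map_sum, hU, Finset.mul_sum, Finset.sum_mul]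
          exact Finset.sum_congr rfl fun k _ => Finset.sum_congr rfl fun i _ => by ring
        | add y _ y' _ hy hy' =>
          obtain ⟨s, hs⟩ := hy
          obtain ⟨s', hs'⟩ := hy'
          refine ⟨s + s', ?_⟩
          rw [map_add, hs, hs', ← mul_add, ← Finset.sum_add_distrib]
          simp only [Pi.add_apply, add_mul]
      obtain ⟨s, hs⟩ := h2
      refine ⟨s, ?_⟩
      rw [← hs, show MvPolynomial.C π * aeval x (F j) = aeval x (MvPolynomial.C π * F j) by
        rw [map_mul, aeval_C, MvPolynomial.algebraMap_eq], ← hpp, map_add, add_sub_cancel_right]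
      exact hleadspan p hp
    choose s hs using hs
    let M : Matrix (Fin P.m) (Fin P.m) (MvPolynomial (Fin (P.c + P.n)) R) := Matrix.of fun j k =>
      (if j = k then 1 else 0) - MvPolynomial.C π * s j k
    have hM : M.det - 1 ∈ Ideal.span {(MvPolynomial.C π : (MvPolynomial (Fin (P.c + P.n)) R))} := det_sub_one_mem _ _ fun i l => by
      show (if i = l then 1 else 0) - MvPolynomial.C π * s i l - (if i = l then 1 else 0) ∈ _
      rw [sub_sub_cancel_left]
      exact neg_mem (Ideal.mul_mem_right _ _ (Ideal.subset_span rfl))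
    have hMU : ∀ j, MvPolynomial.C π ^ 3 * M.mulVec U j ∈ Ideal.span (Set.range g) := fun j => by
      have h := hs j
      rw [hU] at h
      convert h using 1
      simp only [Matrix.mulVec, dotProduct, M, Matrix.of_apply, sub_mul, Finset.sum_sub_distrib, ite_mul, one_mul,
        zero_mul, Finset.sum_ite_eq, Finset.mem_univ, if_true, Finset.mul_sum, mul_sub]
      congr 1
      · ring
      · exact Finset.sum_congr rfl fun k _ => by ring
    have hdetU : ∀ j, MvPolynomial.C π ^ 3 * (M.det * U j) ∈ Ideal.span (Set.range g) := fun j => by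
      have h1 : M.det * U j = ∑ k, M.adjugate j k * M.mulVec U k := by
        have h2 : M.adjugate.mulVec (M.mulVec U) = M.det • U := by
          rw [Matrix.mulVec_mulVec, Matrix.adjugate_mul, Matrix.smul_mulVec, Matrix.one_mulVec]
        exact (congrFun h2 j).symm
      rw [h1, Finset.mul_sum]
      refine sum_mem fun k _ => ?_
      rw [mul_left_comm]
      exact Ideal.mul_mem_left _ _ (hMU k)
    -- a smooth algebra
    let E₀ := (MvPolynomial (Fin (P.c + P.n)) R) ⧸ Ideal.span (Set.range g)
    let φ₀ : (MvPolynomial (Fin (P.c + P.n)) R) →ₐ[R] E₀ := Ideal.Quotient.mkₐ R (Ideal.span (Set.range g))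
    have hsm := smooth_away_of_minor g φ₀ (Ideal.Quotient.mkₐ_surjective R _) (Ideal.Quotient.mkₐ_ker R _)
      (Function.Embedding.refl _) cols 1 fun j => Ideal.mem_sup_left (Ideal.mul_mem_left _ _
        (Ideal.subset_span ⟨j, rfl⟩))
    let h₀ : E₀ := φ₀ 1 * φ₀ μz
    let E := Localization.Away h₀
    haveI : Algebra.Smooth R E := hsm
    let σ : (MvPolynomial (Fin (P.c + P.n)) R) →ₐ[R] E := (IsScalarTower.toAlgHom R E₀ E).comp φ₀
    have hσ0 : ∀ p ∈ Ideal.span (Set.range g), σ p = 0 := fun p hp => by
      show algebraMap E₀ E (Ideal.Quotient.mk _ p) = 0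
      rw [Ideal.Quotient.eq_zero_iff_mem.mpr hp, map_zero]
    have hzero : ∀ j, ∃ k : ℕ, μz ^ k * (MvPolynomial.C r₀ * (M.det * aeval x (F j))) ∈
        Ideal.span (Set.range g) := fun j => by
      have h3 : π ^ 3 • σ (M.det * U j) = 0 := by
        have := hσ0 _ (hdetU j)
        rwa [map_mul, map_pow, show σ (MvPolynomial.C π) = algebraMap R E π from σ.commutes π, ← map_pow,
          ← Algebra.smul_def] at this
      have h4 := smul_eq_zero_of_flat (M := E) (a := π ^ 3) (b := r₀ * π ^ 2) (fun y hy => by
        have := hr₀ (π * y) (by rw [← mul_assoc, ← pow_succ]; exact hy)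
        rw [← this]; ring) _ h3
      have h5 : algebraMap E₀ E (φ₀ (MvPolynomial.C r₀ * (M.det * aeval x (F j)))) = 0 := by
        show σ _ = 0
        rw [← h4, hU, Algebra.smul_def]
        simp only [map_mul, map_pow, ← MvPolynomial.algebraMap_eq, AlgHom.commutes]
        ring
      obtain ⟨⟨_, k, rfl⟩, hk⟩ := (IsLocalization.map_eq_zero_iff (Submonoid.powers h₀) E _).mp h5
      refine ⟨k, Ideal.Quotient.eq_zero_iff_mem.mp ?_⟩
      show φ₀ (μz ^ k * _) = 0
      simp only [h₀, map_one, one_mul] at hk
      rw [map_mul, map_pow]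
      exact hk
    choose k hk using hzero
    refine isSmoothAt_of_minor rel φB (Ideal.Quotient.mkₐ_surjective R K) (Ideal.Quotient.mkₐ_ker R K) rows cols
      (μz ^ (∑ i, k i) * (MvPolynomial.C r₀ * M.det)) (fun i => Ideal.mem_sup_left ?_) q.asIdeal ?_ ?_
    · rw [hrows]
      induction i using Fin.addCases with
      | left j => rw [hrelg]; exact Ideal.mul_mem_left _ _ (hgspan j)
      | right j =>
        rw [hrelF]
        obtain ⟨l, hl⟩ := Nat.exists_eq_add_of_le
          (Finset.single_le_sum (fun i _ => Nat.zero_le (k i)) (Finset.mem_univ j))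
        rw [hl, pow_add, show μz ^ k j * μz ^ l * (MvPolynomial.C r₀ * M.det) * aeval x (F j) =
          μz ^ l * (μz ^ k j * (MvPolynomial.C r₀ * (M.det * aeval x (F j)))) by ring]
        exact Ideal.mul_mem_left _ _ (hk j)
    · intro h
      rw [map_mul, map_mul, map_pow, hφC] at h
      rcases q.isPrime.mem_or_mem h with h | h
      · exact hπ' _ hμz (q.isPrime.mem_of_pow_mem _ h)
      · exact (q.isPrime.mem_or_mem h).elim hr₀q (hπ' _ hM)
    · rw [show Smoothing.jacobianMinor rel rows cols = μz by
        simp only [μz, Smoothing.jacobianMinor, id, show ∀ j, rel (rows j) = g j from hrelg]]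
      exact hπ' _ hμz
  · -- `π` is invertible: the variables `w` give the minor
    haveI : (q.asIdeal.comap α).IsPrime := inferInstance
    have hαπ : algebraMap R A π ∉ q.asIdeal.comap α := fun h => hπq (by
      have h' : α (algebraMap R A π) ∈ q.asIdeal := h
      rwa [α.commutes] at h')
    obtain ⟨cols, hcols⟩ := H9Smooth.exists_minor_notMem P _ hspan _ hαπ
    have hcols' : P.hom (Smoothing.jacobianMinor F lead cols) ∉ q.asIdeal.comap α := fun h =>
      hcols (Ideal.mul_mem_left _ _ h)
    let wcols : Fin P.c ↪ Fin (P.c + P.n) := cols.trans ⟨Fin.natAdd P.c, Fin.natAdd_injective _ _⟩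
    refine isSmoothAt_of_minor rel φB (Ideal.Quotient.mkₐ_surjective R K) (Ideal.Quotient.mkₐ_ker R K) rows wcols
      (MvPolynomial.C π) (fun i => ?_) q.asIdeal (hφC π ▸ hπq) ?_
    · rw [hrows]
      induction i using Fin.addCases with
      | left j => rw [hrelg]; exact Ideal.mem_sup_left (Ideal.mul_mem_left _ _ (hgspan j))
      | right j =>
        rw [hrelF, show MvPolynomial.C π * aeval x (F j) = aeval x (MvPolynomial.C π * F j) by
          rw [map_mul, aeval_C, MvPolynomial.algebraMap_eq]]
        obtain ⟨p, hp, p', hp', hpp⟩ := Submodule.mem_sup.mp (hkill' j)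
        rw [← hpp, map_add]
        refine add_mem (Ideal.mem_sup_left (hleadspan p hp)) (Ideal.mem_sup_right ?_)
        have h := Ideal.mem_map_of_mem (aeval x).toRingHom hp'
        rw [Ideal.map_pow] at h
        refine Ideal.pow_right_mono ?_ 2 h
        rw [Ideal.map_le_iff_le_comap]
        exact fun p hp => hKF p hp
    · intro hmem
      refine hcols' ?_
      show α (P.hom (Smoothing.jacobianMinor F lead cols)) ∈ q.asIdeal
      rw [hα]
      rw [← Ideal.Quotient.eq_zero_iff_mem] at hmem ⊢
      rw [← hmem]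
      let ψ : (MvPolynomial (Fin (P.c + P.n)) R) →+* B ⧸ q.asIdeal := (Ideal.Quotient.mk q.asIdeal).comp φB.toRingHom
      show ψ (aeval x (Smoothing.jacobianMinor F lead cols)) = ψ (Smoothing.jacobianMinor rel rows wcols)
      simp only [Smoothing.jacobianMinor, RingHom.map_det, AlgHom.map_det]
      congr 1
      refine Matrix.ext fun j l => ?_
      show ψ (aeval x (pderiv (cols l) (F (lead j)))) = ψ (pderiv (wcols l) (rel (rows j)))
      have hπ0 : ψ (MvPolynomial.C π) ≠ 0 := fun h => hπq (by
        have := Ideal.Quotient.eq_zero_iff_mem.mp h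
        rwa [show φB.toRingHom (MvPolynomial.C π) = algebraMap R B π from hφC π] at this)
      refine mul_left_cancel₀ (pow_ne_zero 3 hπ0) ?_
      have h := congrArg (fun p => ψ (pderiv (wcols l) p))
        ((show aeval x (F (lead j)) = MvPolynomial.C π ^ 3 * g j by rw [hU, hUg]; ring))
      simp only [pderiv_aeval_affine, map_sum, pderiv_mul, ← MvPolynomial.C_pow, pderiv_C, zero_mul, zero_add] at h
      rw [Finset.sum_eq_single (cols l)] at h
      · rw [show rel (rows j) = g j from hrelg j, ← map_pow, ← map_mul, ← map_mul, ← C_pow]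
        rw [← h]
        congr 1
        rw [mul_comm]
        congr 1
        simp only [x, v, w, z, map_add, map_sum, pderiv_mul, pderiv_C, ← MvPolynomial.C_pow, zero_mul, zero_add]
        rw [Finset.sum_eq_zero fun i _ => by
          rw [pderiv_X_of_ne fun h => by
            have := congrArg Fin.val h
            simp [wcols] at this
            omega, mul_zero]]
        simp [wcols, ← pow_succ]
      · intro k _ hk
        have h0 : pderiv (wcols l) (x k) = 0 := by
          simp only [x, v, w, z, map_add, map_sum, pderiv_mul, pderiv_C, ← MvPolynomial.C_pow, zero_mul, zero_add]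
          rw [Finset.sum_eq_zero fun i _ => by
            rw [pderiv_X_of_ne fun h => by
              have := congrArg Fin.val h
              simp [wcols] at this
              omega, mul_zero], show wcols l = Fin.natAdd P.c (cols l) from rfl, pderiv_X_of_ne ((Fin.natAdd_injective P.n P.c).ne hk)]
          simp
        rw [h0, mul_zero, map_zero]
      · simp

end Groth.Agent.H9Popescu
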