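import Groth.Agent.H9Popescu.Desingularize
import Groth.Agent.S6829

/-!
# Desingularization relative to an algebra
-/

set_option linter.style.haveILetI false

universe u

open TensorProduct

namespace Groth.Agent.H9Popescu

/-- Smooth points compose. -/
theorem isSmoothAt_trans {R D B : Type u} [CommRing R] [CommRing D] [CommRing B] [Algebra R D] [Algebra D B]
    [Algebra R B] [IsScalarTower R D B] (q : Ideal B) [q.IsPrime] (h1 : Algebra.IsSmoothAt R (q.under D))
    (h2 : Algebra.IsSmoothAt D q) : Algebra.IsSmoothAt R q := by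
  letI := Localization.AtPrime.algebraOfLiesOver (q.under D) q
  haveI : IsScalarTower D (Localization.AtPrime (q.under D)) (Localization.AtPrime q) := inferInstance
  haveI : IsScalarTower R (Localization.AtPrime (q.under D)) (Localization.AtPrime q) :=
    .to₁₃₄ R D _ _
  haveI : Algebra.FormallySmooth D (Localization.AtPrime q) := h2
  haveI : Algebra.FormallySmooth R (Localization.AtPrime (q.under D)) := h1
  haveI : Algebra.FormallySmooth (Localization.AtPrime (q.under D)) (Localization.AtPrime q) :=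
    Algebra.FormallySmooth.localization_base (q.under D).primeCompl
  exact Algebra.FormallySmooth.comp R (Localization.AtPrime (q.under D)) _

/-- Annihilators pass to smooth points, up to a power. -/
theorem mem_radical_of_mem_singularIdeal {R D : Type u} [CommRing R] [IsNoetherianRing R] [CommRing D]
    [Algebra R D] [Algebra.FinitePresentation R D] (π : R) (hR : ∀ r : R, π ^ 2 * r = 0 → π * r = 0) {r : D}
    (hr : r ∈ Smoothing.singularIdeal R D) :
    ∃ N : ℕ, ∀ x : D, algebraMap R D π ^ 2 * x = 0 → algebraMap R D π * (r ^ N * x) = 0 := by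
  haveI : IsNoetherianRing D := Algebra.FiniteType.isNoetherianRing R D
  let J : Ideal D :=
    { carrier := {s | ∀ x : D, algebraMap R D π ^ 2 * x = 0 → algebraMap R D π * (s * x) = 0}
      add_mem' := fun {a b} ha hb x hx => by
        rw [add_mul, mul_add, ha x hx, hb x hx, add_zero]
      zero_mem' := fun x _ => by rw [zero_mul, mul_zero]
      smul_mem' := fun c a ha x hx => by
        rw [smul_eq_mul, mul_assoc, mul_left_comm _ c, ha x hx, mul_zero] }
  suffices r ∈ J.radical by
    obtain ⟨N, hN⟩ := this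
    exact ⟨N, hN⟩
  rw [Ideal.radical_eq_sInf, Ideal.mem_sInf]
  rintro p ⟨hle, hpr⟩
  haveI := hpr
  rw [Smoothing.singularIdeal, PrimeSpectrum.mem_vanishingIdeal] at hr
  refine hr ⟨p, hpr⟩ fun hsm => ?_
  haveI : Algebra.IsSmoothAt R p := hsm
  obtain ⟨f, hf, hfs⟩ := Algebra.IsSmoothAt.exists_notMem_smooth R p
  have key : ∀ x : D, algebraMap R D π ^ 2 * x = 0 → ∃ k, f ^ k * (algebraMap R D π * x) = 0 := fun x hx => by
    have h0 : π ^ 2 • algebraMap D (Localization.Away f) x = 0 := by
      rw [Algebra.smul_def, IsScalarTower.algebraMap_apply R D (Localization.Away f), ← map_mul, map_pow, hx,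
        map_zero]
    have h1 := smul_eq_zero_of_flat hR _ h0
    rw [Algebra.smul_def, IsScalarTower.algebraMap_apply R D (Localization.Away f), ← map_mul] at h1
    obtain ⟨⟨_, k, rfl⟩, hk⟩ := (IsLocalization.map_eq_zero_iff (Submonoid.powers f) _ _).mp h1
    exact ⟨k, hk⟩
  let T : Ideal D :=
    { carrier := {x | algebraMap R D π ^ 2 * x = 0}
      add_mem' := fun {a b} ha hb => by
        simp only [Set.mem_setOf_eq] at ha hb ⊢
        rw [mul_add, ha, hb, add_zero]
      zero_mem' := mul_zero _
      smul_mem' := fun c a ha => by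
        simp only [Set.mem_setOf_eq] at ha ⊢
        rw [smul_eq_mul, mul_left_comm, ha, mul_zero] }
  obtain ⟨S, hS⟩ := IsNoetherian.noetherian T
  have hgen : ∀ x : S, ∃ k, f ^ k * (algebraMap R D π * x) = 0 := fun x =>
    key x (show (x : D) ∈ T from hS.le (Submodule.subset_span x.2))
  choose k hk using hgen
  refine hf (hpr.mem_of_pow_mem (∑ x, k x) (hle fun x hx => ?_))
  have hxT : x ∈ Ideal.span (S : Set D) := hS.ge hx
  induction hxT using Submodule.span_induction with
  | mem y hy =>
    rw [← mul_assoc, mul_comm _ (f ^ _), mul_assoc]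
    obtain ⟨l, hl⟩ := Nat.exists_eq_add_of_le
      (Finset.single_le_sum (fun i _ => Nat.zero_le (k i)) (Finset.mem_univ (⟨y, hy⟩ : S)))
    rw [hl, pow_add, mul_comm (f ^ _) (f ^ l), mul_assoc, hk, mul_zero]
  | zero => rw [mul_zero, mul_zero]
  | add a b ha hb iha ihb =>
    rw [mul_add, mul_add, iha (hS.le ha), ihb (hS.le hb), add_zero]
  | smul c a ha iha =>
    rw [smul_eq_mul, mul_left_comm (f ^ _) c, mul_left_comm _ c, iha (hS.le ha), mul_zero]

/-- Desingularization relative to an algebra. -/
theorem desingularize_rel {R Λ A D : Type u} [CommRing R] [IsNoetherianRing R]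
    [CommRing Λ] [Algebra R Λ] (π : R) (hR : ∀ r : R, π ^ 2 * r = 0 → π * r = 0)
    (hΛ : ∀ x : Λ, π ^ 2 • x = 0 → π • x = 0) [CommRing A] [Algebra R A]
    [Algebra.FinitePresentation R A] [CommRing D] [Algebra R D] [Algebra.FinitePresentation R D]
    (φ : A →ₐ[R] Λ) (δ : D →ₐ[R] Λ) (hπ : Smoothing.IsStrictlyStandard R A (algebraMap R A π))
    (ψ : A →ₐ[R] D ⧸ Ideal.span {algebraMap R D (π ^ 4)})
    (hψ : ∀ (a : A) (d : D), Ideal.Quotient.mk (Ideal.span {algebraMap R D (π ^ 4)}) d = ψ a →
      δ d - φ a ∈ Ideal.span {algebraMap R Λ (π ^ 4)}) :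
    ∃ (B : Type u) (_ : CommRing B) (_ : Algebra R B) (_ : Algebra D B) (_ : IsScalarTower R D B),
      Algebra.FinitePresentation R B ∧
      ∃ (α : A →ₐ[R] B) (β : B →ₐ[R] Λ), β.comp α = φ ∧
        β.comp (IsScalarTower.toAlgHom R D B) = δ ∧
        (Smoothing.singularIdeal R D).map (algebraMap D B) ≤ Smoothing.singularIdeal D B ∧
        (Smoothing.singularIdeal R D).map (algebraMap D B) ≤ Smoothing.singularIdeal R B := by
  haveI : IsNoetherianRing D := Algebra.FiniteType.isNoetherianRing R D
  letI : Algebra D Λ := δ.toAlgebra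
  haveI : IsScalarTower R D Λ := IsScalarTower.of_algebraMap_eq fun x => (δ.commutes x).symm
  let πD : D := algebraMap R D π
  let φD : D ⊗[R] A →ₐ[D] Λ :=
    Algebra.TensorProduct.lift (Algebra.ofId D Λ) φ fun _ _ => Commute.all _ _
  have hπD : Smoothing.IsStrictlyStandard D (D ⊗[R] A) (algebraMap D (D ⊗[R] A) πD) := by
    have h := (S6829.result (R' := D) (algebraMap R A π)).2 hπ
    rwa [show (1 : D) ⊗ₜ[R] algebraMap R A π = algebraMap D (D ⊗[R] A) πD by
      rw [← Algebra.TensorProduct.tmul_one_eq_one_tmul]; rfl] at h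
  have h4 : πD ^ 4 = algebraMap R D (π ^ 4) := (map_pow _ _ _).symm
  let ρ : D ⊗[R] A →ₐ[D] D ⧸ Ideal.span {πD ^ 4} :=
    Algebra.TensorProduct.lift (Algebra.ofId D _)
      ((Ideal.quotientEquivAlgOfEq R (show Ideal.span {algebraMap R D (π ^ 4)} = Ideal.span {πD ^ 4} by
        rw [h4])).toAlgHom.comp ψ) fun _ _ => Commute.all _ _
  have hρ : ∀ (a : D ⊗[R] A) (d : D), Ideal.Quotient.mk (Ideal.span {πD ^ 4}) d = ρ a →
      algebraMap D Λ d - φD a ∈ Ideal.span {algebraMap D Λ (πD ^ 4)} := by
    have hI : algebraMap D Λ (πD ^ 4) = algebraMap R Λ (π ^ 4) := by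
      rw [h4, ← IsScalarTower.algebraMap_apply]
    intro t
    induction t using TensorProduct.induction_on with
    | zero =>
      intro d hd
      rw [map_zero, Ideal.Quotient.eq_zero_iff_mem, Ideal.mem_span_singleton'] at hd
      obtain ⟨c, rfl⟩ := hd
      rw [map_zero, sub_zero, map_mul]
      exact Ideal.mul_mem_left _ _ (Ideal.subset_span rfl)
    | tmul d₀ a =>
      intro d hd
      obtain ⟨da, hda⟩ := Ideal.Quotient.mk_surjective (ψ a)
      have h1 := hψ a da hda
      rw [← hI] at h1
      have h2 : ρ (d₀ ⊗ₜ a) = Ideal.Quotient.mk _ (d₀ * da) := by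
        simp only [ρ, Algebra.TensorProduct.lift_tmul, AlgHom.comp_apply, AlgEquiv.toAlgHom_eq_coe,
          AlgHom.coe_coe, ← hda, Ideal.quotientEquivAlgOfEq_mk, map_mul]
        rfl
      rw [h2, Ideal.Quotient.eq, Ideal.mem_span_singleton'] at hd
      obtain ⟨c, hc⟩ := hd
      have h3 : algebraMap D Λ d - φD (d₀ ⊗ₜ a) = algebraMap D Λ c * algebraMap D Λ (πD ^ 4) +
          algebraMap D Λ d₀ * (algebraMap D Λ da - φ a) := by
        rw [← map_mul, hc, map_sub, map_mul]
        show _ - algebraMap D Λ d₀ * φ a = _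
        ring
      rw [h3]
      exact add_mem (Ideal.mul_mem_left _ _ (Ideal.subset_span rfl)) (Ideal.mul_mem_left _ _ h1)
    | add t₁ t₂ ih₁ ih₂ =>
      intro d hd
      obtain ⟨d₁, hd₁⟩ := Ideal.Quotient.mk_surjective (ρ t₁)
      have hd₂ : Ideal.Quotient.mk (Ideal.span {πD ^ 4}) (d - d₁) = ρ t₂ := by
        rw [map_sub, hd, hd₁, map_add, add_sub_cancel_left]
      have := add_mem (ih₁ d₁ hd₁) (ih₂ _ hd₂)
      rw [map_add]
      convert this using 1
      rw [map_sub]; ring
  have hΛD : ∀ x : Λ, πD ^ 2 • x = 0 → πD • x = 0 := fun x hx => by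
    rw [← map_pow, algebraMap_smul] at hx
    rw [algebraMap_smul]
    exact hΛ x hx
  obtain ⟨B, _, _, hB, α, β, hαβ, hsing⟩ := desingularize πD hΛD φD hπD ρ hρ
  letI : Algebra R B := ((algebraMap D B).comp (algebraMap R D)).toAlgebra
  haveI : IsScalarTower R D B := IsScalarTower.of_algebraMap_eq' rfl
  have h1 : (Smoothing.singularIdeal R D).map (algebraMap D B) ≤ Smoothing.singularIdeal D B :=
    Ideal.map_le_iff_le_comap.mpr fun r hr => by
      obtain ⟨N, hN⟩ := mem_radical_of_mem_singularIdeal π hR hr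
      have := hsing (r ^ N) hN
      rw [map_pow] at this
      exact (PrimeSpectrum.isRadical_vanishingIdeal _) ⟨N, this⟩
  refine ⟨B, inferInstance, inferInstance, inferInstance, inferInstance, Algebra.FinitePresentation.trans R D B,
    (α.restrictScalars R).comp Algebra.TensorProduct.includeRight, β.restrictScalars R, AlgHom.ext fun a => ?_,
    AlgHom.ext fun d => β.commutes d, h1, Ideal.map_le_iff_le_comap.mpr fun r hr => ?_⟩
  · show β (α (1 ⊗ₜ a)) = φ a
    rw [← AlgHom.comp_apply, hαβ]
    show algebraMap D Λ 1 * φ a = φ a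
    rw [map_one, one_mul]
  · rw [Ideal.mem_comap, Smoothing.singularIdeal, PrimeSpectrum.mem_vanishingIdeal]
    intro q hq
    by_contra hrq
    apply hq
    have hD : Algebra.IsSmoothAt D q.asIdeal := by
      have h := h1 (Ideal.mem_map_of_mem _ hr)
      rw [Smoothing.singularIdeal, PrimeSpectrum.mem_vanishingIdeal] at h
      by_contra hns
      exact hrq (h q hns)
    have hR' : Algebra.IsSmoothAt R (q.asIdeal.under D) := by
      rw [Smoothing.singularIdeal, PrimeSpectrum.mem_vanishingIdeal] at hr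
      by_contra hns
      exact hrq (hr ⟨q.asIdeal.under D, inferInstance⟩ hns)
    exact isSmoothAt_trans q.asIdeal hR' hD

end Groth.Agent.H9Popescu
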