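import Groth.Agent.H02CA.RegularHom
import Groth.Agent.H02CA.RegularLocal
import Mathlib.RingTheory.Localization.BaseChange

/-!
Localizations are regular homomorphisms.
-/

set_option autoImplicit false
set_option linter.style.haveILetI false
universe u
open TensorProduct

namespace Groth.Agent.H9Popescu

/-- A localization map is regular. -/
theorem isRegularHom_of_isLocalization {R : Type u} (S : Type u) [CommRing R] [CommRing S] [Algebra R S]
    (M : Submonoid R) [IsLocalization M S] : CAlg.IsRegularHom R S := by
  haveI : Module.Flat R S := IsLocalization.flat S M
  refine H02CA.isRegularHom_of_forall (fun p _ => ?_) fun p _ k' _ _ _ _ _ => ?_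
  · exact IsLocalization.isNoetherianRing (Algebra.algebraMapSubmonoid p.ResidueField M) (p.Fiber S) inferInstance
  · exact H02CA.isRegularRing_of_isLocalization (Algebra.algebraMapSubmonoid k' M)

end Groth.Agent.H9Popescu
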