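import Groth.Agent.H9Popescu.EtaleSlice
import Groth.Agent.H9Popescu.Popescu
import Groth.Agent.H9Popescu.RegularLocalization
import Groth.Agent.H9Hens.PairOps
import Groth.Agent.H05EGA4.CTensor
import Groth.Agent.H05EGA4.Regular2
import Mathlib.RingTheory.AdicCompletion.LocalRing

/-!
Solutions in a completion are approximated by solutions in etale algebras.
-/

set_option autoImplicit false
set_option linter.style.haveILetI false
universe u

open IsLocalRing

namespace Groth.Agent.H9Popescu

/-- Solutions in a henselian regular algebra are approximated by solutions in etale algebras. -/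
theorem exists_etale_approximation {R L : Type u} [CommRing R] [IsNoetherianRing R] [CommRing L]
    [IsNoetherianRing L] [Algebra R L] (hreg : CAlg.IsRegularHom R L) (J : Ideal L) [HenselianRing L J]
    (hk : ∀ q : L ⧸ J, ∃ r s : R, IsUnit (algebraMap R (L ⧸ J) s) ∧
      algebraMap R (L ⧸ J) s * q = algebraMap R (L ⧸ J) r)
    {n m : ℕ} (F : Fin m → MvPolynomial (Fin n) R) (a : Fin n → L)
    (ha : ∀ j, MvPolynomial.aeval a (F j) = 0) :
    ∃ (R' : Type u) (_ : CommRing R') (_ : Algebra R R'), Algebra.Etale R R' ∧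
      ∃ (ψ : R' →ₐ[R] L) (b : Fin n → R'), (∀ j, MvPolynomial.aeval b (F j) = 0) ∧
        ∀ i, a i - ψ (b i) ∈ J := by
  classical
  let K : Ideal (MvPolynomial (Fin n) R) := Ideal.span (Set.range F)
  let B := MvPolynomial (Fin n) R ⧸ K
  have hB : Algebra.FinitePresentation R B :=
    Algebra.FinitePresentation.quotient (Submodule.fg_span (Set.finite_range _))
  let f : B →ₐ[R] L := Ideal.Quotient.liftₐ K (MvPolynomial.aeval a) fun z hz => by
    refine (Ideal.span_le.2 ?_ : K ≤ RingHom.ker (MvPolynomial.aeval a)) hz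
    rintro _ ⟨j, rfl⟩
    exact ha j
  obtain ⟨C, _, _, hC, g₁, h, hgh⟩ := popescu hreg B hB f
  haveI := hC
  obtain ⟨R', _, _, hR', ψ₀, gC, hψ₀⟩ := exists_etale_of_smooth hk ((Ideal.Quotient.mkₐ R J).comp h)
  haveI := hR'
  obtain ⟨ψ, hψ⟩ := H9Hens.exists_algHom_lift_smooth_rel (R := R) (A := L) (I := J) ψ₀
  refine ⟨R', inferInstance, inferInstance, hR', ψ, fun i => gC (g₁ (Ideal.Quotient.mk K (MvPolynomial.X i))),
    fun j => ?_, fun i => ?_⟩
  · have h1 : (gC.comp g₁).comp (Ideal.Quotient.mkₐ R K) =
        MvPolynomial.aeval fun i => gC (g₁ (Ideal.Quotient.mk K (MvPolynomial.X i))) :=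
      MvPolynomial.algHom_ext fun i => by
        rw [MvPolynomial.aeval_X]; rfl
    rw [← h1]
    show gC (g₁ (Ideal.Quotient.mk K (F j))) = 0
    rw [Ideal.Quotient.eq_zero_iff_mem.2 (Ideal.subset_span (Set.mem_range_self j)), map_zero, map_zero]
  · rw [← Ideal.Quotient.eq]
    set y := g₁ (Ideal.Quotient.mk K (MvPolynomial.X i)) with hy
    have h2 : Ideal.Quotient.mk J (ψ (gC y)) = Ideal.Quotient.mk J (h y) :=
      (AlgHom.congr_fun hψ (gC y)).trans (AlgHom.congr_fun hψ₀ y)
    rw [h2, hy]
    refine congrArg _ ?_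
    rw [← AlgHom.comp_apply, hgh]
    exact (MvPolynomial.aeval_X a i).symm

/-- The extension of the maximal ideal to the completion of a Noetherian local ring gives henselian pairs. -/
theorem henselianRing_completion_pow (A : Type u) [CommRing A] [IsLocalRing A] [IsNoetherianRing A] (M : ℕ) :
    HenselianRing (AdicCompletion (maximalIdeal A) A)
      ((maximalIdeal A).map (algebraMap A (AdicCompletion (maximalIdeal A) A)) ^ (M + 1)) := by
  haveI : IsAdicComplete ((maximalIdeal A).map (algebraMap A (AdicCompletion (maximalIdeal A) A)))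
      (AdicCompletion (maximalIdeal A) A) :=
    AdicCompletion.isAdicComplete_self _ (IsNoetherian.noetherian _)
  exact H9Hens.henselianRing_of_le (J := (maximalIdeal A).map (algebraMap A (AdicCompletion (maximalIdeal A) A)))
    (Ideal.pow_le_self M.succ_ne_zero)

/-- Every residue of the completion is a residue of the ring. -/
theorem exists_sub_mem_completion_pow (A : Type u) [CommRing A] (I : Ideal A) (hI : I.FG) (M : ℕ)
    (x : AdicCompletion I A) :
    ∃ b : A, x - algebraMap A (AdicCompletion I A) b ∈ I.map (algebraMap A (AdicCompletion I A)) ^ M := by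
  obtain ⟨b, hb⟩ := Ideal.Quotient.mk_surjective (AdicCompletion.evalₐ I M x)
  refine ⟨b, (H05EGA4.AdicLim.ker_evalₐ hI M _).mp ?_⟩
  rw [map_sub, H05EGA4.AdicLim.evalₐ_algebraMap, hb, sub_self]

end Groth.Agent.H9Popescu
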