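import Groth.Agent.H17.FPUH
import Mathlib.Algebra.Category.CommAlgCat.Basic
import Mathlib.Algebra.Category.Ring.Under.Basic
import Mathlib.CategoryTheory.Limits.Preserves.Filtered

/-!
Elements of the values of a finitary functor on algebras come from finitely presented algebras.
-/

set_option autoImplicit false
universe u

namespace Groth.Agent.H9Popescu

open CategoryTheory CategoryTheory.Limits MvPolynomial
open Groth.Agent.H17.FPUH hiding trans

namespace FPColim

variable (A B : Type u) [CommRing A] [CommRing B] [Algebra A B]

instance : Nonempty (Idx₀ A B) := ⟨⟨(∅, ∅), by simp⟩⟩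

instance : IsDirectedOrder (Idx₀ A B) := by
  classical
  refine ⟨fun i j => ⟨⟨(i.1.1 ∪ j.1.1, i.1.2 ∪ j.1.2), fun g hg => ?_⟩,
    ⟨Finset.subset_union_left, Finset.subset_union_left⟩, ⟨Finset.subset_union_right, Finset.subset_union_right⟩⟩⟩
  rcases Finset.mem_union.mp hg with hg | hg
  · exact ⟨range_mono Finset.subset_union_left (i.2 g hg).1, (i.2 g hg).2⟩
  · exact ⟨range_mono Finset.subset_union_right (j.2 g hg).1, (j.2 g hg).2⟩

/-- The system of all finitely presented stages. -/
noncomputable def system : Idx₀ A B ⥤ Under (CommRingCat.of A) where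
  obj i := Under.mk (CommRingCat.ofHom (algebraMap A (Stage i)))
  map {i j} h := Under.homMk (CommRingCat.ofHom (H17.FPUH.trans h.le).toRingHom) (by
    ext a; exact (H17.FPUH.trans h.le).commutes a)
  map_id i := by ext x; exact trans_refl i x
  map_comp {i j k} h h' := by ext x; exact (trans_trans h.le h'.le x).symm

/-- The cocone with point `B`. -/
noncomputable def cocone : Cocone (system A B) where
  pt := Under.mk (CommRingCat.ofHom (algebraMap A B))
  ι :=
    { app := fun i => Under.homMk (CommRingCat.ofHom (toB i).toRingHom) (by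
        ext a; exact (toB i).commutes a)
      naturality := fun i j h => by ext x; exact toB_trans h.le x }

/-- Every algebra is the colimit of its finitely presented stages. -/
theorem isColimit : Nonempty (IsColimit (cocone A B)) := by
  classical
  have : IsFiltered (Idx₀ A B) := inferInstance
  have : IsConnected (Idx₀ A B) := IsFiltered.isConnected _
  have : ReflectsColimitsOfShape (Idx₀ A B) (forget CommRingCat.{u}) := reflectsColimitsOfShape_of_reflectsIsomorphisms
  refine ⟨isColimitOfReflects (Under.forget _) (isColimitOfReflects (forget CommRingCat) ?_)⟩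
  refine Types.FilteredColimit.isColimitOf' _ _ ?_ ?_
  · intro (b : B)
    let k : Idx₀ A B := ⟨({b}, ∅), fun g hg => absurd hg (Finset.notMem_empty g)⟩
    refine ⟨k, (Ideal.Quotient.mk (rel k) (X ⟨b, Finset.mem_singleton_self b⟩) : Stage k), ?_⟩
    show b = toB k (Ideal.Quotient.mk _ _)
    rw [toB_mk, val', AlgHom.comp_apply, rename_X]
    exact (aeval_X id b).symm
  · intro i (x : Stage i) (y : Stage i) (hxy : toB i x = toB i y)
    obtain ⟨p, hp⟩ := Ideal.Quotient.mk_surjective (x - y)
    have hp0 : val' i p = 0 := by
      rw [← toB_mk, hp, map_sub, hxy, sub_self]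
    let k : Idx₀ A B := ⟨(i.1.1, i.1.2 ∪ {rename Subtype.val p}), fun g hg => by
      rcases Finset.mem_union.mp hg with hg | hg
      · exact i.2 g hg
      · rw [Finset.mem_singleton] at hg; subst hg
        exact ⟨⟨p, rfl⟩, hp0⟩⟩
    have hik : i ≤ k := ⟨le_refl i.1.1, Finset.subset_union_left⟩
    refine ⟨k, homOfLE hik, ?_⟩
    show H17.FPUH.trans hik x = H17.FPUH.trans hik y
    rw [← sub_eq_zero, ← map_sub, ← hp, trans_mk, Ideal.Quotient.eq_zero_iff_mem]
    refine Ideal.subset_span ⟨_, Finset.mem_union_right _ (Finset.mem_singleton_self _), ?_⟩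
    show killCompl _ (rename Subtype.val p) = _
    rw [show rename (Subtype.val : Gen i → B) p = rename (Subtype.val : Gen k → B) (rename (incl hik) p) from by
      rw [rename_rename]; rfl, killCompl_rename_app]

end FPColim

/-- An element of `F B` comes from a finitely presented algebra mapping to `B`. -/
theorem exists_finitePresentation_of_preservesColimits {A : Type u} [CommRing A]
    (F : Under (CommRingCat.of A) ⥤ Type u)
    (hF : ∀ (J : Type u) [SmallCategory J] [IsFiltered J], PreservesColimitsOfShape J F)
    (B : Type u) [CommRing B] [Algebra A B]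
    (ξ : F.obj (Under.mk (CommRingCat.ofHom (algebraMap A B)))) :
    ∃ (P : Type u) (_ : CommRing P) (_ : Algebra A P), Algebra.FinitePresentation A P ∧
      ∃ (g : Under.mk (CommRingCat.ofHom (algebraMap A P)) ⟶ Under.mk (CommRingCat.ofHom (algebraMap A B)))
        (η : F.obj (Under.mk (CommRingCat.ofHom (algebraMap A P)))), F.map g η = ξ := by
  obtain ⟨hc⟩ := FPColim.isColimit A B
  have := hF (Idx₀ A B)
  obtain ⟨i, η, hη⟩ := Types.jointly_surjective_of_isColimit (isColimitOfPreserves F hc) ξ
  exact ⟨Stage i, inferInstance, inferInstance, finitePresentation i, (FPColim.cocone A B).ι.app i, η, hη⟩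

/-- The algebra map underlying a morphism under `A`. -/
def algHomOfUnder {A P B : Type u} [CommRing A] [CommRing P] [CommRing B] [Algebra A P] [Algebra A B]
    (g : Under.mk (CommRingCat.ofHom (algebraMap A P)) ⟶ Under.mk (CommRingCat.ofHom (algebraMap A B))) :
    P →ₐ[A] B where
  __ := g.right.hom
  commutes' a := ConcreteCategory.congr_hom (Under.w g) a

end Groth.Agent.H9Popescu
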