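import Groth.Agent.H9Popescu.Inseparable
import Groth.Agent.H05EGA4.GeomRegular
import Groth.Agent.H06Red.Algebra

/-!
# Ind-smoothness of geometrically regular algebras over fields
-/

set_option autoImplicit false
set_option linter.style.haveILetI false

universe u

open TensorProduct IsLocalRing

namespace Groth.Agent.H9Popescu

/-- A map whose singular ideal generates the unit ideal factors through a smooth algebra. -/
theorem exists_smooth_of_map_singularIdeal_eq_top {R A Λ : Type u} [CommRing R] [CommRing A] [Algebra R A]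
    [Algebra.FinitePresentation R A] [CommRing Λ] [Algebra R Λ] (φ : A →ₐ[R] Λ)
    (h : (Smoothing.singularIdeal R A).map φ = ⊤) :
    ∃ (B : Type u) (_ : CommRing B) (_ : Algebra R B), Algebra.Smooth R B ∧
      ∃ (g : A →ₐ[R] B) (ψ : B →ₐ[R] Λ), ψ.comp g = φ := by
  classical
  obtain ⟨T, hT, hT1⟩ := Submodule.mem_span_finite_of_mem_span
    (show (1 : Λ) ∈ Ideal.span (φ '' (Smoothing.singularIdeal R A : Set A)) from (h.ge Submodule.mem_top : (1 : Λ) ∈ (Smoothing.singularIdeal R A).map φ))
  obtain ⟨c, hc⟩ := Submodule.mem_span_finset'.1 hT1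
  choose aT haT haTφ using fun t : T => hT t.2
  let I : Ideal (MvPolynomial T A) :=
    Ideal.span {∑ t, MvPolynomial.C (aT t) * MvPolynomial.X t - 1}
  let B := MvPolynomial T A ⧸ I
  have hrel : ∑ t, algebraMap A B (aT t) * Ideal.Quotient.mk I (MvPolynomial.X t) = 1 := by
    rw [← sub_eq_zero]
    have : Ideal.Quotient.mk I (∑ t, MvPolynomial.C (aT t) * MvPolynomial.X t - 1) = 0 :=
      Ideal.Quotient.eq_zero_iff_mem.2 (Ideal.subset_span rfl)
    rw [map_sub, map_sum, map_one] at this
    simp only [map_mul] at this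
    exact this
  haveI : Algebra.FinitePresentation A B := Algebra.FinitePresentation.quotient (Submodule.fg_span_singleton _)
  haveI : Algebra.FinitePresentation R B := Algebra.FinitePresentation.trans R A B
  haveI : Algebra.FormallySmooth A B := by
    refine Algebra.FormallySmooth.of_comp_surjective fun C _ _ J hJ f => ?_
    choose b hb using fun t : T => Ideal.Quotient.mk_surjective (I := J) (f (Ideal.Quotient.mk I (MvPolynomial.X t)))
    let e : C := ∑ t, algebraMap A C (aT t) * b t - 1
    have he : e ∈ J := by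
      rw [← Ideal.Quotient.eq_zero_iff_mem]
      have h1 := congrArg f hrel
      simp only [map_sum, map_mul, AlgHom.commutes, map_one] at h1
      simp only [e, map_sub, map_sum, map_mul, map_one, Ideal.Quotient.mk_algebraMap, hb, h1, sub_self]
    have he2 : e * e = 0 := by
      rw [← Ideal.mem_bot, ← hJ, pow_two]
      exact Ideal.mul_mem_mul he he
    let x : T → C := fun t => b t * (1 - e)
    have hx : MvPolynomial.aeval (R := A) x (∑ t, MvPolynomial.C (aT t) * MvPolynomial.X t - 1) = 0 := by
      simp only [map_sub, map_sum, map_mul, MvPolynomial.aeval_C, MvPolynomial.aeval_X, map_one, x, ← mul_assoc,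
        ← Finset.sum_mul]
      rw [show ∑ t, algebraMap A C (aT t) * b t = 1 + e by simp [e]]
      linear_combination -he2
    let g : B →ₐ[A] C := Ideal.Quotient.liftₐ I (MvPolynomial.aeval x) fun z hz => by
      obtain ⟨r, rfl⟩ := Ideal.mem_span_singleton'.1 hz
      rw [map_mul, hx, mul_zero]
    refine ⟨g, Ideal.Quotient.algHom_ext A (MvPolynomial.algHom_ext fun t => ?_)⟩
    show Ideal.Quotient.mk J (MvPolynomial.aeval x (MvPolynomial.X t)) = f (Ideal.Quotient.mk I (MvPolynomial.X t))
    rw [MvPolynomial.aeval_X, ← hb t]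
    simp only [x, map_mul, map_sub, map_one, Ideal.Quotient.eq_zero_iff_mem.2 he, sub_zero, mul_one]
  haveI : Algebra.Smooth A B := ⟨inferInstance, inferInstance⟩
  haveI : Algebra.Smooth R B := by
    refine ⟨Algebra.smoothLocus_eq_univ_iff.1 (Set.eq_univ_of_forall fun Q => ?_), inferInstance⟩
    obtain ⟨t, ht⟩ : ∃ t, algebraMap A B (aT t) ∉ Q.asIdeal := by
      by_contra hc'
      push Not at hc'
      exact Q.2.ne_top ((Ideal.eq_top_iff_one _).2 (hrel ▸ sum_mem fun t _ => Ideal.mul_mem_right _ _ (hc' t)))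
    refine isSmoothAt_trans (D := A) Q.asIdeal ?_ ?_
    · by_contra hns
      have h := haT t
      rw [SetLike.mem_coe, Smoothing.singularIdeal, PrimeSpectrum.mem_vanishingIdeal] at h
      exact ht (h ⟨Q.asIdeal.under A, inferInstance⟩ hns)
    · exact (Algebra.smoothLocus_eq_univ (R := A) (A := B)).ge (Set.mem_univ Q)
  let ψA : MvPolynomial T A →+* Λ := MvPolynomial.eval₂Hom φ.toRingHom fun t => c t
  let ψ : B →+* Λ := Ideal.Quotient.lift I ψA fun z hz => by
    obtain ⟨r, rfl⟩ := Ideal.mem_span_singleton'.1 hz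
    rw [map_mul]
    refine mul_eq_zero_of_right _ ?_
    simp only [ψA, map_sub, map_sum, map_mul, map_one, MvPolynomial.eval₂Hom_C, MvPolynomial.eval₂Hom_X',
      AlgHom.toRingHom_eq_coe, RingHom.coe_coe, haTφ]
    rw [sub_eq_zero, ← hc]
    exact Finset.sum_congr rfl fun t _ => mul_comm _ _
  have hψ : ∀ a, ψ (algebraMap A B a) = φ a := fun a => MvPolynomial.eval₂Hom_C _ _ a
  refine ⟨B, inferInstance, inferInstance, inferInstance, IsScalarTower.toAlgHom R A B,
    { ψ with commutes' := fun r => ?_ }, AlgHom.ext hψ⟩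
  show ψ (algebraMap R B r) = _
  rw [IsScalarTower.algebraMap_apply R A B, hψ, AlgHom.commutes]

/-- Geometrically regular algebras over fields can be resolved at minimal primes. -/
theorem resolvable_field {k A Λ : Type u} [Field k] [CommRing A] [Algebra k A] [Algebra.FinitePresentation k A]
    [CommRing Λ] [Algebra k Λ] [IsNoetherianRing Λ] (hreg : CAlg.IsGeometricallyRegular k Λ) (φ : A →ₐ[k] Λ)
    (𝔮 : Ideal Λ) [𝔮.IsPrime] (hmin : 𝔮 ∈ (Smoothing.singRad k φ).minimalPrimes) :
    Smoothing.Resolvable k φ 𝔮 := by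
  haveI : Module.Finite k k := Module.Finite.self k
  haveI : IsRegularRing (k ⊗[k] Λ) := hreg k inferInstance
  haveI : IsRegularRing Λ := IsRegularRing.of_ringEquiv (Algebra.TensorProduct.lid k Λ).toRingEquiv
  haveI : IsRegularLocalRing (Localization.AtPrime 𝔮) := IsRegularRing.isRegularLocalRing_localization 𝔮
  have hperf : PerfectField k → Smoothing.Resolvable k φ 𝔮 := fun hk => by
    haveI := hk
    haveI : Algebra.IsGeometricallyReduced k 𝔮.ResidueField :=
      H06Red.isGeometricallyReduced_of_perfectField k 𝔮.ResidueField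
    exact resolvable_separable φ 𝔮 hmin
  rcases CharP.exists' k with h0 | ⟨p, hp, hchar⟩
  · haveI := h0
    exact hperf inferInstance
  · haveI := hp
    haveI := hchar
    by_cases hinf : Infinite (Λ ⧸ 𝔮)
    · exact resolvable_inseparable p φ 𝔮 hmin (L := Localization.AtPrime 𝔮)
        (H05EGA4.exists_derivation_of_isAdicFormallySmooth
          (H05EGA4.isAdicFormallySmooth_localization_of_isGeometricallyRegular hreg 𝔮))
    · haveI : Finite (Λ ⧸ 𝔮) := not_infinite_iff_finite.mp hinf
      haveI : Finite k := Finite.of_injective (algebraMap k (Λ ⧸ 𝔮)) (algebraMap k (Λ ⧸ 𝔮)).injective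
      exact hperf inferInstance

/-- Geometrically regular algebras over fields are ind-smooth. -/
theorem indSmooth_of_geometricallyRegular {k Λ : Type u} [Field k] [CommRing Λ] [Algebra k Λ] [IsNoetherianRing Λ]
    (hreg : CAlg.IsGeometricallyRegular k Λ) : Smoothing.IndSmooth k Λ := by
  suffices ∀ (Q : Ideal Λ) (A : Type u) [CommRing A] [Algebra k A], Algebra.FinitePresentation k A →
      ∀ f : A →ₐ[k] Λ, Smoothing.singRad k f = Q → ∃ (B : Type u) (_ : CommRing B) (_ : Algebra k B),
        Algebra.Smooth k B ∧ ∃ (g : A →ₐ[k] B) (h : B →ₐ[k] Λ), h.comp g = f from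
    fun A _ _ hA f => this _ A hA f rfl
  intro Q
  induction Q using WellFoundedGT.induction with
  | ind Q ih =>
    intro A _ _ hA f hQ
    haveI := hA
    by_cases htop : Smoothing.singRad k f = ⊤
    · exact exists_smooth_of_map_singularIdeal_eq_top f (Ideal.radical_eq_top.1 htop)
    obtain ⟨𝔮, h𝔮⟩ := Ideal.nonempty_minimalPrimes htop
    haveI := h𝔮.1.1
    obtain ⟨B, _, _, hB, g, h, hgh, hle, hnle⟩ := resolvable_field hreg f 𝔮 h𝔮
    have hlt : Q < Smoothing.singRad k h :=
      lt_of_le_of_ne (hQ ▸ hle) fun he => hnle (he ▸ hQ ▸ h𝔮.1.2)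
    obtain ⟨C, _, _, hC, g', h', hgh'⟩ := ih _ hlt B hB h rfl
    exact ⟨C, inferInstance, inferInstance, hC, g'.comp g, h', by rw [← AlgHom.comp_assoc, hgh', hgh]⟩

end Groth.Agent.H9Popescu
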