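import Groth.Agent.S2162
import Groth.Prelude.Def_Smoothing
import Mathlib.RingTheory.Smooth.Locus
import Mathlib.RingTheory.Nilpotent.GeometricallyReduced
import Mathlib.RingTheory.Localization.FractionRing

/-!
# Separable field extensions are ind-smooth
-/

set_option linter.style.haveILetI false

universe u

namespace Groth.Agent.H9Popescu

/-- A geometrically reduced field extension is ind-smooth. -/
theorem indSmooth_field (k κ : Type u) [Field k] [Field κ] [Algebra k κ]
    [Algebra.IsGeometricallyReduced k κ] : Smoothing.IndSmooth k κ := by
  intro A _ _ hA f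
  haveI := hA
  let S := f.range
  haveI : Algebra.FiniteType k S := Algebra.FiniteType.of_surjective f.rangeRestrict f.rangeRestrict_surjective
  haveI : IsDomain S := inferInstance
  haveI : Algebra.FinitePresentation k S := Algebra.FinitePresentation.of_finiteType.mp inferInstance
  let L := FractionRing S
  have hval : Function.Injective (S.val : S →+* κ) := Subtype.val_injective
  let j : L →+* κ := IsFractionRing.lift hval
  let jA : L →ₐ[k] κ :=
    { j with
      commutes' := fun c => by
        show j (algebraMap k L c) = _
        rw [IsScalarTower.algebraMap_apply k S L]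
        exact IsFractionRing.lift_algebraMap hval _ }
  haveI : Algebra.IsGeometricallyReduced k L := Algebra.IsGeometricallyReduced.of_injective jA j.injective
  haveI : FaithfulSMul k S := (faithfulSMul_iff_algebraMap_injective k S).mpr (algebraMap k S).injective
  have hsm : Algebra.IsSmoothAt k (⊥ : Ideal S) := (S2162.result (R := k) (S := S) (K := k) (L := L)).mpr inferInstance
  haveI := hsm
  obtain ⟨s, hs, hsmooth⟩ := Algebra.IsSmoothAt.exists_notMem_smooth k (⊥ : Ideal S)
  have hs0 : (s : κ) ≠ 0 := fun h => hs (Ideal.mem_bot.mpr (Subtype.ext h))
  haveI := hsmooth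
  refine ⟨Localization.Away s, inferInstance, inferInstance, inferInstance,
    (IsScalarTower.toAlgHom k S (Localization.Away s)).comp f.rangeRestrict,
    IsLocalization.liftAlgHom (M := Submonoid.powers s) (f := S.val) ?_, AlgHom.ext fun a => ?_⟩
  · rintro ⟨_, n, rfl⟩
    rw [map_pow]
    exact (Ne.isUnit hs0).pow n
  · show IsLocalization.lift _ (algebraMap S (Localization.Away s) (f.rangeRestrict a)) = f a
    rw [IsLocalization.lift_eq]
    rfl

end Groth.Agent.H9Popescu
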