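import Groth.Agent.H9Smooth.Retract
import Mathlib.RingTheory.Smooth.Locus
import Mathlib.Algebra.TrivSqZeroExt.Basic

/-!
# A retraction with free differentials on every smooth open
-/

set_option linter.style.haveILetI false

universe u

open MvPolynomial

namespace Groth.Agent.H9Popescu

variable {R A : Type u} [CommRing R] [CommRing A] [Algebra R A] {n m : ℕ}

/-- The Jacobian matrix of a presentation. -/
noncomputable def jac (φ : MvPolynomial (Fin n) R →ₐ[R] A) (f : Fin m → MvPolynomial (Fin n) R) :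
    Matrix (Fin m) (Fin n) A := Matrix.of fun j l => φ (pderiv l (f j))

/-- The linear equations satisfied by the conormal generators. -/
noncomputable def freeRel (φ : MvPolynomial (Fin n) R →ₐ[R] A) (f : Fin m → MvPolynomial (Fin n) R) :
    Ideal (MvPolynomial (Fin m) A) :=
  Ideal.span {p | ∃ c : Fin m → A, Matrix.vecMul c (jac φ f) = 0 ∧ p = ∑ j, C (c j) * X j}

/-- The retracting algebra. -/
abbrev FreeAlg (φ : MvPolynomial (Fin n) R →ₐ[R] A) (f : Fin m → MvPolynomial (Fin n) R) : Type u :=
  MvPolynomial (Fin m) A ⧸ freeRel φ f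

theorem sum_comp_smul_eq_zero {C M ι κ : Type*} [CommRing C] [AddCommGroup M] [Module C M] [Fintype ι] [Fintype κ]
    (g : κ → C) (N : κ → ι → C) (u : ι → M) (h : ∀ j, ∑ i, N j i • u i = 0) :
    ∑ i, (∑ j, g j * N j i) • u i = 0 := by
  simp only [Finset.sum_smul, mul_smul]
  rw [Finset.sum_comm]
  simp only [← Finset.smul_sum, h, smul_zero, Finset.sum_const_zero]

theorem sum_smul_comp {C M ι κ : Type*} [CommRing C] [AddCommGroup M] [Module C M] [Fintype ι] [Fintype κ]
    (g : κ → C) (N : κ → ι → C) (u : ι → M) :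
    ∑ i, (∑ j, g j * N j i) • u i = ∑ j, g j • ∑ i, N j i • u i := by
  simp only [Finset.sum_smul, mul_smul, Finset.smul_sum]
  exact Finset.sum_comm

theorem sum_mul_comp {C ι κ : Type*} [CommRing C] [Fintype ι] [Fintype κ] (g : κ → C) (N : κ → ι → C) (u : ι → C) :
    ∑ i, (∑ j, g j * N j i) * u i = ∑ j, g j * ∑ i, N j i * u i := by
  simpa only [smul_eq_mul] using sum_smul_comp g N u

variable (φ : MvPolynomial (Fin n) R →ₐ[R] A) (f : Fin m → MvPolynomial (Fin n) R)

theorem nonempty_freeAlg_retraction : Nonempty (FreeAlg φ f →ₐ[A] A) :=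
  ⟨Ideal.Quotient.liftₐ _ (aeval fun _ => (0 : A)) fun x hx => by
    refine (Ideal.span_le.mpr ?_ : freeRel φ f ≤ RingHom.ker (aeval fun _ : Fin m => (0 : A))) hx
    rintro _ ⟨c, -, rfl⟩
    simp [RingHom.mem_ker]⟩

/-- A generalized inverse of the Jacobian on a smooth open. -/
theorem exists_ginv (hφ : Function.Surjective φ) (hker : RingHom.ker φ = Ideal.span (Set.range f)) (a : A)
    [Algebra.FormallySmooth R (Localization.Away a)] :
    ∃ G : Matrix (Fin n) (Fin m) (Localization.Away a),
      (jac φ f).map (algebraMap A (Localization.Away a)) * G * (jac φ f).map (algebraMap A _) =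
          (jac φ f).map (algebraMap A _) ∧
        G * (jac φ f).map (algebraMap A _) * G = G := by
  classical
  suffices ∃ G : Matrix (Fin n) (Fin m) (Localization.Away a),
      (jac φ f).map (algebraMap A (Localization.Away a)) * G * (jac φ f).map (algebraMap A _) =
        (jac φ f).map (algebraMap A _) by
    obtain ⟨G, hG⟩ := this
    set J := (jac φ f).map (algebraMap A (Localization.Away a))
    refine ⟨G * J * G, ?_, ?_⟩
    · calc J * (G * J * G) * J = (J * G * J) * G * J := by simp only [Matrix.mul_assoc]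
        _ = J := by rw [hG, hG]
    · calc G * J * G * J * (G * J * G) = G * (J * G * J) * G * (J * G) := by simp only [Matrix.mul_assoc]
        _ = G * J * G * (J * G) := by rw [hG]
        _ = G * (J * G * J) * G := by simp only [Matrix.mul_assoc]
        _ = G * J * G := by rw [hG]
  obtain ⟨g, rfl⟩ := hφ a
  have hfg : (RingHom.ker φ).FG := ⟨Finset.univ.image f, by simp [hker]⟩
  obtain ⟨N, k, hk, hspl⟩ := H9Smooth.exists_splitting φ hφ hfg g
  choose H hH using fun i => Ideal.mem_span_range_iff_exists_fun.mp (hker.le (hk i))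
  let L := Localization.Away (φ g)
  obtain ⟨v, hv⟩ := IsLocalization.Away.algebraMap_isUnit (S := L) (φ g)
  refine ⟨Matrix.of fun i j => (↑(v ^ N)⁻¹ : L) * algebraMap A L (φ (H i j)), ?_⟩
  have hsq : ∀ z ∈ RingHom.ker φ ^ 2, ∀ l, φ (pderiv l z) = 0 := fun z hz l => by
    rw [pow_two] at hz
    refine Submodule.mul_induction_on hz (fun a ha b hb => ?_) (fun a b ha hb => by
      rw [map_add, map_add, ha, hb, add_zero])
    rw [RingHom.mem_ker] at ha hb
    rw [pderiv_mul, map_add, map_mul, map_mul, ha, hb]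
    ring
  have key : ∀ p, φ p = 0 → ∀ l, φ g ^ N * φ (pderiv l p) =
      ∑ i, φ (pderiv i p) * ∑ j, φ (H i j) * φ (pderiv l (f j)) := fun p hp l => by
    have h1 := hsq _ (hspl p hp) l
    rw [map_sub, map_sub, sub_eq_zero, map_sum, map_sum] at h1
    refine (Eq.trans ?_ h1).trans (Finset.sum_congr rfl fun i _ => ?_)
    · rw [pderiv_mul, map_add, map_mul φ, map_mul φ, hp, mul_zero, zero_add, map_pow φ]
    · rw [pderiv_mul, map_add, map_mul φ, map_mul φ, show φ (k i) = 0 from hk i, mul_zero, zero_add, ← hH i,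
        map_sum, map_sum]
      refine congrArg _ (Finset.sum_congr rfl fun j _ => ?_)
      rw [pderiv_mul, map_add, map_mul, map_mul, show φ (f j) = 0 from hker.ge (Ideal.subset_span ⟨j, rfl⟩),
        mul_zero, zero_add]
  refine Matrix.ext fun j l => ?_
  have h1 := congrArg (algebraMap A L) (key (f j) (hker.ge (Ideal.subset_span ⟨j, rfl⟩)) l)
  rw [map_mul, map_pow, ← hv, map_sum, ← Units.val_pow_eq_pow_val] at h1
  simp only [Matrix.mul_assoc, Matrix.mul_apply, Matrix.map_apply, Matrix.of_apply, jac, mul_assoc,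
    ← Finset.mul_sum, mul_left_comm _ (↑(v ^ N)⁻¹ : L)]
  rw [Units.inv_mul_eq_iff_eq_mul]
  rw [h1]
  simp only [map_mul, map_sum, Finset.mul_sum, Finset.sum_mul, mul_assoc]
  exact Finset.sum_comm

/-- The derivation of a polynomial ring factoring through the quotient. -/
theorem exists_derivationHom (hφ : Function.Surjective φ) (hker : RingHom.ker φ = Ideal.span (Set.range f))
    {B : Type u} [CommRing B] [Algebra R B] (χ : A →ₐ[R] B) (v : Fin n → B)
    (hv : ∀ j, ∑ l, χ (φ (pderiv l (f j))) * v l = 0) :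
    ∃ ψ : A →ₐ[R] TrivSqZeroExt B B, (∀ x, (ψ x).fst = χ x) ∧ ∀ l, (ψ (φ (X l))).snd = v l := by
  classical
  let ψ₀ : MvPolynomial (Fin n) R →ₐ[R] TrivSqZeroExt B B :=
    aeval fun l => TrivSqZeroExt.inl (χ (φ (X l))) + TrivSqZeroExt.inr (v l)
  have hval : ∀ p, (ψ₀ p).fst = χ (φ p) ∧ (ψ₀ p).snd = ∑ l, χ (φ (pderiv l p)) * v l := fun p => by
    induction p using MvPolynomial.induction_on with
    | C r => simp [ψ₀, ← MvPolynomial.algebraMap_eq, TrivSqZeroExt.algebraMap_eq_inl']
    | add p q hp hq => simp [hp, hq, add_mul, Finset.sum_add_distrib]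
    | mul_X p i hp =>
      refine ⟨?_, ?_⟩
      · rw [map_mul, TrivSqZeroExt.fst_mul, hp.1, map_mul, map_mul]
        simp [ψ₀]
      · rw [map_mul, TrivSqZeroExt.snd_mul, hp.1, hp.2]
        simp only [ψ₀, aeval_X, TrivSqZeroExt.snd_add, TrivSqZeroExt.snd_inl, TrivSqZeroExt.snd_inr, zero_add,
          TrivSqZeroExt.fst_add, TrivSqZeroExt.fst_inl, TrivSqZeroExt.fst_inr, add_zero, smul_eq_mul,
          MulOpposite.smul_eq_mul_unop, MulOpposite.unop_op, pderiv_mul, map_add, map_mul, add_mul,
          Finset.sum_add_distrib, Finset.sum_mul, op_smul_eq_mul]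
        rw [Finset.sum_eq_single i (f := fun l => χ (φ p) * χ (φ (pderiv l (X i))) * v l)
          (fun l _ hl => by simp [pderiv_X_of_ne hl.symm]) (fun h => absurd (Finset.mem_univ i) h)]
        simp only [pderiv_X_self, map_one, mul_one]
        rw [add_comm]
        congr 1
        exact Finset.sum_congr rfl fun l _ => by ring
  refine ⟨AlgHom.liftOfSurjective φ hφ ψ₀ fun p hp => ?_, fun x => ?_, fun l => ?_⟩
  · obtain ⟨c, rfl⟩ := Ideal.mem_span_range_iff_exists_fun.mp (hker.le hp)
    rw [RingHom.mem_ker, map_sum]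
    refine Finset.sum_eq_zero fun j _ => ?_
    rw [map_mul]
    show ψ₀ (c j) * ψ₀ (f j) = 0
    rw [show ψ₀ (f j) = 0 from TrivSqZeroExt.ext (by
      rw [(hval _).1, show φ (f j) = 0 from hker.ge (Ideal.subset_span ⟨j, rfl⟩), map_zero, TrivSqZeroExt.fst_zero])
      (by rw [(hval _).2, hv, TrivSqZeroExt.snd_zero]), mul_zero]
  · obtain ⟨p, rfl⟩ := hφ x
    rw [AlgHom.liftOfSurjective_apply]
    exact (hval p).1
  · rw [AlgHom.liftOfSurjective_apply, (hval _).2, Finset.sum_eq_single l
      (fun b _ hb => by simp [pderiv_X_of_ne hb.symm]) (fun h => absurd (Finset.mem_univ l) h)]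
    simp

variable {f} {a : A}

/-- The conormal generators satisfy their defining equation on the smooth open. -/
theorem jg_mul_y (G : Matrix (Fin n) (Fin m) (Localization.Away a))
    (hG : (jac φ f).map (algebraMap A (Localization.Away a)) * G * (jac φ f).map (algebraMap A _) =
      (jac φ f).map (algebraMap A _))
    {B : Type u} [CommRing B] (ρ : Localization.Away a →+* B) (τ : FreeAlg φ f →+* B)
    (hτ : ∀ x, τ (algebraMap A (FreeAlg φ f) x) = ρ (algebraMap A _ x)) (j : Fin m) :
    ∑ i, ρ (((jac φ f).map (algebraMap A (Localization.Away a)) * G) j i) *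
        τ (Ideal.Quotient.mk _ (X i)) = τ (Ideal.Quotient.mk _ (X j)) := by
  classical
  let L := Localization.Away a
  let row : Fin m → L := fun i => (if j = i then 1 else 0) - ((jac φ f).map (algebraMap A L) * G) j i
  obtain ⟨⟨_, k, rfl⟩, hb⟩ := IsLocalization.exist_integer_multiples_of_finite (Submonoid.powers a) row
  choose c₀ hc₀ using hb
  have hrow : ∀ l, ∑ i, row i * algebraMap A L (jac φ f i l) = 0 := fun l => by
    have h := congrFun (congrFun hG j) l
    rw [Matrix.mul_apply] at h
    simp only [row, sub_mul, Finset.sum_sub_distrib, ite_mul, one_mul, zero_mul, Finset.sum_ite_eq,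
      Finset.mem_univ, if_true]
    rw [sub_eq_zero]
    exact h.symm
  have h0 : ∀ l, ∃ k', a ^ k' * Matrix.vecMul c₀ (jac φ f) l = 0 := fun l => by
    have h1 : algebraMap A L (Matrix.vecMul c₀ (jac φ f) l) = 0 := by
      rw [Matrix.vecMul, dotProduct, map_sum]
      simp only [map_mul, hc₀, Algebra.smul_def, mul_assoc, ← Finset.mul_sum, hrow, mul_zero]
    obtain ⟨⟨_, k', rfl⟩, hk'⟩ := (IsLocalization.map_eq_zero_iff (Submonoid.powers a) L _).mp h1
    exact ⟨k', hk'⟩
  choose k' hk' using h0
  have hrel : (∑ i, C (a ^ (∑ l, k' l) * c₀ i) * X i : MvPolynomial (Fin m) A) ∈ freeRel φ f := by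
    refine Ideal.subset_span ⟨_, funext fun l => ?_, rfl⟩
    obtain ⟨d, hd⟩ := Nat.exists_eq_add_of_le (Finset.single_le_sum (fun i _ => Nat.zero_le (k' i)) (Finset.mem_univ l))
    simp only [Matrix.vecMul, dotProduct, mul_assoc, ← Finset.mul_sum, Pi.zero_apply]
    rw [hd, pow_add, mul_comm (a ^ k' l), mul_assoc]
    exact mul_eq_zero_of_right _ (hk' l)
  have h2 := congrArg τ (Ideal.Quotient.eq_zero_iff_mem.mpr hrel)
  rw [map_zero, map_sum, map_sum] at h2
  simp only [map_mul, ← MvPolynomial.algebraMap_eq, Ideal.Quotient.mk_algebraMap, hτ, map_pow] at h2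
  have hc₁ : ∀ i, algebraMap A (Localization.Away a) (c₀ i) = algebraMap A L (a ^ k) * row i := fun i => by
    rw [hc₀]; exact Algebra.smul_def _ _
  simp only [hc₁, map_mul, map_pow, mul_assoc, ← Finset.mul_sum] at h2
  have hu : IsUnit (ρ (algebraMap A L a)) := (IsLocalization.Away.algebraMap_isUnit a).map ρ
  rw [(hu.pow _).mul_right_eq_zero, (hu.pow _).mul_right_eq_zero] at h2
  simp only [row, map_sub, apply_ite ρ, map_one, map_zero, sub_mul, Finset.sum_sub_distrib, ite_mul, one_mul,
    zero_mul, Finset.sum_ite_eq, Finset.mem_univ, if_true, sub_eq_zero] at h2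
  exact h2.symm

/-- The principal open of the retracting algebra is smooth. -/
theorem formallySmooth_freeAlg (hφ : Function.Surjective φ) (hker : RingHom.ker φ = Ideal.span (Set.range f))
    (a : A) [Algebra.FormallySmooth R (Localization.Away a)] :
    Algebra.FormallySmooth R (Localization.Away (algebraMap A (FreeAlg φ f) a)) := by
  classical
  obtain ⟨G, hG, -⟩ := exists_ginv φ f hφ hker a
  let L := Localization.Away a
  let C' := Localization.Away (algebraMap A (FreeAlg φ f) a)
  let ρ : L →ₐ[R] C' := IsLocalization.liftAlgHom (M := Submonoid.powers a)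
    (f := (IsScalarTower.toAlgHom R (FreeAlg φ f) C').comp (IsScalarTower.toAlgHom R A (FreeAlg φ f))) (by
      rintro ⟨_, k, rfl⟩
      show IsUnit (algebraMap (FreeAlg φ f) C' (algebraMap A _ (a ^ k)))
      rw [map_pow, map_pow]
      exact (IsLocalization.Away.algebraMap_isUnit _).pow k)
  have hρ : ∀ x, ρ (algebraMap A L x) = algebraMap (FreeAlg φ f) C' (algebraMap A _ x) :=
    fun x => IsLocalization.lift_eq _ x
  refine Algebra.FormallySmooth.of_comp_surjective fun B _ _ I hI e => ?_
  obtain ⟨ψ, hψ⟩ := Algebra.FormallySmooth.exists_lift I ⟨2, hI⟩ (e.comp ρ)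
  have hψ' : ∀ x, Ideal.Quotient.mk I (ψ x) = e (ρ x) := fun x => DFunLike.congr_fun hψ x
  choose b hb using fun i : Fin m => Ideal.Quotient.mk_surjective (I := I)
    (e (algebraMap (FreeAlg φ f) C' (Ideal.Quotient.mk _ (X i))))
  let ψA : A →+* B := ψ.toRingHom.comp (algebraMap A L)
  let y : Fin m → B := fun j => ∑ i, ψ (((jac φ f).map (algebraMap A L) * G) j i) * b i
  let l₀ : FreeAlg φ f →+* B := Ideal.Quotient.lift _ (eval₂Hom ψA y) fun x hx => by
    refine (Ideal.span_le.mpr ?_ : freeRel φ f ≤ RingHom.ker (eval₂Hom ψA y)) hx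
    rintro _ ⟨c, hc, rfl⟩
    simp only [SetLike.mem_coe, RingHom.mem_ker, map_sum, map_mul, eval₂Hom_C, eval₂Hom_X', y, Finset.mul_sum]
    rw [Finset.sum_comm]
    refine Finset.sum_eq_zero fun i _ => ?_
    simp only [← mul_assoc, ← Finset.sum_mul]
    show (∑ j, ψ (algebraMap A L (c j)) * ψ _) * b i = 0
    simp only [← map_mul, ← map_sum, Matrix.mul_apply, Matrix.map_apply]
    have : ∀ l, ∑ j, c j * jac φ f j l = 0 := fun l => congrFun hc l
    rw [show ∑ j, algebraMap A L (c j) * ∑ l, algebraMap A L (jac φ f j l) * G l i = 0 from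
      (sum_mul_comp _ (fun j l => algebraMap A L (jac φ f j l)) (fun l => G l i)).symm.trans (by
        simp only [← map_mul, ← map_sum, this, map_zero, zero_mul, Finset.sum_const_zero]), map_zero, zero_mul]
  have hl₀ : (Ideal.Quotient.mk I).comp l₀ = e.toRingHom.comp (algebraMap (FreeAlg φ f) C') := by
    refine Ideal.Quotient.ringHom_ext (MvPolynomial.ringHom_ext (fun x => ?_) fun j => ?_)
    · show Ideal.Quotient.mk I (eval₂Hom ψA y (C x)) = _
      rw [eval₂Hom_C]
      show Ideal.Quotient.mk I (ψ (algebraMap A L x)) = _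
      rw [hψ', hρ]
      rfl
    · show Ideal.Quotient.mk I (eval₂Hom ψA y (X j)) = e (algebraMap _ C' (Ideal.Quotient.mk _ (X j)))
      rw [eval₂Hom_X']
      simp only [y, map_sum, map_mul, hψ', hb]
      simp only [← map_mul, ← map_sum]
      exact congrArg e (jg_mul_y φ G hG ρ.toRingHom (algebraMap (FreeAlg φ f) C') (fun x => (hρ x).symm) j)
  let l₁ : FreeAlg φ f →ₐ[R] B :=
    { l₀ with
      commutes' := fun r => by
        show eval₂Hom ψA y (C (algebraMap R A r)) = _
        rw [eval₂Hom_C]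
        show ψ (algebraMap A L (algebraMap R A r)) = _
        rw [← IsScalarTower.algebraMap_apply, AlgHom.commutes] }
  have hu : ∀ s : Submonoid.powers (algebraMap A (FreeAlg φ f) a), IsUnit (l₁ s) := fun s => by
    refine (IsNilpotent.isUnit_quotient_mk_iff ⟨2, hI⟩).mp ?_
    show IsUnit ((Ideal.Quotient.mk I).comp l₀ s)
    rw [hl₀]
    exact (IsLocalization.map_units C' s).map e
  refine ⟨IsLocalization.liftAlgHom hu, IsLocalization.algHom_ext (Submonoid.powers (algebraMap A (FreeAlg φ f) a))
    (AlgHom.ext fun x => ?_)⟩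
  show Ideal.Quotient.mk I (IsLocalization.lift hu (algebraMap (FreeAlg φ f) C' x)) = e (algebraMap _ C' x)
  rw [IsLocalization.lift_eq]
  exact DFunLike.congr_fun hl₀ x

/-- The principal open of the retracting algebra has free differentials. -/
theorem free_kaehler_freeAlg (hφ : Function.Surjective φ) (hker : RingHom.ker φ = Ideal.span (Set.range f))
    (a : A) [Algebra.FormallySmooth R (Localization.Away a)] :
    Nonempty (Module.Basis (Fin n) (Localization.Away (algebraMap A (FreeAlg φ f) a))
      Ω[Localization.Away (algebraMap A (FreeAlg φ f) a)⁄R]) := by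
  classical
  obtain ⟨G, hG, hG'⟩ := exists_ginv φ f hφ hker a
  let L := Localization.Away a
  let J : Matrix (Fin m) (Fin n) L := (jac φ f).map (algebraMap A L)
  let F := FreeAlg φ f
  let C' := Localization.Away (algebraMap A F a)
  let χ : A →ₐ[R] C' := (IsScalarTower.toAlgHom R F C').comp (IsScalarTower.toAlgHom R A F)
  let ρ : L →ₐ[R] C' := IsLocalization.liftAlgHom (M := Submonoid.powers a) (f := χ) (by
      rintro ⟨_, k, rfl⟩
      show IsUnit (algebraMap F C' (algebraMap A _ (a ^ k)))
      rw [map_pow, map_pow]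
      exact (IsLocalization.Away.algebraMap_isUnit _).pow k)
  have hρ : ∀ x, ρ (algebraMap A L x) = χ x := fun x => IsLocalization.lift_eq _ x
  let y : Fin m → C' := fun j => algebraMap F C' (Ideal.Quotient.mk _ (X j))
  have hy : ∀ j, ∑ i, ρ ((J * G) j i) * y i = y j := fun j =>
    jg_mul_y φ G hG ρ.toRingHom (algebraMap F C') (fun x => (hρ x).symm) j
  let D := KaehlerDifferential.D R C'
  let wv : Fin n → Ω[C'⁄R] := fun l =>
    D (χ (φ (X l))) + D (∑ j, ρ (G l j) * y j) - ∑ j, y j • D (ρ (G l j))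
  have hwv : ∀ l, wv l = D (χ (φ (X l))) + ∑ j, ρ (G l j) • D (y j) := fun l => by
    simp only [wv, map_sum, Derivation.leibniz, Finset.sum_add_distrib]
    abel
  -- spanning
  let S := Submodule.span C' (Set.range wv)
  have htop : S = ⊤ := by
    rw [eq_top_iff, ← KaehlerDifferential.span_range_derivation, Submodule.span_le]
    rintro _ ⟨z, rfl⟩
    let δ : Derivation R C' (Ω[C'⁄R] ⧸ S) := S.mkQ.compDer D
    have h1 : ∀ l, δ (χ (φ (X l))) + ∑ j, ρ (G l j) • δ (y j) = 0 := fun l => by
      have : S.mkQ (wv l) = 0 := (Submodule.Quotient.mk_eq_zero S).mpr (Submodule.subset_span ⟨l, rfl⟩)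
      rw [hwv, map_add, map_sum] at this
      simp only [map_smul] at this
      exact this
    have hJx : ∀ j, ∑ l, ρ (J j l) • δ (χ (φ (X l))) = 0 := fun j => by
      have h2 := H9Smooth.derivation_aeval δ (χ.comp φ) (f j)
      rw [AlgHom.comp_apply, show φ (f j) = 0 from hker.ge (Ideal.subset_span ⟨j, rfl⟩), map_zero, map_zero] at h2
      refine Eq.trans (Finset.sum_congr rfl fun l _ => ?_) h2.symm
      show ρ (algebraMap A L (φ (pderiv l (f j)))) • _ = _
      rw [hρ]
      rfl
    have hGy : ∀ l, ∑ j, ρ (G l j) • δ (y j) = 0 := fun l => by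
      have h3 : ∀ i, δ (χ (φ (X i))) = -∑ j, ρ (G i j) • δ (y j) := fun i => eq_neg_of_add_eq_zero_left (h1 i)
      have h4 : ∑ i, ρ ((G * J) l i) • δ (χ (φ (X i))) = 0 := by
        simp only [Matrix.mul_apply, map_sum, map_mul]
        exact sum_comp_smul_eq_zero (fun j => ρ (G l j)) (fun j i => ρ (J j i)) _ hJx
      simp only [h3, smul_neg, Finset.sum_neg_distrib, neg_eq_zero, Finset.smul_sum, smul_smul] at h4
      replace h4 := Finset.sum_comm.trans h4
      refine Eq.trans (Finset.sum_congr rfl fun j _ => ?_) h4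
      rw [← Finset.sum_smul]
      congr 1
      conv_lhs => rw [← hG']
      rw [Matrix.mul_apply, map_sum]
      exact Finset.sum_congr rfl fun i _ => map_mul _ _ _
    have hx0 : ∀ l, δ (χ (φ (X l))) = 0 := fun l => by
      have := h1 l
      rwa [hGy, add_zero] at this
    have hA : ∀ x, δ (χ x) = 0 := fun x => by
      obtain ⟨p, rfl⟩ := hφ x
      rw [← AlgHom.comp_apply, H9Smooth.derivation_aeval δ (χ.comp φ) p]
      exact Finset.sum_eq_zero fun i _ => by
        show _ • δ (χ (φ (X i))) = 0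
        rw [hx0, smul_zero]
    have hL : ∀ x : L, δ (ρ x) = 0 := fun x => by
      obtain ⟨⟨x', s⟩, hs⟩ := IsLocalization.surj (Submonoid.powers a) x
      have h5 := congrArg δ (congrArg ρ hs)
      rw [map_mul, Derivation.leibniz, hρ, hρ, hA, hA, smul_zero, zero_add] at h5
      exact (((IsLocalization.map_units L s).map ρ).smul_eq_zero).mp (by rw [hρ]; exact h5)
    have hy0 : ∀ j, δ (y j) = 0 := fun j => by
      rw [← hy j, map_sum]
      simp only [Derivation.leibniz, hL, smul_zero, add_zero]
      simp only [Matrix.mul_apply, map_sum, map_mul]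
      exact sum_comp_smul_eq_zero (fun l => ρ (J j l)) (fun l i => ρ (G l i)) _ hGy
    have hF : ∀ x : F, δ (algebraMap F C' x) = 0 := fun x => by
      obtain ⟨p, rfl⟩ := Ideal.Quotient.mk_surjective x
      induction p using MvPolynomial.induction_on with
      | C r => exact hA r
      | add p q hp hq => rw [map_add, map_add, map_add, hp, hq, add_zero]
      | mul_X p i hp => rw [map_mul, map_mul, Derivation.leibniz, hp, hy0, smul_zero, smul_zero, add_zero]
    obtain ⟨⟨x', s⟩, hs⟩ := IsLocalization.surj (Submonoid.powers (algebraMap A F a)) z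
    have h5 := congrArg δ hs
    rw [Derivation.leibniz, hF, hF, smul_zero, zero_add] at h5
    exact (Submodule.Quotient.mk_eq_zero S).mp (((IsLocalization.map_units C' s).smul_eq_zero).mp h5)
  -- independence
  have hdual : ∀ k, ∃ ℓ : Ω[C'⁄R] →ₗ[C'] C', ∀ l, ℓ (wv l) = if l = k then 1 else 0 := fun k => by
    let v : Fin n → C' := fun l => (if l = k then 1 else 0) - ρ ((G * J) l k)
    have hv : ∀ j, ∑ l, χ (φ (pderiv l (f j))) * v l = 0 := fun j => by
      have h6 : ∀ l, χ (φ (pderiv l (f j))) = ρ (J j l) := fun l => (hρ _).symm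
      simp only [h6, v, mul_sub, Finset.sum_sub_distrib, mul_ite, mul_one, mul_zero, Finset.sum_ite_eq',
        Finset.mem_univ, if_true]
      rw [sub_eq_zero]
      simp only [← map_mul, ← map_sum, ← Matrix.mul_apply]
      rw [← Matrix.mul_assoc, hG]
    obtain ⟨ψ, hψ₁, hψ₂⟩ := exists_derivationHom φ f hφ hker χ v hv
    have hψu : ∀ s : Submonoid.powers a, IsUnit (ψ s) := fun s => by
      rw [TrivSqZeroExt.isUnit_iff_isUnit_fst, hψ₁, ← hρ]
      exact (IsLocalization.map_units L s).map ρ
    let ψL : L →ₐ[R] TrivSqZeroExt C' C' := IsLocalization.liftAlgHom hψu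
    have hψL : ∀ x, ψL (algebraMap A L x) = ψ x := fun x => IsLocalization.lift_eq _ x
    have hψLfst : ∀ x, (ψL x).fst = ρ x := fun x => by
      refine DFunLike.congr_fun (show (TrivSqZeroExt.fstHom R C' C').comp ψL = ρ from
        IsLocalization.algHom_ext (Submonoid.powers a) (AlgHom.ext fun x => ?_)) x
      show (ψL (algebraMap A L x)).fst = ρ (algebraMap A L x)
      rw [hψL, hψ₁, hρ]
    let Y : Fin m → TrivSqZeroExt C' C' := fun j =>
      ∑ i, ψL ((J * G) j i) * TrivSqZeroExt.inl (y i) + TrivSqZeroExt.inr (ρ (J j k))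
    have hYfst : ∀ j, (Y j).fst = y j := fun j => by
      simp only [Y, TrivSqZeroExt.fst_add, TrivSqZeroExt.fst_sum, TrivSqZeroExt.fst_mul, hψLfst,
        TrivSqZeroExt.fst_inl, TrivSqZeroExt.fst_inr, add_zero]
      exact hy j
    let ψF₀ : F →+* TrivSqZeroExt C' C' := Ideal.Quotient.lift _ (eval₂Hom ψ.toRingHom Y) fun x hx => by
      refine (Ideal.span_le.mpr ?_ : freeRel φ f ≤ RingHom.ker (eval₂Hom ψ.toRingHom Y)) hx
      rintro _ ⟨c, hc, rfl⟩
      have hcJ : ∀ l, ∑ j, algebraMap A L (c j) * J j l = 0 := fun l => by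
        simp only [J, Matrix.map_apply, ← map_mul, ← map_sum]
        exact (congrArg _ (congrFun hc l)).trans (map_zero _)
      simp only [SetLike.mem_coe, RingHom.mem_ker, map_sum, map_mul, eval₂Hom_C, eval₂Hom_X', Y, mul_add,
        Finset.sum_add_distrib]
      have e1 : ∑ j, ψ (c j) * TrivSqZeroExt.inr (ρ (J j k)) = 0 := by
        refine TrivSqZeroExt.ext ?_ ?_
        · rw [TrivSqZeroExt.fst_sum, TrivSqZeroExt.fst_zero]
          exact Finset.sum_eq_zero fun j _ => by rw [TrivSqZeroExt.fst_mul, TrivSqZeroExt.fst_inr, mul_zero]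
        · rw [TrivSqZeroExt.snd_sum, TrivSqZeroExt.snd_zero]
          simp only [TrivSqZeroExt.snd_mul, TrivSqZeroExt.snd_inr, TrivSqZeroExt.fst_inr, MulOpposite.op_zero,
            zero_smul, add_zero, hψ₁, smul_eq_mul, ← hρ, ← map_mul, ← map_sum, hcJ, map_zero]
      have e2 : ∑ j, ψ (c j) * ∑ i, ψL ((J * G) j i) * TrivSqZeroExt.inl (y i) = 0 := by
        simp only [← hψL]
        refine (sum_mul_comp _ (fun j i => ψL ((J * G) j i)) _).symm.trans (Finset.sum_eq_zero fun i _ => ?_)
        simp only [← map_mul, ← map_sum, Matrix.mul_apply]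
        rw [show ∑ j, algebraMap A L (c j) * ∑ l, J j l * G l i = 0 from
          (sum_mul_comp _ (fun j l => J j l) (fun l => G l i)).symm.trans (by
            simp only [hcJ, zero_mul, Finset.sum_const_zero]), map_zero, zero_mul]
      exact (congrArg₂ (· + ·) e2 e1).trans (add_zero 0)
    let ψF : F →ₐ[R] TrivSqZeroExt C' C' :=
      { ψF₀ with
        commutes' := fun r => by
          show eval₂Hom ψ.toRingHom Y (C (algebraMap R A r)) = _
          rw [eval₂Hom_C]
          exact ψ.commutes r }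
    have hψFfst : ∀ x, (ψF x).fst = algebraMap F C' x := fun x => by
      obtain ⟨p, rfl⟩ := Ideal.Quotient.mk_surjective x
      refine DFunLike.congr_fun (show (TrivSqZeroExt.fstHom R C' C').toRingHom.comp
        (eval₂Hom ψ.toRingHom Y) = (algebraMap F C').comp (Ideal.Quotient.mk _) from
        MvPolynomial.ringHom_ext (fun r => ?_) fun j => ?_) p
      · show (eval₂Hom ψ.toRingHom Y (C r)).fst = algebraMap F C' (Ideal.Quotient.mk _ (C r))
        rw [eval₂Hom_C]
        exact hψ₁ r
      · show (eval₂Hom ψ.toRingHom Y (X j)).fst = y j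
        rw [eval₂Hom_X', hYfst]
    have hψFu : ∀ s : Submonoid.powers (algebraMap A F a), IsUnit (ψF s) := fun s => by
      rw [TrivSqZeroExt.isUnit_iff_isUnit_fst, hψFfst]
      exact IsLocalization.map_units C' s
    let Ψ : C' →ₐ[R] TrivSqZeroExt C' C' := IsLocalization.liftAlgHom hψFu
    have hΨ : ∀ x, Ψ (algebraMap F C' x) = ψF x := fun x => IsLocalization.lift_eq _ x
    have hΨfst : ∀ z, (Ψ z).fst = z := fun z => by
      refine DFunLike.congr_fun (show (TrivSqZeroExt.fstHom R C' C').comp Ψ = AlgHom.id R C' from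
        IsLocalization.algHom_ext (Submonoid.powers (algebraMap A F a)) (AlgHom.ext fun x => ?_)) z
      show (Ψ (algebraMap F C' x)).fst = algebraMap F C' x
      rw [hΨ, hψFfst]
    have hΨρ : ∀ x, Ψ (ρ x) = ψL x := fun x => by
      refine DFunLike.congr_fun (show Ψ.comp ρ = ψL from
        IsLocalization.algHom_ext (Submonoid.powers a) (AlgHom.ext fun x => ?_)) x
      show Ψ (ρ (algebraMap A L x)) = ψL (algebraMap A L x)
      rw [hρ, hψL]
      show Ψ (algebraMap F C' (algebraMap A F x)) = _
      rw [hΨ]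
      show eval₂Hom ψ.toRingHom Y (C x) = _
      rw [eval₂Hom_C]
      rfl
    let dd : Derivation R C' C' := Derivation.mk'
      ((TrivSqZeroExt.sndHom C' C').restrictScalars R ∘ₗ Ψ.toLinearMap) fun p q => by
        show (Ψ (p * q)).snd = _
        rw [map_mul, TrivSqZeroExt.snd_mul, hΨfst, hΨfst]
        simp [mul_comm]
    have hdd : ∀ z, dd z = (Ψ z).snd := fun z => rfl
    refine ⟨dd.liftKaehlerDifferential, fun l => ?_⟩
    simp only [wv, D, map_sub, map_add, map_sum, map_smul, Derivation.liftKaehlerDifferential_comp_D, smul_eq_mul]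
    have hY : ∀ j, Ψ (y j) = Y j := fun j => by
      show Ψ (algebraMap F C' _) = _
      rw [hΨ]
      exact eval₂Hom_X' _ _ j
    have hsum : Ψ (∑ j, ρ (G l j) * y j) =
        ∑ j, ψL (G l j) * TrivSqZeroExt.inl (y j) + TrivSqZeroExt.inr (ρ ((G * J) l k)) := by
      simp only [map_sum, map_mul, hΨρ, hY, Y, mul_add, Finset.sum_add_distrib]
      congr 1
      · refine (sum_mul_comp (fun j => ψL (G l j)) (fun j i => ψL ((J * G) j i)) _).symm.trans
          (Finset.sum_congr rfl fun i _ => ?_)
        simp only [← map_mul, ← map_sum, ← Matrix.mul_apply]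
        rw [← Matrix.mul_assoc, hG']
      · refine TrivSqZeroExt.ext ?_ ?_
        · rw [TrivSqZeroExt.fst_sum, TrivSqZeroExt.fst_inr]
          exact Finset.sum_eq_zero fun j _ => by rw [TrivSqZeroExt.fst_mul, TrivSqZeroExt.fst_inr, mul_zero]
        · rw [TrivSqZeroExt.snd_sum, TrivSqZeroExt.snd_inr, Matrix.mul_apply, map_sum]
          exact Finset.sum_congr rfl fun j _ => by
            rw [TrivSqZeroExt.snd_mul, TrivSqZeroExt.snd_inr, TrivSqZeroExt.fst_inr, hψLfst, map_mul]
            simp
    have hdx : dd (χ (φ (X l))) = v l := by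
      rw [hdd, show χ (φ (X l)) = ρ (algebraMap A L (φ (X l))) from (hρ _).symm, hΨρ, hψL, hψ₂]
    have hdy : ∑ j, dd (ρ (G l j) * y j) = ∑ j, y j * dd (ρ (G l j)) + ρ ((G * J) l k) := by
      rw [← map_sum, hdd, hsum, TrivSqZeroExt.snd_add, TrivSqZeroExt.snd_inr, TrivSqZeroExt.snd_sum]
      congr 1
      refine Finset.sum_congr rfl fun j _ => ?_
      simp [hdd, hΨρ, mul_comm]
    rw [hdx, hdy]
    simp only [v]
    ring
  choose ℓ hℓ using hdual
  refine ⟨Module.Basis.mk (v := wv) (Fintype.linearIndependent_iff.mpr fun c hc k => ?_) (le_of_eq htop.symm)⟩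
  have := congrArg (ℓ k) hc
  simpa [map_sum, map_smul, hℓ] using this

end Groth.Agent.H9Popescu
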