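import Groth.Agent.H9Popescu.FPColim

/-!
Approximation for finitary functors from approximation for finitely presented algebras.
-/

set_option autoImplicit false
universe u

namespace Groth.Agent.H9Popescu

open CategoryTheory CategoryTheory.Limits

/-- If points of finitely presented algebras in `B` can be approximated by points in `A`, then so can
values of finitary functors. -/
theorem exists_functor_approximation {A B Q : Type u} [CommRing A] [CommRing B] [CommRing Q] [Algebra A B]
    [Algebra A Q] (F : Under (CommRingCat.of A) ⥤ Type u)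
    (hF : ∀ (J : Type u) [SmallCategory J] [IsFiltered J], PreservesColimitsOfShape J F)
    (π : Under.mk (CommRingCat.ofHom (algebraMap A B)) ⟶ Under.mk (CommRingCat.ofHom (algebraMap A Q)))
    (ρ : Under.mk (𝟙 (CommRingCat.of A)) ⟶ Under.mk (CommRingCat.ofHom (algebraMap A Q)))
    (happ : ∀ (P : Type u) [CommRing P] [Algebra A P] [Algebra.FinitePresentation A P] (g : P →ₐ[A] B),
      ∃ h : P →ₐ[A] A, ∀ x, π.right.hom (g x) = algebraMap A Q (h x))
    (ξ : F.obj (Under.mk (CommRingCat.ofHom (algebraMap A B)))) :
    ∃ η : F.obj (Under.mk (𝟙 (CommRingCat.of A))), F.map ρ η = F.map π ξ := by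
  obtain ⟨P, _, _, hP, g, η₀, rfl⟩ := exists_finitePresentation_of_preservesColimits F hF B ξ
  obtain ⟨h, hh⟩ := happ P (algHomOfUnder g)
  let h' : Under.mk (CommRingCat.ofHom (algebraMap A P)) ⟶ Under.mk (𝟙 (CommRingCat.of A)) :=
    Under.homMk (CommRingCat.ofHom h.toRingHom) (CommRingCat.hom_ext (RingHom.ext fun a => h.commutes a))
  refine ⟨F.map h' η₀, ?_⟩
  have hρ : ∀ a : A, ρ.right.hom a = algebraMap A Q a := fun a =>
    ConcreteCategory.congr_hom (Under.w ρ) a
  have : h' ≫ ρ = g ≫ π := Under.UnderMorphism.ext (CommRingCat.hom_ext (RingHom.ext fun x =>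
    (hρ (h x)).trans (hh x).symm))
  rw [← Functor.map_comp_apply, ← Functor.map_comp_apply, this]

end Groth.Agent.H9Popescu
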