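import Groth.Agent.H05EGA4.FieldSmooth
import Mathlib.RingTheory.Kaehler.TensorProduct
import Mathlib.LinearAlgebra.Dual.Lemmas

/-!
# Finiteness of the imperfection module
-/

set_option autoImplicit false
set_option linter.style.haveILetI false

universe u

open TensorProduct KaehlerDifferential IsLocalRing

namespace Groth.Agent.H9Popescu

/-- Derivations of the base into any realisation of the residue field extend. -/
theorem exists_derivation_into {k A K : Type u} [Field k] [CommRing A] [IsLocalRing A] [Algebra k A] [Field K]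
    [Algebra A K] [Algebra k K] [IsScalarTower k A K] (hsurj : Function.Surjective (algebraMap A K))
    (hext : ∀ D : Derivation ℤ k (ResidueField A), ∃ E : Derivation ℤ A (ResidueField A),
      ∀ t, E (algebraMap k A t) = D t)
    (D : Derivation ℤ k K) : ∃ E : Derivation ℤ A K, ∀ t, E (algebraMap k A t) = D t := by
  have hker : RingHom.ker (algebraMap A K) = maximalIdeal A :=
    IsLocalRing.eq_maximalIdeal (RingHom.ker_isMaximal_of_surjective _ hsurj)
  let ι : ResidueField A →+* K := Ideal.Quotient.lift (maximalIdeal A) (algebraMap A K) fun a ha => by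
    rwa [← RingHom.mem_ker, hker]
  have hι : ∀ a, ι (residue A a) = algebraMap A K a := fun a => rfl
  have hbij : Function.Bijective ι := ⟨ι.injective, fun c => by
    obtain ⟨a, rfl⟩ := hsurj c
    exact ⟨residue A a, hι a⟩⟩
  let e : ResidueField A ≃+* K := RingEquiv.ofBijective ι hbij
  have he : ∀ a, e (residue A a) = algebraMap A K a := hι
  have heA : ∀ (a : A) (c : ResidueField A), e (a • c) = a • e c := fun a c => by
    rw [Algebra.smul_def, Algebra.smul_def, map_mul]
    exact congrArg (· * _) (he a)
  have hek : ∀ (t : k) (c : K), e.symm (t • c) = t • e.symm c := fun t c => by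
    rw [RingEquiv.symm_apply_eq, Algebra.smul_def, Algebra.smul_def, map_mul, e.apply_symm_apply]
    refine congrArg (· * _) ?_
    exact (IsScalarTower.algebraMap_apply k A K t).trans (he (algebraMap k A t)).symm
  let D' : Derivation ℤ k (ResidueField A) :=
    Derivation.mk' ((e.symm.toAddEquiv.toAddMonoidHom.comp D.toLinearMap.toAddMonoidHom).toIntLinearMap)
      fun a b => by
        show e.symm (D (a * b)) = a • e.symm (D b) + b • e.symm (D a)
        rw [D.leibniz, map_add, hek, hek]
  obtain ⟨E, hE⟩ := hext D'
  refine ⟨Derivation.mk' ((e.toAddEquiv.toAddMonoidHom.comp E.toLinearMap.toAddMonoidHom).toIntLinearMap)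
    (fun a b => ?_), fun t => ?_⟩
  · show e (E (a * b)) = a • e (E b) + b • e (E a)
    rw [E.leibniz, map_add, heA, heA]
  · show e (E (algebraMap k A t)) = D t
    rw [hE]
    exact e.apply_symm_apply _

/-- If derivations of the base extend, the imperfection module of the residue field is finite. -/
theorem finite_imperfection_of_derivation {F k A K : Type u} [CommRing F] [Field k] [CommRing A] [IsLocalRing A]
    [IsNoetherianRing A] [Field K] [Algebra F k] [Algebra k A] [Algebra F A] [IsScalarTower F k A] [Algebra A K]
    [Algebra k K] [IsScalarTower k A K] [Algebra F K] [IsScalarTower F k K] [IsScalarTower F A K]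
    (hsurj : Function.Surjective (algebraMap A K))
    (hext : ∀ D : Derivation F k K, ∃ E : Derivation F A K, ∀ t, E (algebraMap k A t) = D t) :
    Module.Finite K (LinearMap.ker (mapBaseChange F k K)) := by
  let Φ₀ : Ω[k⁄F] →ₗ[k] K ⊗[A] Ω[A⁄F] :=
    ((TensorProduct.mk A K Ω[A⁄F] 1).restrictScalars k).comp (KaehlerDifferential.map F F k A)
  let Φ : K ⊗[k] Ω[k⁄F] →ₗ[K] K ⊗[A] Ω[A⁄F] := Φ₀.liftBaseChange K
  have hΦ : ∀ t, Φ (1 ⊗ₜ D F k t) = 1 ⊗ₜ D F A (algebraMap k A t) := fun t => by
    simp only [Φ, Φ₀, LinearMap.liftBaseChange_tmul, one_smul, LinearMap.comp_apply, map_D]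
    rfl
  have hspan : Submodule.span K (Set.range fun t => (1 : K) ⊗ₜ[k] D F k t) = ⊤ := by
    rw [← Submodule.baseChange_top K, ← span_range_derivation, Submodule.baseChange_span, ← Set.range_comp]
    rfl
  have hinj : Function.Injective Φ := by
    rw [← LinearMap.ker_eq_bot, eq_bot_iff]
    intro z hz
    rw [Submodule.mem_bot, ← Module.forall_dual_apply_eq_zero_iff K]
    intro ψ
    let D' : Derivation F k K :=
      ((ψ.restrictScalars k).comp (TensorProduct.mk k K Ω[k⁄F] 1)).compDer (D F k)
    obtain ⟨E, hE⟩ := hext D'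
    let χ : K ⊗[A] Ω[A⁄F] →ₗ[K] K := E.liftKaehlerDifferential.liftBaseChange K
    have h : χ.comp Φ = ψ := by
      refine LinearMap.ext_on hspan ?_
      rintro _ ⟨t, rfl⟩
      rw [LinearMap.comp_apply, hΦ]
      show χ (1 ⊗ₜ D F A _) = _
      simp only [χ, LinearMap.liftBaseChange_tmul, one_smul, Derivation.liftKaehlerDifferential_comp_D, hE]
      rfl
    rw [← h, LinearMap.comp_apply, LinearMap.mem_ker.1 hz, map_zero]
  let V := LinearMap.ker (mapBaseChange F A K)
  haveI : Module.Finite A (RingHom.ker (algebraMap A K)).Cotangent :=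
    haveI : Module.Finite A (RingHom.ker (algebraMap A K)) := Module.IsNoetherian.finite A _
    Module.Finite.of_surjective _ (Ideal.toCotangent_surjective _)
  haveI : Module.Finite A V := by
    show Module.Finite A (V.restrictScalars A)
    rw [← range_kerCotangentToTensor F A K hsurj]
    exact Module.Finite.range _
  haveI : Module.Finite K V := Module.Finite.of_restrictScalars_finite A K V
  haveI : IsNoetherian K V := isNoetherian_of_isNoetherianRing_of_finite K V
  have hmaps : ∀ z ∈ LinearMap.ker (mapBaseChange F k K), Φ z ∈ V := fun z hz => by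
    have h : (mapBaseChange F A K).comp Φ = mapBaseChange F k K := by
      refine LinearMap.ext_on hspan ?_
      rintro _ ⟨t, rfl⟩
      rw [LinearMap.comp_apply, hΦ, mapBaseChange_tmul, mapBaseChange_tmul, map_D, map_D,
        ← IsScalarTower.algebraMap_apply]
    rw [LinearMap.mem_ker, ← LinearMap.comp_apply, h]
    exact hz
  exact Module.Finite.of_injective (Φ.restrict hmaps) fun a b h =>
    Subtype.ext (hinj (congrArg Subtype.val h))

end Groth.Agent.H9Popescu
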