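import Groth.Agent.H9Popescu.InseparableTwist

/-!
# Resolution at a prime with inseparable residue field
-/

set_option autoImplicit false
set_option linter.style.haveILetI false

universe u

open TensorProduct IsLocalRing Polynomial

namespace Groth.Agent.H9Popescu

/-- Killers in a polynomial ring for powers of constants. -/
theorem killer_polynomial_pow {S : Type u} [CommRing S] {d : ℕ} (w : Fin d → S) (M : ℕ) (s : S) (l : Fin d)
    (h : ∀ x, w l ^ (M * 2) * x ∈ Ideal.span (Set.range fun j : {j : Fin d // (j : ℕ) < (l : ℕ)} => w j ^ (M * 8)) →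
      s * x ∈ Ideal.span (Set.range fun j : {j : Fin d // (j : ℕ) < (l : ℕ)} => w j ^ (M * 8)))
    (x : Polynomial S) (hx : C (w l) ^ (M * 2) * x ∈
      Ideal.span (Set.range fun j : {j : Fin d // (j : ℕ) < (l : ℕ)} => (C (w j) ^ M) ^ 8)) :
    C s * x ∈ Ideal.span (Set.range fun j : {j : Fin d // (j : ℕ) < (l : ℕ)} => (C (w j) ^ M) ^ 8) := by
  have hJ : Ideal.span (Set.range fun j : {j : Fin d // (j : ℕ) < (l : ℕ)} => (C (w j) ^ M) ^ 8) =
      (Ideal.span (Set.range fun j : {j : Fin d // (j : ℕ) < (l : ℕ)} => w j ^ (M * 8))).map C := by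
    rw [Ideal.map_span, ← Set.range_comp]
    simp only [Function.comp_def, map_pow, pow_mul]
  rw [hJ] at hx ⊢
  refine killer_polynomial s (w l ^ (M * 2)) _ h x ?_
  rwa [map_pow]

set_option maxHeartbeats 1600000 in
/-- Resolution at a prime minimal over the singular radical when derivations of the base extend. -/
theorem resolvable_inseparable {k A Λ : Type u} [Field k] (p : ℕ) [Fact p.Prime] [CharP k p] [CommRing A]
    [Algebra k A] [Algebra.FinitePresentation k A] [CommRing Λ] [IsNoetherianRing Λ] [Algebra k Λ]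
    (φ : A →ₐ[k] Λ) (𝔮 : Ideal Λ) [𝔮.IsPrime] [Infinite (Λ ⧸ 𝔮)]
    (hmin : 𝔮 ∈ (Smoothing.singRad k φ).minimalPrimes)
    {L : Type u} [CommRing L] [Algebra Λ L] [IsLocalization.AtPrime L 𝔮] [Algebra k L] [IsScalarTower k Λ L]
    [IsRegularLocalRing L]
    (hext : ∀ D : Derivation ℤ k (ResidueField L), ∃ E : Derivation ℤ L (ResidueField L),
      ∀ t, E (algebraMap k L t) = D t) : Smoothing.Resolvable k φ 𝔮 := by
  classical
  haveI : IsNoetherianRing A := Algebra.FiniteType.isNoetherianRing k A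
  obtain ⟨s, a, ha⟩ := Submodule.fg_iff_exists_fin_generating_family.mp
    (IsNoetherian.noetherian (Smoothing.singularIdeal k A))
  obtain ⟨n, hn, hI⟩ := exists_pow_le_singular (L := L) φ 𝔮 hmin a ha
  obtain ⟨d, hd⟩ : ∃ d : ℕ, ringKrullDim L = d :=
    ⟨_, ((isRegularLocalRing_iff L).mp inferInstance).symm⟩
  obtain ⟨M, B₀, _, _, _, _, hM, hBfp, hstd, γ, hγ, ρ, hρ, hργ⟩ :=
    exists_standard_model_to_universal (k := k) n d hn a (fun j => ha.le (Ideal.subset_span ⟨j, rfl⟩))
  haveI := hBfp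
  let N := d * (M * 8) + 1 + n + 2
  obtain ⟨σ, _, ev, w, hwL, hwdim, hwP, D₀, _, _, hD₀, φD, Z, v, hφDk, hZ, hvR, hvA⟩ :=
    exists_local_model p φ 𝔮 hext n d N (by omega) hd a hI
  haveI := hD₀
  let R₀ := MvPolynomial σ k
  let p₀ : Ideal R₀ := 𝔮.comap ev
  haveI : IsRegularLocalRing (Localization.AtPrime p₀) := IsRegularRing.isRegularLocalRing_localization p₀
  obtain ⟨sR, hsR, hkR⟩ := exists_killer p₀ w (M * 8) (M * 2) (by omega) (Localization.AtPrime p₀) hwdim hwP
  obtain ⟨sΛ, hsΛ, hkΛ⟩ := exists_killer 𝔮 (fun l => ev (w l)) (M * 8) (M * 2) (by omega) L hd hwL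
  choose α hα using fun l j => Ideal.Quotient.mk_surjective (v (Z l j))
  obtain ⟨c, hc, lam, hlam, hlamα⟩ := exists_cleared_solution (L := L) 𝔮 n N (by omega) (fun l => ev (w l))
    (fun j => φ (a j)) hI α fun l => by
      rw [← Ideal.Quotient.eq_zero_iff_mem, map_sub, map_pow, map_sum, ← hvR, ← map_pow v, hZ, map_sum, sub_eq_zero]
      refine Finset.sum_congr rfl fun j _ => ?_
      rw [map_mul, map_mul, hvA, hα]
  let R := Polynomial R₀
  let θ : R →+* Polynomial Λ := eval₂RingHom ((C : Λ →+* Polynomial Λ).comp ev.toRingHom) (C (sΛ * c) * X)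
  letI : Algebra R (Polynomial Λ) := θ.toAlgebra
  have hθC : ∀ r, algebraMap R (Polynomial Λ) (C r) = C (ev r) := fun r => eval₂_C _ _
  have hθX : algebraMap R (Polynomial Λ) X = C (sΛ * c) * X := eval₂_X _ _
  haveI : IsScalarTower k R (Polynomial Λ) := IsScalarTower.of_algebraMap_eq fun t => by
    show _ = algebraMap R (Polynomial Λ) (C (algebraMap k R₀ t))
    rw [hθC, ev.commutes]
    rfl
  haveI : Algebra.Smooth k R := ⟨Algebra.FormallySmooth.comp k R₀ R,
    Algebra.FinitePresentation.trans k R₀ R⟩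
  have hWim : algebraMap R (Polynomial Λ) (C sR * X) = C ((ev sR * sΛ) * c) * X := by
    rw [map_mul (algebraMap R (Polynomial Λ)), hθC, hθX, ← mul_assoc, ← map_mul C, mul_assoc]
  refine resolvable_twisted (R₀ := R₀) (R := R) φ 𝔮 (IsScalarTower.toAlgHom k R₀ R) ev hn a ha w hwL hwP M hM N
    (by omega) φD Z v hφDk hZ hvR hvA hstd γ hγ (map_add γ) (map_mul γ) (map_one γ)
    (fun t => (γ.commutes t).trans (IsScalarTower.algebraMap_apply k (MvPolynomial (Fin d) k) B₀ t)) ρ hρ hργ
    (fun r => hθC r) (C sR * X) c (ev sR * sΛ) hc (‹𝔮.IsPrime›.mul_notMem hsR hsΛ) hWim lam hlam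
    (fun l j => ⟨α l j, (hα l j).symm, hlamα l j⟩) (fun l x hx => ⟨1, ?_⟩) (fun l x hx => ⟨1, ?_⟩)
  · have h := Ideal.mul_mem_left _ X (killer_polynomial_pow w M sR l (hkR l) x hx)
    rw [pow_one]
    rwa [← mul_assoc, mul_comm X (C sR)] at h
  · have h := Ideal.mul_mem_left _ (C (ev sR * c) * X)
      (killer_polynomial_pow (fun l => ev (w l)) M sΛ l (hkΛ l) x hx)
    rw [pow_one, hWim]
    rwa [show C (ev sR * c) * X * (C sΛ * x) = C (ev sR * sΛ * c) * X * x by
      simp only [map_mul]; ring] at h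

end Groth.Agent.H9Popescu
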