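import Groth.Agent.H9Popescu.LocalModel

/-!
# Existence of the smooth local model
-/

set_option autoImplicit false
set_option linter.style.haveILetI false

universe u

open IsLocalRing TensorProduct

namespace Groth.Agent.H9Popescu

/-- A map out of the base changed universal model solves the equations. -/
theorem solution_of_modelHom {k A R' D : Type u} [Field k] [CommRing A] [Algebra k A] [CommRing R'] [CommRing D]
    [Algebra R' D] (n d : ℕ) {s : ℕ} (a : Fin s → A) [Algebra (MvPolynomial (Fin d) k) R']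
    [Algebra (MvPolynomial (Fin d) k) (ModelAlg n d a)]
    (hMA : ∀ c, algebraMap (MvPolynomial (Fin d) k) (ModelAlg n d a) c = modelStruct n d a c)
    (g : R' ⊗[MvPolynomial (Fin d) k] ModelAlg n d a →ₐ[R'] D) :
    (∀ c, g (1 ⊗ₜ algebraMap A (ModelAlg n d a) (algebraMap k A c)) =
      algebraMap R' D (algebraMap (MvPolynomial (Fin d) k) R' (MvPolynomial.C c))) ∧
    ∀ l, algebraMap R' D (algebraMap (MvPolynomial (Fin d) k) R' (MvPolynomial.X l)) ^ n =
      ∑ j, g (1 ⊗ₜ Ideal.Quotient.mk _ (MvPolynomial.X (Sum.inr (l, j)))) *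
        g (1 ⊗ₜ algebraMap A (ModelAlg n d a) (a j)) := by
  let G : ModelAlg n d a →+* D := g.toRingHom.comp
    (Algebra.TensorProduct.includeRight :
      ModelAlg n d a →ₐ[MvPolynomial (Fin d) k] R' ⊗[MvPolynomial (Fin d) k] ModelAlg n d a).toRingHom
  have hG : ∀ z, G z = g (1 ⊗ₜ z) := fun z => rfl
  have hP : ∀ q, G (algebraMap _ (ModelAlg n d a) q) =
      algebraMap R' D (algebraMap (MvPolynomial (Fin d) k) R' q) := fun q => by
    rw [hG, ← Algebra.TensorProduct.tmul_one_eq_one_tmul]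
    exact g.commutes _
  refine ⟨fun c => ?_, fun l => ?_⟩
  · rw [← hG, ← hP, hMA, ← IsScalarTower.algebraMap_apply k A, ← MvPolynomial.algebraMap_eq, AlgHom.commutes]
  · have h0 : Ideal.Quotient.mk (Ideal.span (Set.range (modelRel n d a))) (modelRel n d a l) = 0 :=
      Ideal.Quotient.eq_zero_iff_mem.mpr (Ideal.subset_span ⟨l, rfl⟩)
    simp only [modelRel, map_sub, map_pow, map_sum, map_mul, sub_eq_zero] at h0
    have h1 := congrArg G h0
    rw [map_pow, map_sum] at h1
    simp only [← hG]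
    rw [← hP, hMA, modelStruct, MvPolynomial.aeval_X, h1]
    exact Finset.sum_congr rfl fun j _ => by rw [map_mul, mul_comm]; rfl

/-- Finiteness of the imperfection module of the residue field of a quotient. -/
theorem finite_imperfection_quotient {F k L Lb : Type u} [CommRing F] [Field k] [CommRing L] [IsLocalRing L]
    [IsNoetherianRing L] [CommRing Lb] [IsLocalRing Lb] [Algebra F k] [Algebra k L] [Algebra F L]
    [IsScalarTower F k L] [Algebra k Lb] [Algebra F Lb] [IsScalarTower F k Lb] [Algebra L Lb] [IsScalarTower k L Lb]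
    [IsScalarTower F L Lb]
    (hsurj : Function.Surjective (algebraMap L Lb))
    (hext : ∀ D : Derivation ℤ k (ResidueField L), ∃ E : Derivation ℤ L (ResidueField L),
      ∀ t, E (algebraMap k L t) = D t) :
    Module.Finite (ResidueField Lb) (LinearMap.ker (KaehlerDifferential.mapBaseChange F k (ResidueField Lb))) := by
  have hsurj' : Function.Surjective (algebraMap L (ResidueField Lb)) := residue_surjective.comp hsurj
  refine finite_imperfection_of_derivation (A := L) hsurj' fun D => ?_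
  obtain ⟨E, hE⟩ := exists_derivation_into (k := k) (A := L) hsurj' hext (D.restrictScalars ℤ)
  refine ⟨Derivation.mk'
    { toFun := E
      map_add' := map_add E
      map_smul' := fun c x => ?_ } E.leibniz, hE⟩
  rw [Algebra.smul_def, E.leibniz, IsScalarTower.algebraMap_apply F k L, hE, RingHom.id_apply]
  show _ + x • D (algebraMap F k c) = _
  rw [D.map_algebraMap, smul_zero, add_zero, ← IsScalarTower.algebraMap_apply F k L, algebraMap_smul]

set_option maxHeartbeats 1600000 in
/-- A smooth model of the thickened local ring at a prime with inseparable residue field. -/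
theorem exists_local_model {k A Λ : Type u} [Field k] (p : ℕ) [Fact p.Prime] [CharP k p] [CommRing A] [Algebra k A]
    [Algebra.FinitePresentation k A] [CommRing Λ] [IsNoetherianRing Λ] [Algebra k Λ] (φ : A →ₐ[k] Λ)
    (𝔮 : Ideal Λ) [𝔮.IsPrime] {L : Type u} [CommRing L] [Algebra Λ L] [IsLocalization.AtPrime L 𝔮] [Algebra k L]
    [IsScalarTower k Λ L] [IsRegularLocalRing L]
    (hext : ∀ D : Derivation ℤ k (ResidueField L), ∃ E : Derivation ℤ L (ResidueField L),
      ∀ t, E (algebraMap k L t) = D t)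
    (n d N : ℕ) (hN : n + 2 ≤ N) (hd : ringKrullDim L = d) {s : ℕ} (a : Fin s → A)
    (hI : maximalIdeal L ^ n ≤
      Ideal.span (Set.range fun j => algebraMap Λ L (φ (a j)))) :
    ∃ (σ : Type u) (_ : Finite σ) (ev : MvPolynomial σ k →ₐ[k] Λ) (w : Fin d → MvPolynomial σ k),
      Ideal.span (Set.range fun l => algebraMap Λ L (ev (w l))) =
        maximalIdeal L ∧
      ringKrullDim (Localization.AtPrime (𝔮.comap ev)) = d ∧
      Ideal.span (Set.range fun l => algebraMap (MvPolynomial σ k) (Localization.AtPrime (𝔮.comap ev)) (w l)) =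
        maximalIdeal (Localization.AtPrime (𝔮.comap ev)) ∧
      ∃ (D₀ : Type u) (_ : CommRing D₀) (_ : Algebra (MvPolynomial σ k ⧸ (𝔮.comap ev) ^ N) D₀),
        Algebra.Smooth (MvPolynomial σ k ⧸ (𝔮.comap ev) ^ N) D₀ ∧
        ∃ (φD : A →+* D₀) (Z : Fin d → Fin s → D₀)
          (v : D₀ →+* L ⧸ maximalIdeal L ^ N),
          (∀ c, φD (algebraMap k A c) =
            algebraMap (MvPolynomial σ k ⧸ (𝔮.comap ev) ^ N) D₀ (Ideal.Quotient.mk _ (MvPolynomial.C c))) ∧
          (∀ l, algebraMap (MvPolynomial σ k ⧸ (𝔮.comap ev) ^ N) D₀ (Ideal.Quotient.mk _ (w l)) ^ n =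
            ∑ j, Z l j * φD (a j)) ∧
          (∀ r, v (algebraMap (MvPolynomial σ k ⧸ (𝔮.comap ev) ^ N) D₀ (Ideal.Quotient.mk _ r)) =
            Ideal.Quotient.mk _ (algebraMap Λ L (ev r))) ∧
          ∀ x, v (φD x) = Ideal.Quotient.mk _ (algebraMap Λ L (φ x)) := by
  classical
  let m := maximalIdeal L
  have hmN : m ^ N ≤ m := Ideal.pow_le_self (by omega)
  haveI : Nontrivial (L ⧸ m ^ N) := Ideal.Quotient.nontrivial_iff.2 fun h =>
    (maximalIdeal.isMaximal L).ne_top (top_le_iff.1 (h ▸ hmN))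
  let Lb := L ⧸ m ^ N
  haveI : IsLocalRing Lb := IsLocalRing.of_surjective' _ Ideal.Quotient.mk_surjective
  have hmax : maximalIdeal Lb = m.map (Ideal.Quotient.mk (m ^ N)) := by
    refine (IsLocalRing.eq_maximalIdeal ?_).symm
    exact (Ideal.map_eq_top_or_isMaximal_of_surjective _ Ideal.Quotient.mk_surjective
      (maximalIdeal.isMaximal L)).resolve_left fun h => by
        have h1 := congrArg (Ideal.comap (Ideal.Quotient.mk (m ^ N))) h
        rw [Ideal.comap_map_of_surjective _ Ideal.Quotient.mk_surjective, ← RingHom.ker_eq_comap_bot,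
          Ideal.mk_ker, Ideal.comap_top, sup_eq_left.2 hmN] at h1
        exact (maximalIdeal.isMaximal L).ne_top h1
  haveI : IsArtinianRing Lb := by
    rw [isArtinianRing_iff_isNilpotent_maximalIdeal]
    refine ⟨N, ?_⟩
    rw [hmax, ← Ideal.map_pow, Ideal.map_quotient_self]
    rfl
  -- the residue field of the thickening
  let Kb := ResidueField Lb
  have hsurj : Function.Surjective (algebraMap L Kb) := residue_surjective.comp Ideal.Quotient.mk_surjective
  let F : Subfield k := ⊥
  have hfin := finite_imperfection_quotient (F := F) (k := k) (L := L) (Lb := Lb)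
    Ideal.Quotient.mk_surjective hext
  -- the artinian subalgebra
  let qb : Λ →ₐ[k] Lb := IsScalarTower.toAlgHom k Λ Lb
  have hqb : ∀ x, qb x = Ideal.Quotient.mk (m ^ N) (algebraMap Λ L x) := fun x => rfl
  have hS : ∀ x : Lb, ∃ t ∈ qb.range, IsUnit t ∧ x * t ∈ qb.range := fun x => by
    obtain ⟨y, rfl⟩ := Ideal.Quotient.mk_surjective x
    obtain ⟨⟨b, t⟩, hbt⟩ := IsLocalization.surj 𝔮.primeCompl y
    exact ⟨qb t, ⟨_, rfl⟩, (IsLocalization.map_units L t).map (Ideal.Quotient.mk (m ^ N)), b, by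
      show qb b = _
      rw [hqb, hqb, ← map_mul, hbt]⟩
  obtain ⟨GA, hGA⟩ := (Algebra.FiniteType.out : (⊤ : Subalgebra k A).FG)
  obtain ⟨g, A₀, hgS, hA₀, hEA, hfree, μ, hμA, hμ⟩ :=
    exists_artinian_model p hfin qb.range hS (GA.image fun x => qb (φ x))
  haveI := hfree
  haveI : IsLocalRing A₀ := isLocalRing_of_mem_iff hA₀
  haveI : IsArtinianRing A₀ := isArtinianRing_of_faithfullyFlat A₀ Lb
  haveI : Algebra.EssFiniteType k A₀ := essFiniteType_of_mem_iff hA₀ (Subalgebra.fg_adjoin_finset g)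
  have hφA : ∀ x, qb (φ x) ∈ A₀ := fun x => by
    have hx : x ∈ Algebra.adjoin k (GA : Set A) := hGA ▸ Algebra.mem_top
    have h : (Algebra.adjoin k (GA : Set A)).map (qb.comp φ) ≤ A₀ := by
      rw [AlgHom.map_adjoin, Algebra.adjoin_le_iff]
      rintro _ ⟨y, hy, rfl⟩
      exact hEA (Finset.mem_image_of_mem _ hy)
    exact h ⟨x, hx, rfl⟩
  let φA : A →ₐ[k] A₀ := (qb.comp φ).codRestrict A₀ hφA
  -- the generators
  let gA : Set A₀ := {x | (x : Lb) ∈ g}
  have hgA : ∀ x : A₀, ∃ t ∈ Algebra.adjoin k gA, IsUnit t ∧ x * t ∈ Algebra.adjoin k gA := fun x => by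
    have hmap : (Algebra.adjoin k gA).map A₀.val = Algebra.adjoin k (g : Set Lb) := by
      rw [AlgHom.map_adjoin]
      congr 1
      ext z
      exact ⟨by rintro ⟨w, hw, rfl⟩; exact hw,
        fun hz => ⟨⟨z, le_of_mem_iff hA₀ (Algebra.subset_adjoin hz)⟩, hz, rfl⟩⟩
    obtain ⟨t, ht, htu, hxt⟩ := (hA₀ x).1 x.2
    rw [← hmap] at ht hxt
    obtain ⟨t', ht', rfl⟩ := ht
    obtain ⟨z, hz, hzx⟩ := hxt
    refine ⟨t', ht', (isUnit_iff_of_mem_iff hA₀ t').2 htu, ?_⟩
    rwa [show x * t' = z from Subtype.ext hzx.symm]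
  let κA := ResidueField A₀
  obtain ⟨b, -, -, hbspan, hbli⟩ := exists_linearIndepOn_extension (K := κA)
    (v := fun i : gA => KaehlerDifferential.D k κA (residue A₀ i)) (s := ∅) (t := Set.univ)
    (linearIndepOn_empty κA _) (Set.empty_subset _)
  have hbtop : Submodule.span κA ((fun i : gA => KaehlerDifferential.D k κA (residue A₀ i)) '' b) = ⊤ := by
    rw [eq_top_iff, ← span_D_residue_eq_top gA hgA, Submodule.span_le]
    rintro _ ⟨i, rfl⟩
    exact hbspan ⟨i, trivial, rfl⟩
  haveI : Finite gA := Finite.of_injective (fun i : gA => (⟨_, i.2⟩ : (g : Set Lb))) fun i j h => by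
    have h1 := congrArg (fun z : (g : Set Lb) => (z : Lb)) h
    exact Subtype.ext (Subtype.ext h1)
  letI : Fintype b := Fintype.ofFinite b
  have hlift : ∀ i : b, ∃ x : Λ, qb x = ((i : gA) : A₀) := fun i => hgS (i : gA).2
  choose yΛ hyΛ using hlift
  let y : b → L := fun i => algebraMap Λ L (yΛ i)
  -- residues
  let resb : A₀ →+* Kb := (residue Lb).comp A₀.val.toRingHom
  have hunitA : ∀ x : A₀, x ∈ maximalIdeal A₀ ↔ (x : Lb) ∈ maximalIdeal Lb := fun x => by
    rw [mem_maximalIdeal, mem_maximalIdeal, mem_nonunits_iff, mem_nonunits_iff, isUnit_iff_of_mem_iff hA₀]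
  have hLbm : ∀ x : L, Ideal.Quotient.mk (m ^ N) x ∈ maximalIdeal Lb ↔ x ∈ m := fun x => by
    rw [hmax, ← Ideal.mem_comap, Ideal.comap_map_of_surjective _ Ideal.Quotient.mk_surjective,
      ← RingHom.ker_eq_comap_bot, Ideal.mk_ker, sup_eq_left.2 hmN]
  have hpd : ∀ f ∈ m.comap (MvPolynomial.aeval (R := k) y), ∀ i,
      MvPolynomial.pderiv i f ∈ m.comap (MvPolynomial.aeval (R := k) y) := by
    intro f hf i
    let yK : b → κA := fun i => residue A₀ (i : gA)
    have htr : ∀ f, MvPolynomial.aeval yK f = 0 ↔ MvPolynomial.aeval y f ∈ m := fun f => by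
      let aA := MvPolynomial.aeval (R := k) fun i : b => ((i : gA) : A₀)
      have h1 : MvPolynomial.aeval yK f = residue A₀ (aA f) :=
        (DFunLike.congr_fun (MvPolynomial.comp_aeval (R := k) _ (IsScalarTower.toAlgHom k A₀ κA)) f).symm
      have h2 : ((aA f : A₀) : Lb) = Ideal.Quotient.mk (m ^ N) (MvPolynomial.aeval y f) := by
        refine DFunLike.congr_fun (?_ : A₀.val.comp aA =
          (Ideal.Quotient.mkₐ k (m ^ N)).comp (MvPolynomial.aeval y)) f
        refine MvPolynomial.algHom_ext fun i => ?_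
        simp only [aA, AlgHom.comp_apply, MvPolynomial.aeval_X]
        exact (hyΛ i).symm
      rw [h1, residue_eq_zero_iff, hunitA, h2, hLbm]
    have h0 := (htr f).2 hf
    have hD := congrArg (KaehlerDifferential.D k κA) h0
    rw [derivation_aeval, map_zero] at hD
    exact (htr _).1 (Fintype.linearIndependent_iff.1 hbli.linearIndependent _ hD i)
  -- generators of the maximal ideal
  have hμlift : ∀ z : (μ : Set Lb), ∃ x : Λ, qb x ∈ A₀ ∧ ∃ t : Lb, IsUnit t ∧ qb x = (z : Lb) * t := fun z => by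
    obtain ⟨t, ht, htu, hzt⟩ := (hA₀ _).1 (hμA z.2)
    obtain ⟨x, hx⟩ := (Algebra.adjoin_le hgS : Algebra.adjoin k (g : Set Lb) ≤ qb.range) hzt
    refine ⟨x, ?_, t, htu, hx⟩
    rw [show qb x = (z : Lb) * t from hx]
    exact le_of_mem_iff hA₀ hzt
  choose μΛ hμΛA hμΛ using hμlift
  let μL : ↥(μ : Set Lb) → L := fun z => algebraMap Λ L (μΛ z)
  have hμL : Ideal.span (Set.range μL) = m := by
    have h1 : (Ideal.span (Set.range μL)).map (Ideal.Quotient.mk (m ^ N)) = maximalIdeal Lb := by
      rw [Ideal.map_span, ← Set.range_comp, ← hμ]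
      refine le_antisymm (Ideal.span_le.2 ?_) (Ideal.span_le.2 fun z hz => ?_)
      · rintro _ ⟨z, rfl⟩
        obtain ⟨t, -, ht⟩ := hμΛ z
        show qb (μΛ z) ∈ _
        rw [ht]
        exact Ideal.mul_mem_right _ _ (Ideal.subset_span z.2)
      · obtain ⟨t, htu, ht⟩ := hμΛ ⟨z, hz⟩
        obtain ⟨t', rfl⟩ := htu
        rw [SetLike.mem_coe, show z = qb (μΛ ⟨z, hz⟩) * ↑t'⁻¹ by rw [ht, mul_assoc, Units.mul_inv, mul_one]]
        exact Ideal.mul_mem_right _ _ (Ideal.subset_span ⟨⟨z, hz⟩, rfl⟩)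
    have h2 : Ideal.span (Set.range μL) ≤ m := Ideal.span_le.2 (by
      rintro _ ⟨z, rfl⟩
      rw [SetLike.mem_coe, ← hLbm, ← h1]
      exact Ideal.mem_map_of_mem _ (Ideal.subset_span ⟨z, rfl⟩))
    have h3 : m ≤ Ideal.span (Set.range μL) ⊔ m • m := fun x hx => by
      have hx' : Ideal.Quotient.mk (m ^ N) x ∈ maximalIdeal Lb := (hLbm x).2 hx
      rw [← h1, ← Ideal.mem_comap, Ideal.comap_map_of_surjective _ Ideal.Quotient.mk_surjective,
        ← RingHom.ker_eq_comap_bot, Ideal.mk_ker] at hx'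
      refine (sup_le_sup_left ?_ _ : Ideal.span (Set.range μL) ⊔ m ^ N ≤ _) hx'
      rw [smul_eq_mul, ← pow_two]
      exact Ideal.pow_le_pow_right (by omega)
    exact le_antisymm h2 (Submodule.le_of_le_smul_of_le_jacobson_bot (IsNoetherian.noetherian m)
      (IsLocalRing.jacobson_eq_maximalIdeal ⊥ bot_ne_top).ge h3)
  obtain ⟨τ, _, x, w, hwL, hwdim, hwP⟩ := exists_polynomial_model (q := p) hd hext y hpd μL hμL
  -- the polynomial ring and its maps
  let R₀ := MvPolynomial (b ⊕ τ) k
  let ev : R₀ →ₐ[k] Λ := MvPolynomial.aeval (Sum.elim yΛ (μΛ ∘ x))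
  let evL : R₀ →ₐ[k] L := MvPolynomial.aeval (Sum.elim y (μL ∘ x))
  have hevL : ∀ r, evL r = algebraMap Λ L (ev r) := fun r => by
    refine (DFunLike.congr_fun (?_ : (IsScalarTower.toAlgHom k Λ L).comp ev = evL) r).symm
    refine MvPolynomial.algHom_ext fun i => ?_
    rcases i with i | i <;> simp [ev, evL, y, μL]
  have hp₀ : 𝔮.comap ev = m.comap evL := by
    ext r
    rw [Ideal.mem_comap, Ideal.mem_comap, hevL, IsLocalization.AtPrime.to_map_mem_maximal_iff L 𝔮]
  have key : ∀ (I : Ideal R₀) [I.IsPrime], I = m.comap evL → ringKrullDim (Localization.AtPrime I) = d ∧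
      Ideal.span (Set.range fun l => algebraMap R₀ (Localization.AtPrime I) (w l)) =
        maximalIdeal (Localization.AtPrime I) := by
    intro I _ h
    subst h
    exact ⟨hwdim, hwP⟩
  refine ⟨b ⊕ τ, inferInstance, ev, w, ?_, (key _ hp₀).1, (key _ hp₀).2, ?_⟩
  · simp only [← hevL]
    exact hwL
  let p₀ : Ideal R₀ := 𝔮.comap ev
  let R' := R₀ ⧸ p₀ ^ N
  -- the model over the polynomial ring
  let evA : R₀ →ₐ[k] A₀ := (qb.comp ev).codRestrict A₀ fun r => by
    have h : (⊤ : Subalgebra k R₀) ≤ A₀.comap (qb.comp ev) := by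
      rw [← MvPolynomial.adjoin_range_X, Algebra.adjoin_le_iff]
      rintro _ ⟨i, rfl⟩
      show qb (ev (MvPolynomial.X i)) ∈ A₀
      rw [MvPolynomial.aeval_X]
      rcases i with i | i
      · rw [Sum.elim_inl, hyΛ]
        exact (i : gA).1.2
      · exact hμΛA _
    exact h trivial
  have hevA : ∀ r, (evA r : Lb) = Ideal.Quotient.mk (m ^ N) (algebraMap Λ L (ev r)) := fun r => rfl
  have hevA0 : ∀ r ∈ p₀ ^ N, evA r = 0 := fun r hr => by
    refine Subtype.ext ?_
    show (evA r : Lb) = 0
    rw [hevA, Ideal.Quotient.eq_zero_iff_mem]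
    have h1 := Ideal.mem_map_of_mem evL hr
    rw [Ideal.map_pow] at h1
    have h2 : p₀.map evL ≤ m := Ideal.map_le_iff_le_comap.2 hp₀.le
    rw [← hevL]
    exact Ideal.pow_right_mono h2 N h1
  letI : Algebra R' A₀ := (Ideal.Quotient.lift (p₀ ^ N) evA.toRingHom hevA0).toAlgebra
  haveI : IsScalarTower k R' A₀ :=
    IsScalarTower.of_algebraMap_eq (R := k) (S := R') (A := A₀) fun c => (evA.commutes c).symm
  letI : Algebra R' Lb := ((algebraMap A₀ Lb).comp (algebraMap R' A₀)).toAlgebra
  haveI : IsScalarTower R' A₀ Lb := IsScalarTower.of_algebraMap_eq' rfl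
  -- flatness
  haveI hflat : Module.Flat R' Lb := by
    haveI : IsRegularLocalRing (Localization.AtPrime p₀) := IsRegularRing.isRegularLocalRing_localization p₀
    letI : Algebra R₀ L := evL.toRingHom.toAlgebra
    have hu : ∀ r : p₀.primeCompl, IsUnit (algebraMap R₀ L r) := fun r => notMem_maximalIdeal.1 fun h =>
      r.2 (hp₀.ge h)
    letI : Algebra (Localization.AtPrime p₀) L := (IsLocalization.lift hu).toAlgebra
    haveI : IsScalarTower R₀ (Localization.AtPrime p₀) L :=
      IsScalarTower.of_algebraMap_eq fun r => (IsLocalization.lift_eq hu r).symm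
    haveI : Module.Flat (Localization.AtPrime p₀) L := flat_of_common_parameters
      (d := d) (x := fun l => algebraMap R₀ (Localization.AtPrime p₀) (w l))
      (key _ hp₀).1 hd (key _ hp₀).2 (by
        simp only [← IsScalarTower.algebraMap_apply]
        exact hwL)
    haveI : Module.Flat R₀ L := Module.Flat.trans R₀ (Localization.AtPrime p₀) L
    have hmap : (p₀ ^ N).map (algebraMap R₀ L) = m ^ N := by
      rw [Ideal.map_pow]
      refine congrArg (· ^ N) (le_antisymm (Ideal.map_le_iff_le_comap.2 hp₀.le) ?_)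
      show maximalIdeal L ≤ _
      rw [← hwL, Ideal.span_le]
      rintro _ ⟨l, rfl⟩
      refine Ideal.mem_map_of_mem _ (hp₀.ge ?_)
      show evL (w l) ∈ m
      exact hwL.le (Ideal.subset_span ⟨l, rfl⟩)
    haveI : Module.Flat R' (L ⧸ (p₀ ^ N).map (algebraMap R₀ L)) :=
      Module.Flat.of_linearEquiv (Algebra.TensorProduct.quotIdealMapEquivQuotTensor L (p₀ ^ N)).toLinearEquiv
    refine Module.Flat.of_linearEquiv (M := L ⧸ (p₀ ^ N).map (algebraMap R₀ L))
      { (Ideal.quotEquivOfEq hmap.symm).toAddEquiv with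
        map_smul' := fun c z => ?_ }
    obtain ⟨r, rfl⟩ := Ideal.Quotient.mk_surjective c
    show Ideal.quotEquivOfEq hmap.symm (algebraMap R' Lb (Ideal.Quotient.mk _ r) * z) = Ideal.Quotient.mk _ r • _
    rw [map_mul, Algebra.smul_def]
    refine congrArg (· * _) ?_
    show Ideal.quotEquivOfEq hmap.symm ((evA r : A₀) : Lb) = _
    rw [hevA, Ideal.quotEquivOfEq_mk, ← hevL]
    rfl
  haveI : Module.Flat R' A₀ := H7Flat.flat_of_faithfullyFlat (R := R') (S := A₀) (M := Lb)
  haveI : Algebra.EssFiniteType R' A₀ := Algebra.EssFiniteType.of_comp k R' A₀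
  -- unramified
  haveI : Algebra.FormallyUnramified R' A₀ := by
    constructor
    haveI : Module.Finite A₀ Ω[A₀⁄R'] := inferInstance
    have hmA : maximalIdeal A₀ ≤ Ideal.span (Set.range fun r : p₀ => evA r) := by
      have h1 : (maximalIdeal A₀).map (algebraMap A₀ Lb) ≤
          (Ideal.span (Set.range fun r : p₀ => evA r)).map (algebraMap A₀ Lb) := by
        refine (Ideal.map_le_iff_le_comap.2 (show maximalIdeal A₀ ≤ (maximalIdeal Lb).comap (algebraMap A₀ Lb) from
          fun z hz => (hunitA z).1 hz)).trans ?_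
        rw [hmax]
        refine Ideal.map_le_iff_le_comap.2 ?_
        show maximalIdeal L ≤ _
        rw [← hwL, Ideal.span_le]
        rintro _ ⟨l, rfl⟩
        have hl : w l ∈ p₀ := hp₀.ge (hwL.le (Ideal.subset_span ⟨l, rfl⟩) : evL (w l) ∈ m)
        have h := Ideal.mem_map_of_mem (algebraMap A₀ Lb)
          (Ideal.subset_span ⟨⟨w l, hl⟩, rfl⟩ : evA (w l) ∈ Ideal.span (Set.range fun r : p₀ => evA r))
        rw [SetLike.mem_coe, Ideal.mem_comap]
        convert h using 1
        show _ = (evA (w l) : Lb)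
        rw [hevA, ← hevL]
      have h2 := Ideal.comap_mono (f := algebraMap A₀ Lb) h1
      rwa [Ideal.comap_map_eq_self_of_faithfullyFlat, Ideal.comap_map_eq_self_of_faithfullyFlat] at h2
    rw [← IsLocalRing.subsingleton_tensorProduct (R := A₀)]
    have hsurjA : Function.Surjective (algebraMap A₀ κA) := residue_surjective
    have hD : ∀ r : R₀, KaehlerDifferential.D R' A₀ (evA r) = 0 := fun r =>
      (KaehlerDifferential.D R' A₀).map_algebraMap (Ideal.Quotient.mk _ r)
    have hexact := KaehlerDifferential.exact_kerCotangentToTensor_mapBaseChange R' A₀ κA hsurjA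
    have hzero : ∀ z, KaehlerDifferential.kerCotangentToTensor R' A₀ κA z = 0 := fun z => by
      obtain ⟨⟨z, hz⟩, rfl⟩ := Ideal.toCotangent_surjective _ z
      rw [KaehlerDifferential.kerCotangentToTensor_toCotangent]
      have hz' : z ∈ maximalIdeal A₀ := by rwa [← residue_eq_zero_iff]
      obtain ⟨c, hc⟩ := (Finsupp.mem_span_range_iff_exists_finsupp).1 (hmA hz')
      show (1 : κA) ⊗ₜ[A₀] KaehlerDifferential.D R' A₀ z = 0
      rw [← hc, Finsupp.sum, map_sum, tmul_sum]
      refine Finset.sum_eq_zero fun r _ => ?_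
      rw [smul_eq_mul, Derivation.leibniz, hD, smul_zero, zero_add, tmul_smul, TensorProduct.smul_tmul',
        Algebra.smul_def, show algebraMap A₀ κA (evA r) = 0 from (residue_eq_zero_iff _).2 ((hunitA _).2 (by
          rw [hevA, hLbm, ← hevL]
          exact hp₀.le r.2)), zero_mul, zero_tmul]
    have hΩ : Subsingleton Ω[κA⁄R'] := by
      refine subsingleton_of_forall_eq 0 fun ω => ?_
      obtain ⟨ω, rfl⟩ := KaehlerDifferential.map_surjective k R' κA ω
      refine (show (⊤ : Submodule κA Ω[κA⁄k]) ≤ LinearMap.ker (KaehlerDifferential.map k R' κA κA) from ?_) trivial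
      rw [← hbtop, Submodule.span_le]
      rintro _ ⟨i, hi, rfl⟩
      show KaehlerDifferential.map k R' κA κA (KaehlerDifferential.D k κA (residue A₀ i)) = 0
      rw [KaehlerDifferential.map_D]
      have he : algebraMap R' κA (Ideal.Quotient.mk _ (MvPolynomial.X (Sum.inl ⟨i, hi⟩))) = residue A₀ i := by
        rw [IsScalarTower.algebraMap_apply R' A₀ κA]
        refine congrArg (residue A₀) (Subtype.ext ?_)
        show (evA (MvPolynomial.X (Sum.inl ⟨i, hi⟩)) : Lb) = _
        rw [hevA, MvPolynomial.aeval_X, Sum.elim_inl]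
        exact hyΛ ⟨i, hi⟩
      rw [← he]
      exact Derivation.map_algebraMap _ _
    refine subsingleton_of_forall_eq 0 fun t => ?_
    obtain ⟨z, hz⟩ := (hexact t).1 (Subsingleton.elim _ _)
    rw [← hz, hzero]
  haveI : Algebra.FormallySmooth R' A₀ := H8Props.FlatUnramified.formallySmooth_of_flat_of_formallyUnramified
  -- solving the equations in the artinian ring
  let I₀ : Ideal A₀ := Ideal.span (Set.range fun j => φA (a j))
  have hsol : ∀ l, ∃ α : Fin s → A₀, ∑ j, α j * φA (a j) = evA (w l) ^ n := fun l => by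
    refine Ideal.mem_span_range_iff_exists_fun.1 ?_
    show evA (w l) ^ n ∈ I₀
    rw [← Ideal.comap_map_eq_self_of_faithfullyFlat (B := Lb) I₀, Ideal.mem_comap, map_pow]
    show (evA (w l) : Lb) ^ n ∈ _
    rw [hevA, ← hevL, ← map_pow]
    have hwm : evL (w l) ∈ m := hwL.le (Ideal.subset_span ⟨l, rfl⟩)
    have h := Ideal.mem_map_of_mem (Ideal.Quotient.mk (m ^ N)) (hI (Ideal.pow_mem_pow hwm n))
    rw [Ideal.map_span, ← Set.range_comp] at h
    rw [Ideal.map_span, ← Set.range_comp]
    exact h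
  choose α hα using hsol
  -- the finitely presented algebra carrying the solution
  let P := MvPolynomial (Fin d) k
  let MA := ModelAlg n d a
  letI : Algebra P MA := (modelStruct (k := k) n d a).toRingHom.toAlgebra
  haveI : IsScalarTower k P MA :=
    IsScalarTower.of_algebraMap_eq fun c => ((modelStruct (k := k) n d a).commutes c).symm
  haveI : Algebra.FinitePresentation A MA :=
    Algebra.FinitePresentation.quotient (Submodule.fg_span (Set.finite_range _))
  haveI : Algebra.FiniteType k MA := Algebra.FiniteType.trans (R := k) (S := A) inferInstance inferInstance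
  haveI : Algebra.FiniteType P MA := Algebra.FiniteType.of_restrictScalars_finiteType k P MA
  letI : Algebra P R' :=
    ((Ideal.Quotient.mk (p₀ ^ N)).comp (MvPolynomial.aeval (R := k) w).toRingHom).toAlgebra
  obtain ⟨ψ, hψA, hψx, hψz⟩ := exists_modelEval n d a φA.toRingHom (fun l => evA (w l)) α fun l => (hα l).symm
  letI : Algebra P A₀ := ((algebraMap R' A₀).comp (algebraMap P R')).toAlgebra
  haveI : IsScalarTower P R' A₀ := IsScalarTower.of_algebraMap_eq' rfl
  let ψP : MA →ₐ[P] A₀ :=
    { ψ with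
      commutes' := fun c => by
        show ψ (modelStruct (k := k) n d a c) = evA (MvPolynomial.aeval (R := k) w c)
        refine DFunLike.congr_fun (?_ : ψ.comp (modelStruct (k := k) n d a).toRingHom =
          evA.toRingHom.comp (MvPolynomial.aeval (R := k) w).toRingHom) c
        refine MvPolynomial.ringHom_ext (fun c => ?_) fun l => ?_
        · simp only [RingHom.comp_apply, AlgHom.toRingHom_eq_coe, RingHom.coe_coe, ← MvPolynomial.algebraMap_eq,
            AlgHom.commutes]
          rw [IsScalarTower.algebraMap_apply k A MA, hψA]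
          exact (φA.commutes c).trans (evA.commutes c).symm
        · simp only [RingHom.comp_apply, AlgHom.toRingHom_eq_coe, RingHom.coe_coe, modelStruct,
            MvPolynomial.aeval_X]
          exact hψx l }
  let u : R' ⊗[P] MA →ₐ[R'] A₀ :=
    Algebra.TensorProduct.lift (Algebra.ofId R' A₀) ψP fun _ _ => Commute.all _ _
  obtain ⟨D₀, _, _, hD₀, g₀, v₀, hgv⟩ := exists_smooth_factor_formallySmooth (C := R' ⊗[P] MA) u
  have hsolD := solution_of_modelHom n d a (fun _ => rfl) g₀
  refine ⟨D₀, inferInstance, inferInstance, hD₀,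
    (g₀.toRingHom.comp (Algebra.TensorProduct.includeRight : MA →ₐ[P] R' ⊗[P] MA).toRingHom).comp
      (algebraMap A MA),
    fun l j => g₀ (1 ⊗ₜ Ideal.Quotient.mk _ (MvPolynomial.X (Sum.inr (l, j)))),
    A₀.val.toRingHom.comp v₀.toRingHom, fun c => ?_, fun l => ?_, fun r => ?_, fun z => ?_⟩
  · refine (hsolD.1 c).trans ?_
    show algebraMap R' D₀ (Ideal.Quotient.mk _ (MvPolynomial.aeval (R := k) w (MvPolynomial.C c))) = _
    rw [MvPolynomial.aeval_C]
    rfl
  · refine Eq.trans ?_ (hsolD.2 l)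
    show _ = algebraMap R' D₀ (Ideal.Quotient.mk _ (MvPolynomial.aeval (R := k) w (MvPolynomial.X l))) ^ n
    rw [MvPolynomial.aeval_X]
  · show (v₀ (algebraMap R' D₀ (Ideal.Quotient.mk _ r)) : Lb) = _
    rw [AlgHom.commutes]
    exact hevA r
  · show (v₀ (g₀ (1 ⊗ₜ algebraMap A MA z)) : Lb) = _
    rw [← AlgHom.comp_apply v₀ g₀, hgv]
    show ((algebraMap R' A₀ 1 * ψ (algebraMap A MA z) : A₀) : Lb) = _
    rw [map_one, one_mul, hψA]
    rfl

end Groth.Agent.H9Popescu
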