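import Mathlib.RingTheory.Noetherian.Basic
import Mathlib.RingTheory.Ideal.Span

/-!
# Twisting a sequence to remove torsion
-/

set_option autoImplicit false

universe u v

namespace Groth.Agent.H9Popescu

variable {S : Type u} [CommRing S]

/-- The ideal of the earlier twisted elements. -/
def twistIdeal (W : S) {d : ℕ} (w : Fin d → S) (M : ℕ) (K : Fin d → ℕ) (l : Fin d) : Ideal S :=
  Ideal.span (Set.range fun j : {j : Fin d // (j : ℕ) < (l : ℕ)} => ((W ^ K j * w j) ^ M) ^ 8)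

/-- The torsion condition for the twisted sequence. -/
def TwistCond (W : S) {d : ℕ} (w : Fin d → S) (M : ℕ) (K : Fin d → ℕ) (l : Fin d) : Prop :=
  ∀ x, (W ^ K l * w l) ^ (M * 2) * x ∈ twistIdeal W w M K l → (W ^ K l * w l) ^ M * x ∈ twistIdeal W w M K l

theorem twistIdeal_congr (W : S) {d : ℕ} (w : Fin d → S) (M : ℕ) {K K' : Fin d → ℕ} {l : Fin d}
    (h : ∀ j : Fin d, (j : ℕ) < (l : ℕ) → K j = K' j) : twistIdeal W w M K l = twistIdeal W w M K' l := by
  unfold twistIdeal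
  exact congrArg Ideal.span (congrArg Set.range (funext fun j => by rw [h _ j.2]))

theorem twistCond_congr (W : S) {d : ℕ} (w : Fin d → S) (M : ℕ) {K K' : Fin d → ℕ} {l : Fin d}
    (h : ∀ j : Fin d, (j : ℕ) ≤ (l : ℕ) → K j = K' j) (hK : TwistCond W w M K l) : TwistCond W w M K' l := by
  intro x hx
  rw [← twistIdeal_congr W w M fun j hj => h j hj.le, ← h l le_rfl] at hx ⊢
  exact hK x hx

/-- Twisting by a large enough power removes torsion. -/
theorem exists_twist_bound [IsNoetherianRing S] (W : S) {d : ℕ} (w : Fin d → S) (M : ℕ) (hM : 0 < M) (l : Fin d)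
    (hw : ∀ x, w l ^ (M * 2) * x ∈ Ideal.span (Set.range fun j : {j : Fin d // (j : ℕ) < (l : ℕ)} => (w j ^ M) ^ 8) →
      ∃ i, W ^ i * x ∈ Ideal.span (Set.range fun j : {j : Fin d // (j : ℕ) < (l : ℕ)} => (w j ^ M) ^ 8))
    (K : Fin d → ℕ) : ∃ N, ∀ K' : Fin d → ℕ, (∀ j : Fin d, (j : ℕ) < (l : ℕ) → K' j = K j) → N ≤ K' l →
      TwistCond W w M K' l := by
  classical
  let J := twistIdeal W w M K l
  let J₀ := Ideal.span (Set.range fun j : {j : Fin d // (j : ℕ) < (l : ℕ)} => (w j ^ M) ^ 8)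
  let T : ℕ := ∑ j, K j * M * 8
  have hJ₀ : ∀ y ∈ J₀, W ^ T * y ∈ J := fun y hy => by
    obtain ⟨c, rfl⟩ := Ideal.mem_span_range_iff_exists_fun.1 hy
    rw [Finset.mul_sum]
    refine sum_mem fun j _ => ?_
    obtain ⟨r, hr⟩ : ∃ r, T = r + K j.1 * M * 8 :=
      ⟨T - K j.1 * M * 8, (Nat.sub_add_cancel (Finset.single_le_sum (fun j _ => Nat.zero_le (K j * M * 8))
        (Finset.mem_univ j.1))).symm⟩
    rw [hr, show W ^ (r + K j.1 * M * 8) * (c j * (w j.1 ^ M) ^ 8) =
      (W ^ r * c j) * ((W ^ K j.1 * w j.1) ^ M) ^ 8 by ring]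
    exact Ideal.mul_mem_left _ _ (Ideal.subset_span ⟨j, rfl⟩)
  have hJ : ∀ y ∈ J, y ∈ J₀ := fun y hy => by
    refine Ideal.span_le.2 ?_ hy
    rintro _ ⟨j, rfl⟩
    simp only [SetLike.mem_coe, mul_pow]
    exact Ideal.mul_mem_left _ _ (Ideal.subset_span ⟨j, rfl⟩)
  let C : ℕ →o Ideal S :=
    { toFun := fun i =>
        { carrier := {x | W ^ i * x ∈ J}
          add_mem' := fun {a b} ha hb => by
            show W ^ i * (a + b) ∈ J
            rw [mul_add]; exact add_mem ha hb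
          zero_mem' := by
            show W ^ i * 0 ∈ J
            rw [mul_zero]; exact zero_mem _
          smul_mem' := fun r x hx => by
            show W ^ i * (r * x) ∈ J
            rw [mul_left_comm]; exact Ideal.mul_mem_left _ _ hx }
      monotone' := fun i i' h x hx => by
        show W ^ i' * x ∈ J
        obtain ⟨r, rfl⟩ := Nat.exists_eq_add_of_le h
        rw [add_comm i r, pow_add, mul_assoc]
        exact Ideal.mul_mem_left _ _ hx }
  obtain ⟨N, hN⟩ := monotone_stabilizes_iff_noetherian.mpr inferInstance C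
  refine ⟨N, fun K' hK' hl x hx => ?_⟩
  rw [twistIdeal_congr W w M hK'] at hx ⊢
  obtain ⟨i, hi⟩ := hw (W ^ (K' l * (M * 2)) * x) (hJ _ (by
    rwa [mul_pow, ← pow_mul, mul_assoc, mul_left_comm] at hx))
  have hmem : x ∈ C (T + i + K' l * (M * 2)) := by
    show W ^ _ * x ∈ J
    have := hJ₀ _ hi
    rwa [← mul_assoc, ← mul_assoc, ← pow_add, ← pow_add] at this
  have hx' : x ∈ C N := by
    rcases le_total N (T + i + K' l * (M * 2)) with h | h
    · rwa [hN _ h]
    · exact C.monotone h hmem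
  have hx'' : W ^ (K' l * M) * x ∈ J := C.monotone (hl.trans (Nat.le_mul_of_pos_right _ hM)) hx'
  rw [mul_pow, ← pow_mul, mul_assoc, mul_left_comm]
  exact Ideal.mul_mem_left _ _ hx''

/-- Common exponents for two rings. -/
theorem exists_twist {S' : Type v} [CommRing S'] [IsNoetherianRing S] [IsNoetherianRing S'] {d : ℕ} (W : S)
    (w : Fin d → S) (W' : S') (w' : Fin d → S') (M : ℕ) (hM : 0 < M)
    (hw : ∀ l : Fin d, ∀ x, w l ^ (M * 2) * x ∈
      Ideal.span (Set.range fun j : {j : Fin d // (j : ℕ) < (l : ℕ)} => (w j ^ M) ^ 8) →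
      ∃ i, W ^ i * x ∈ Ideal.span (Set.range fun j : {j : Fin d // (j : ℕ) < (l : ℕ)} => (w j ^ M) ^ 8))
    (hw' : ∀ l : Fin d, ∀ x, w' l ^ (M * 2) * x ∈
      Ideal.span (Set.range fun j : {j : Fin d // (j : ℕ) < (l : ℕ)} => (w' j ^ M) ^ 8) →
      ∃ i, W' ^ i * x ∈ Ideal.span (Set.range fun j : {j : Fin d // (j : ℕ) < (l : ℕ)} => (w' j ^ M) ^ 8)) :
    ∃ K : Fin d → ℕ, (∀ l, 0 < K l) ∧ (∀ l, TwistCond W w M K l) ∧ ∀ l, TwistCond W' w' M K l := by
  classical
  suffices ∀ i : ℕ, ∃ K : Fin d → ℕ, (∀ l, 0 < K l) ∧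
      ∀ l : Fin d, (l : ℕ) < i → TwistCond W w M K l ∧ TwistCond W' w' M K l by
    obtain ⟨K, hK₀, hK⟩ := this d
    exact ⟨K, hK₀, fun l => (hK l l.2).1, fun l => (hK l l.2).2⟩
  intro i
  induction i with
  | zero => exact ⟨fun _ => 1, fun _ => Nat.one_pos, fun l h => absurd h (Nat.not_lt_zero _)⟩
  | succ i ih =>
    obtain ⟨K, hK₀, hK⟩ := ih
    by_cases hi : i < d
    swap
    · exact ⟨K, hK₀, fun l hl => hK l (lt_of_lt_of_le l.2 (not_lt.1 hi))⟩
    obtain ⟨N, hN⟩ := exists_twist_bound W w M hM ⟨i, hi⟩ (hw _) K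
    obtain ⟨N', hN'⟩ := exists_twist_bound W' w' M hM ⟨i, hi⟩ (hw' _) K
    let K' := Function.update K ⟨i, hi⟩ (N + N' + 1)
    have hsame : ∀ j : Fin d, (j : ℕ) < i → K' j = K j := fun j hj =>
      Function.update_of_ne (fun h => by rw [h] at hj; exact lt_irrefl _ hj) _ _
    refine ⟨K', fun l => ?_, fun l hl => ?_⟩
    · rcases eq_or_ne l ⟨i, hi⟩ with rfl | h
      · simp [K']
      · simp [K', Function.update_of_ne h, hK₀ l]
    · rcases Nat.lt_succ_iff_lt_or_eq.1 hl with h | h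
      · exact ⟨twistCond_congr W w M (fun j hj => (hsame j (lt_of_le_of_lt hj h)).symm) (hK l h).1,
          twistCond_congr W' w' M (fun j hj => (hsame j (lt_of_le_of_lt hj h)).symm) (hK l h).2⟩
      · obtain rfl : l = ⟨i, hi⟩ := Fin.ext h
        exact ⟨hN K' hsame (by simp [K']; omega), hN' K' hsame (by simp [K']; omega)⟩

end Groth.Agent.H9Popescu
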