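import Groth.Agent.H9Popescu.Separable
import Groth.Agent.H9Popescu.LocalModelMain
import Groth.Agent.H9Popescu.Twist
import Mathlib.RingTheory.Localization.Integer

/-!
# Auxiliary results for the inseparable case
-/

set_option autoImplicit false
set_option linter.style.haveILetI false

universe u

open TensorProduct IsLocalRing

namespace Groth.Agent.H9Popescu

/-- A prime minimal over the singular radical is minimal locally. -/
theorem exists_pow_le_singular {k A Λ L : Type u} [CommRing k] [CommRing A] [Algebra k A] [CommRing Λ]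
    [Algebra k Λ] (φ : A →ₐ[k] Λ) (𝔮 : Ideal Λ) [𝔮.IsPrime] (hmin : 𝔮 ∈ (Smoothing.singRad k φ).minimalPrimes)
    [CommRing L] [Algebra Λ L] [IsLocalization.AtPrime L 𝔮] [IsLocalRing L] [IsNoetherianRing L] {s : ℕ} (a : Fin s → A)
    (ha : Ideal.span (Set.range a) = Smoothing.singularIdeal k A) :
    ∃ n, 0 < n ∧ maximalIdeal L ^ n ≤ Ideal.span (Set.range fun j => algebraMap Λ L (φ (a j))) := by
  let J := Ideal.span (Set.range fun j => algebraMap Λ L (φ (a j)))
  have hJ : J = ((Smoothing.singularIdeal k A).map φ).map (algebraMap Λ L) := by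
    rw [← ha, Ideal.map_span, Ideal.map_span, ← Set.range_comp, ← Set.range_comp]
    rfl
  have hrad : maximalIdeal L ≤ J.radical := by
    rw [Ideal.radical_eq_sInf]
    refine le_sInf fun P hP => ?_
    obtain ⟨hIP, hPprime⟩ := hP
    haveI := hPprime
    rw [hJ] at hIP
    have h1 : Smoothing.singRad k φ ≤ P.comap (algebraMap Λ L) :=
      (Ideal.IsPrime.isRadical inferInstance).radical_le_iff.mpr (Ideal.map_le_iff_le_comap.mp hIP)
    have h2 : P.comap (algebraMap Λ L) ≤ 𝔮 := fun x hx =>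
      (IsLocalization.AtPrime.to_map_mem_maximal_iff L 𝔮 x).mp (IsLocalRing.le_maximalIdeal hPprime.ne_top hx)
    have h3 := hmin.2 ⟨inferInstance, h1⟩ h2
    rw [← IsLocalization.AtPrime.map_eq_maximalIdeal 𝔮 L, Ideal.map_le_iff_le_comap]
    exact h3
  obtain ⟨n, hn⟩ := Ideal.exists_radical_pow_le_of_fg _ (IsNoetherian.noetherian J.radical)
  exact ⟨n + 1, Nat.succ_pos _, (Ideal.pow_right_mono hrad _).trans ((Ideal.pow_le_pow_right (Nat.le_succ n)).trans hn)⟩

/-- A smooth factorisation over the local ring resolves in dimension zero. -/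
theorem resolvable_of_smooth_factor {R Λ Rₚ L C T : Type u} [CommRing R] [IsNoetherianRing R] [CommRing Λ]
    [Algebra R Λ] [CommRing Rₚ] [Algebra R Rₚ] [CommRing L] [Algebra Λ L] [Algebra R L] [IsScalarTower R Λ L]
    [Algebra Rₚ L] [IsScalarTower R Rₚ L] [CommRing C] [Algebra R C] [Algebra.FinitePresentation R C]
    (φ : C →ₐ[R] Λ) (𝔮 : Ideal Λ) [𝔮.IsPrime] [IsLocalization.AtPrime Rₚ (𝔮.comap (algebraMap R Λ))]
    [IsLocalization.AtPrime L 𝔮] (hle : Smoothing.singRad R φ ≤ 𝔮) (hdim : ringKrullDim L = 0)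
    [CommRing T] [Algebra Rₚ T] [Algebra R T] [IsScalarTower R Rₚ T] [Algebra.Smooth Rₚ T]
    (u : C →ₐ[R] T) (v : T →ₐ[Rₚ] L) (huv : ∀ c, v (u c) = algebraMap Λ L (φ c)) :
    Smoothing.Resolvable R φ 𝔮 := by
  haveI : IsLocalRing L := IsLocalization.AtPrime.isLocalRing L 𝔮
  haveI : (𝔮.map (algebraMap Λ L)).IsPrime := by
    rw [IsLocalization.AtPrime.map_eq_maximalIdeal 𝔮 L]
    infer_instance
  let g : Rₚ ⊗[R] C →ₐ[Rₚ] T := Algebra.TensorProduct.lift (Algebra.ofId Rₚ T) u fun _ _ => Commute.all _ _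
  have hgv : v.comp g = (Algebra.TensorProduct.lift (Algebra.ofId Rₚ L)
      ((IsScalarTower.toAlgHom R Λ L).comp φ) (fun _ _ => Commute.all _ _) : Rₚ ⊗[R] C →ₐ[Rₚ] L) := by
    refine Algebra.TensorProduct.ext' fun a c => ?_
    show v (algebraMap Rₚ T a * u c) = algebraMap Rₚ L a * algebraMap Λ L (φ c)
    rw [map_mul, AlgHom.commutes, huv]
  have hres : Smoothing.Resolvable Rₚ (Algebra.TensorProduct.lift (Algebra.ofId Rₚ L)
      ((IsScalarTower.toAlgHom R Λ L).comp φ) (fun _ _ => Commute.all _ _) : Rₚ ⊗[R] C →ₐ[Rₚ] L)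
      (𝔮.map (algebraMap Λ L)) := by
    refine ⟨T, inferInstance, inferInstance, inferInstance, g, v, hgv, ?_, ?_⟩ <;>
      simp only [Smoothing.singRad, singularIdeal_eq_top, Ideal.map_top, Ideal.radical_top]
    · exact le_top
    · exact fun hc => Ideal.IsPrime.ne_top inferInstance (top_le_iff.mp hc)
  obtain ⟨D, _, _, hD, g', h', hgh', hD'⟩ := descend (Rₚ := Rₚ) (Λq := L) φ 𝔮 hres
  haveI := hD
  exact resolvable_of_dim_zero φ 𝔮 hle (Λq := L) hdim g' h' hgh' hD'

/-- Singular ideals extend along a base change. -/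
theorem tmul_mem_singularIdeal {P R' B : Type u} [CommRing P] [CommRing R'] [Algebra P R'] [CommRing B] [Algebra P B]
    [Algebra.FinitePresentation P B] {x : B} (hx : x ∈ Smoothing.singularIdeal P B) :
    (1 : R') ⊗ₜ[P] x ∈ Smoothing.singularIdeal R' (R' ⊗[P] B) := by
  let f : B →+* R' ⊗[P] B := (Algebra.TensorProduct.includeRight : B →ₐ[P] R' ⊗[P] B).toRingHom
  rw [(S2026.result (R := P) (A := B)).1] at hx
  rw [(S2026.result (R := R') (A := R' ⊗[P] B)).1]
  refine (Ideal.map_radical_le f).trans (Ideal.radical_mono ?_) (Ideal.mem_map_of_mem f hx)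
  rw [Ideal.map_span, Ideal.span_le]
  rintro _ ⟨y, hy, rfl⟩
  exact Ideal.subset_span ((S6829.result (R' := R') y).2 hy)

/-- A map out of a local ring killing powers of parameters kills a power of the maximal ideal. -/
theorem map_eq_zero_of_mem_pow {P S : Type u} [CommRing P] [IsLocalRing P] [CommRing S] (θ : P →+* S) {d : ℕ}
    (x : Fin d → P) (hx : Ideal.span (Set.range x) = maximalIdeal P) (e N : ℕ) (hN : d * e + 1 ≤ N)
    (h0 : ∀ i, θ (x i) ^ e = 0) {z : P} (hz : z ∈ maximalIdeal P ^ N) : θ z = 0 := by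
  have h := span_range_pow_le x e (Ideal.pow_le_pow_right hN (hx.symm ▸ hz))
  refine (Ideal.span_le.2 ?_ : _ ≤ RingHom.ker θ) h
  rintro _ ⟨i, rfl⟩
  simp [h0 i]

/-- An element of a product with a span has coefficients in the factor. -/
theorem exists_coeff_of_mem_mul_span {S : Type u} [CommRing S] (J : Ideal S) {s : ℕ} (a : Fin s → S) {z : S}
    (hz : z ∈ J * Ideal.span (Set.range a)) : ∃ η : Fin s → S, (∀ j, η j ∈ J) ∧ ∑ j, η j * a j = z := by
  refine Submodule.mul_induction_on hz (fun r hr y hy => ?_) fun x y hx hy => ?_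
  · obtain ⟨c, rfl⟩ := Ideal.mem_span_range_iff_exists_fun.1 hy
    exact ⟨fun j => r * c j, fun j => Ideal.mul_mem_right _ _ hr, by
      rw [Finset.mul_sum]; exact Finset.sum_congr rfl fun j _ => by ring⟩
  · obtain ⟨η, hη, rfl⟩ := hx
    obtain ⟨η', hη', rfl⟩ := hy
    exact ⟨fun j => η j + η' j, fun j => add_mem (hη j) (hη' j), by
      simp only [add_mul, Finset.sum_add_distrib]⟩

/-- Exact solutions in the local ring cleared of denominators. -/
theorem exists_cleared_solution {Λ L : Type u} [CommRing Λ] (𝔮 : Ideal Λ) [𝔮.IsPrime] [CommRing L] [IsLocalRing L]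
    [Algebra Λ L] [IsLocalization.AtPrime L 𝔮] {d s : ℕ} (n N : ℕ) (hnN : n ≤ N) (w : Fin d → Λ) (a : Fin s → Λ)
    (hI : maximalIdeal L ^ n ≤ Ideal.span (Set.range fun j => algebraMap Λ L (a j)))
    (α : Fin d → Fin s → L)
    (hα : ∀ l, algebraMap Λ L (w l) ^ n - ∑ j, α l j * algebraMap Λ L (a j) ∈ maximalIdeal L ^ N) :
    ∃ c ∈ 𝔮.primeCompl, ∃ lam : Fin d → Fin s → Λ, (∀ l, c * w l ^ n = ∑ j, lam l j * a j) ∧
      ∀ l j, ∃ η ∈ maximalIdeal L ^ (N - n), algebraMap Λ L (lam l j) = algebraMap Λ L c * (α l j + η) := by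
  classical
  have hη : ∀ l, ∃ η : Fin s → L, (∀ j, η j ∈ maximalIdeal L ^ (N - n)) ∧
      ∑ j, η j * algebraMap Λ L (a j) = algebraMap Λ L (w l) ^ n - ∑ j, α l j * algebraMap Λ L (a j) := fun l => by
    refine exists_coeff_of_mem_mul_span _ _ (Ideal.mul_mono le_rfl hI ?_)
    rw [← pow_add, Nat.sub_add_cancel hnN]
    exact hα l
  choose η hηm hηs using hη
  obtain ⟨c₀, hc₀⟩ := IsLocalization.exist_integer_multiples_of_finite 𝔮.primeCompl
    (fun q : Fin d × Fin s => α q.1 q.2 + η q.1 q.2)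
  choose lam₀ hlam₀ using fun l j => hc₀ (l, j)
  have hlam : ∀ l j, algebraMap Λ L (lam₀ l j) = algebraMap Λ L c₀ * (α l j + η l j) := fun l j => by
    rw [hlam₀, Algebra.smul_def]
  have hzero : ∀ l, ∃ c₁ : 𝔮.primeCompl, (c₁ : Λ) * ((c₀ : Λ) * w l ^ n - ∑ j, lam₀ l j * a j) = 0 := fun l => by
    refine (IsLocalization.map_eq_zero_iff 𝔮.primeCompl L _).1 ?_
    simp only [map_sub, map_mul, map_pow, map_sum, hlam, mul_assoc, ← Finset.mul_sum, add_mul, Finset.sum_add_distrib,
      hηs]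
    ring
  choose c₁ hc₁ using hzero
  refine ⟨(∏ l, (c₁ l : Λ)) * c₀, mul_mem (prod_mem fun l _ => (c₁ l).2) c₀.2,
    fun l j => (∏ l, (c₁ l : Λ)) * lam₀ l j, fun l => ?_, fun l j => ⟨η l j, hηm l j, ?_⟩⟩
  · have h : (∏ l, (c₁ l : Λ)) * ((c₀ : Λ) * w l ^ n - ∑ j, lam₀ l j * a j) = 0 := by
      rw [Fintype.prod_eq_mul_prod_compl l, mul_comm (c₁ l : Λ), mul_assoc, hc₁, mul_zero]
    rw [mul_sub, sub_eq_zero, Finset.mul_sum] at h
    rw [mul_assoc, h]
    exact Finset.sum_congr rfl fun j _ => by ring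
  · rw [map_mul, map_mul, hlam, mul_assoc]

/-- The structure map of the universal model under evaluation. -/
theorem modelEval_comp_struct {k A Λ : Type u} [CommRing k] [CommRing A] [Algebra k A] [CommRing Λ] (n d : ℕ)
    {s : ℕ} (a : Fin s → A) (ψ : ModelAlg n d a →+* Λ) (θ : MvPolynomial (Fin d) k →+* Λ)
    (hC : ∀ c, θ (MvPolynomial.C c) = ψ (algebraMap A (ModelAlg n d a) (algebraMap k A c)))
    (hX : ∀ l, θ (MvPolynomial.X l) = ψ (Ideal.Quotient.mk _ (MvPolynomial.X (Sum.inl l))))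
    (q : MvPolynomial (Fin d) k) : ψ (modelStruct (k := k) n d a q) = θ q := by
  refine DFunLike.congr_fun (?_ : ψ.comp (modelStruct (k := k) n d a).toRingHom = θ) q
  refine MvPolynomial.ringHom_ext (fun c => ?_) fun l => ?_
  · rw [hC]
    show ψ (modelStruct (k := k) n d a (MvPolynomial.C c)) = _
    rw [← MvPolynomial.algebraMap_eq, AlgHom.commutes, IsScalarTower.algebraMap_apply k A (ModelAlg n d a)]
  · rw [hX]
    show ψ (modelStruct (k := k) n d a (MvPolynomial.X l)) = _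
    rw [modelStruct, MvPolynomial.aeval_X]

/-- Resolutions over a smooth base with a parameter descend by specialising the parameter. -/
theorem resolvable_of_specialise {k A Λ R D : Type u} [CommRing k] [CommRing A] [Algebra k A] [CommRing Λ]
    [Algebra k Λ] (φ : A →ₐ[k] Λ) (𝔮 : Ideal Λ) [𝔮.IsPrime] [Infinite (Λ ⧸ 𝔮)] [CommRing R] [Algebra k R]
    [Algebra.Smooth k R] [CommRing D] [Algebra R D] [Algebra k D] [IsScalarTower k R D]
    [Algebra.FinitePresentation R D] (g : A →ₐ[k] D) (h : D →ₐ[k] Polynomial Λ)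
    (hgh : ∀ x, h (g x) = Polynomial.C (φ x))
    (hle : ((Smoothing.singularIdeal k A).map φ).map Polynomial.C ≤ ((Smoothing.singularIdeal R D).map h).radical)
    (hnle : ¬ (Smoothing.singularIdeal R D).map h ≤ 𝔮.map Polynomial.C) : Smoothing.Resolvable k φ 𝔮 := by
  classical
  haveI : Algebra.FinitePresentation k D := Algebra.FinitePresentation.trans k R D
  obtain ⟨z, hz, hzq⟩ := Set.not_subset.1 hnle
  have hp : (z : Polynomial Λ).map (Ideal.Quotient.mk 𝔮) ≠ 0 := fun h0 => hzq (by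
    rw [SetLike.mem_coe, Ideal.mem_map_C_iff]
    intro i
    rw [← Ideal.Quotient.eq_zero_iff_mem, ← Polynomial.coeff_map, h0, Polynomial.coeff_zero])
  obtain ⟨τ', hτ'⟩ : ∃ τ' : Λ ⧸ 𝔮, ¬ ((z : Polynomial Λ).map (Ideal.Quotient.mk 𝔮)).IsRoot τ' := by
    by_contra hall
    push Not at hall
    refine hp (Polynomial.eq_zero_of_infinite_isRoot _ ?_)
    rw [Set.eq_univ_of_forall (s := {x | ((z : Polynomial Λ).map (Ideal.Quotient.mk 𝔮)).IsRoot x}) hall]
    exact Set.infinite_univ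
  obtain ⟨τ, rfl⟩ := Ideal.Quotient.mk_surjective τ'
  let ev : Polynomial Λ →ₐ[k] Λ := (Polynomial.aeval τ).restrictScalars k
  have hev : ∀ q, ev q = q.eval τ := fun q => Polynomial.coe_aeval_eq_eval τ ▸ rfl
  have hkey : (Smoothing.singularIdeal R D).map h ≤ ((Smoothing.singularIdeal k D).map (ev.comp h)).comap ev :=
    Ideal.map_le_iff_le_comap.2 fun d hd =>
      Ideal.mem_map_of_mem (ev.comp h) (singularIdeal_le_of_smooth (k := k) (R := R) (B := D) hd)
  refine ⟨D, inferInstance, inferInstance, inferInstance, g, ev.comp h, AlgHom.ext fun x => ?_, ?_, fun hc => ?_⟩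
  · show ev (h (g x)) = φ x
    rw [hgh, hev, Polynomial.eval_C]
  · refine (Ideal.radical_isRadical _).radical_le_iff.mpr fun x hx => ?_
    obtain ⟨i, hi⟩ := hle (Ideal.mem_map_of_mem Polynomial.C hx)
    have h1 : ev (Polynomial.C x ^ i) ∈ (Smoothing.singularIdeal k D).map (ev.comp h) := hkey hi
    rw [map_pow, hev, Polynomial.eval_C] at h1
    exact ⟨i, h1⟩
  · refine hτ' ?_
    rw [Polynomial.IsRoot, Polynomial.eval_map, Polynomial.eval₂_hom, ← hev]
    exact Ideal.Quotient.eq_zero_iff_mem.2 (hc (Ideal.le_radical (hkey hz)))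

end Groth.Agent.H9Popescu
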