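import Groth.Agent.H9Popescu.InseparableAux

/-!
# Resolution of the thickened problem, inseparable residue field
-/

set_option autoImplicit false
set_option linter.style.haveILetI false

universe u

open TensorProduct IsLocalRing Polynomial

namespace Groth.Agent.H9Popescu

set_option maxHeartbeats 1600000 in
/-- The problem reduced modulo powers of the twisted parameters can be resolved. -/
theorem resolvable_thickened {k A Λ L B₀ R₀ R : Type u} [Field k] [CommRing A] [Algebra k A] [CommRing Λ]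
    [IsNoetherianRing Λ] [Algebra k Λ] (φ : A →ₐ[k] Λ) (𝔮 : Ideal Λ) [𝔮.IsPrime] [CommRing L] [Algebra Λ L]
    [IsLocalization.AtPrime L 𝔮] [IsLocalRing L] [CommRing R₀] [Algebra k R₀]
    [CommRing R] [IsNoetherianRing R] [Algebra k R] (CR : R₀ →ₐ[k] R) (ev : R₀ →ₐ[k] Λ) {n d s : ℕ}
    (a : Fin s → A) (w : Fin d → R₀)
    (hwL : Ideal.span (Set.range fun l => algebraMap Λ L (ev (w l))) = maximalIdeal L)
    (hwP : Ideal.span (Set.range fun l => algebraMap R₀ (Localization.AtPrime (𝔮.comap ev)) (w l)) =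
      maximalIdeal (Localization.AtPrime (𝔮.comap ev)))
    (N e : ℕ) (hN : d * e + 1 + n ≤ N) {D₀ : Type u} [CommRing D₀]
    [Algebra (R₀ ⧸ (𝔮.comap ev) ^ N) D₀] [Algebra.Smooth (R₀ ⧸ (𝔮.comap ev) ^ N) D₀]
    (φD : A →+* D₀) (Z : Fin d → Fin s → D₀) (v : D₀ →+* L ⧸ maximalIdeal L ^ N)
    (hφDk : ∀ c, φD (algebraMap k A c) =
      algebraMap (R₀ ⧸ (𝔮.comap ev) ^ N) D₀ (Ideal.Quotient.mk _ (algebraMap k R₀ c)))
    (hZ : ∀ l, algebraMap (R₀ ⧸ (𝔮.comap ev) ^ N) D₀ (Ideal.Quotient.mk _ (w l)) ^ n =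
      ∑ j, Z l j * φD (a j))
    (hvR : ∀ r, v (algebraMap (R₀ ⧸ (𝔮.comap ev) ^ N) D₀ (Ideal.Quotient.mk _ r)) =
      Ideal.Quotient.mk _ (algebraMap Λ L (ev r)))
    (hvA : ∀ x, v (φD x) = Ideal.Quotient.mk _ (algebraMap Λ L (φ x)))
    [Algebra R (Polynomial Λ)]
    (hC : ∀ r, algebraMap R (Polynomial Λ) (CR r) = C (ev r))
    (W : R)
    (hW : algebraMap R (Polynomial Λ) W ∉ 𝔮.map C) (Kexp : Fin d → ℕ)
    [Algebra (MvPolynomial (Fin d) k) R]
    (hPR : ∀ q, algebraMap (MvPolynomial (Fin d) k) R q =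
      MvPolynomial.aeval (fun l => W ^ Kexp l * CR (w l)) q)
    [CommRing B₀] [Algebra (MvPolynomial (Fin d) k) B₀] [Algebra.FinitePresentation (MvPolynomial (Fin d) k) B₀]
    (ρ : B₀ →+* ModelAlg n d a)
    (hρ : ∀ q, ρ (algebraMap (MvPolynomial (Fin d) k) B₀ q) = modelStruct n d a q)
    (φB : R ⊗[MvPolynomial (Fin d) k] B₀ →ₐ[R] Polynomial Λ)
    (ψ : ModelAlg n d a →+* Polynomial Λ) (hφB : ∀ b, φB (1 ⊗ₜ b) = ψ (ρ b))
    (hψA : ∀ x, ψ (algebraMap A (ModelAlg n d a) x) = C (φ x))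
    (hψx : ∀ l, ψ (Ideal.Quotient.mk _ (MvPolynomial.X (Sum.inl l))) =
      algebraMap R (Polynomial Λ) (W ^ Kexp l * CR (w l)))
    (hψz : ∀ l j, ∃ (t lam : Λ) (α : L), t ∉ 𝔮 ∧
      ψ (Ideal.Quotient.mk _ (MvPolynomial.X (Sum.inr (l, j)))) * C t =
        algebraMap R (Polynomial Λ) (W ^ (Kexp l * n)) * C lam ∧
      v (Z l j) = Ideal.Quotient.mk _ α ∧
      ∃ η ∈ maximalIdeal L ^ (N - n), algebraMap Λ L lam = algebraMap Λ L t * (α + η))
    (K : Ideal R) (hKe : ∀ l, (W ^ Kexp l * CR (w l)) ^ e ∈ K)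
    (hKq : K.map (algebraMap R (Polynomial Λ)) ≤ 𝔮.map C)
    (φK : ((R ⊗[MvPolynomial (Fin d) k] B₀) ⧸
        K.map (algebraMap R (R ⊗[MvPolynomial (Fin d) k] B₀))) →ₐ[R ⧸ K]
      (Polynomial Λ ⧸ K.map (algebraMap R (Polynomial Λ))))
    (hφK : ∀ b, φK (Ideal.Quotient.mk _ b) = Ideal.Quotient.mk _ (φB b)) :
    Smoothing.Resolvable (R ⧸ K) φK
      ((𝔮.map C).map (Ideal.Quotient.mk (K.map (algebraMap R (Polynomial Λ))))) := by
  classical
  let Λ' := Polynomial Λ
  let P := MvPolynomial (Fin d) k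
  let B := R ⊗[P] B₀
  let J := K.map (algebraMap R Λ')
  let Rb := R ⧸ K
  let Λb := Λ' ⧸ J
  let qb : Ideal Λb := (𝔮.map C).map (Ideal.Quotient.mk J)
  let p₀ : Ideal R₀ := 𝔮.comap ev
  haveI hqb : qb.IsPrime := Ideal.map_isPrime_of_surjective Ideal.Quotient.mk_surjective (by rwa [Ideal.mk_ker])
  haveI : Algebra.FinitePresentation Rb (B ⧸ K.map (algebraMap R B)) := finitePresentation_quotient K
  by_cases hle : Smoothing.singRad Rb φK ≤ qb
  swap
  · exact ⟨_, inferInstance, inferInstance, inferInstance, AlgHom.id Rb _, φK, φK.comp_id, le_rfl, hle⟩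
  let Rₚ := Localization.AtPrime (qb.comap (algebraMap Rb Λb))
  let Lb := Localization.AtPrime qb
  haveI : IsLocalHom (Localization.localRingHom (qb.comap (algebraMap Rb Λb)) qb (algebraMap Rb Λb) rfl) :=
    Localization.isLocalHom_localRingHom _ _ _ rfl
  letI : Algebra Rₚ Lb := (Localization.localRingHom (qb.comap (algebraMap Rb Λb)) qb (algebraMap Rb Λb) rfl).toAlgebra
  haveI : IsScalarTower Rb Rₚ Lb := IsScalarTower.of_algebraMap_eq fun r => by
    rw [IsScalarTower.algebraMap_apply Rb Λb Lb]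
    exact (Localization.localRingHom_to_map _ _ _ rfl r).symm
  -- the maps into the localisations
  let θR : R →+* Rₚ := (algebraMap Rb Rₚ).comp (Ideal.Quotient.mk K)
  let θΛ : Λ' →+* Lb := (algebraMap Λb Lb).comp (Ideal.Quotient.mk J)
  have hθ : ∀ r, algebraMap Rₚ Lb (θR r) = θΛ (algebraMap R Λ' r) := fun r => by
    show algebraMap Rₚ Lb (algebraMap Rb Rₚ (Ideal.Quotient.mk K r)) = _
    rw [← IsScalarTower.algebraMap_apply Rb Rₚ Lb, IsScalarTower.algebraMap_apply Rb Λb Lb]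
    rfl
  have hθKR : ∀ r ∈ K, θR r = 0 := fun r hr => by
    show algebraMap Rb Rₚ (Ideal.Quotient.mk K r) = 0
    rw [Ideal.Quotient.eq_zero_iff_mem.2 hr, map_zero]
  have hcomap : qb.comap (Ideal.Quotient.mk J) = 𝔮.map C := by
    rw [Ideal.comap_map_of_surjective _ Ideal.Quotient.mk_surjective, ← RingHom.ker_eq_comap_bot, Ideal.mk_ker,
      sup_eq_left.2 hKq]
  have hΛunit : ∀ x : Λ', x ∉ 𝔮.map C → IsUnit (θΛ x) := fun x hx =>
    IsLocalization.map_units Lb (⟨Ideal.Quotient.mk J x, fun h => hx (hcomap.le h)⟩ : qb.primeCompl)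
  have hRunit : ∀ r : R, algebraMap R Λ' r ∉ 𝔮.map C → IsUnit (θR r) := fun r hr =>
    IsLocalization.map_units Rₚ (⟨Ideal.Quotient.mk K r, fun h => hr (hcomap.le h)⟩ :
      (qb.comap (algebraMap Rb Λb)).primeCompl)
  have hCq : ∀ x : Λ, x ∉ 𝔮 → C x ∉ 𝔮.map C := fun x hx h => by
    have := Ideal.mem_map_C_iff.1 h 0
    rw [coeff_C_zero] at this
    exact hx this
  -- from the local ring of the prime
  have hLunit : ∀ x : 𝔮.primeCompl, IsUnit (θΛ (C (x : Λ))) := fun x => hΛunit _ (hCq _ x.2)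
  let ι₀ : L →+* Lb := IsLocalization.lift (g := θΛ.comp C) hLunit
  have hι₀ : ∀ x, ι₀ (algebraMap Λ L x) = θΛ (C x) := fun x => IsLocalization.lift_eq _ x
  have hwe : ∀ l, θR (CR (w l)) ^ e = 0 := fun l => by
    have h := hθKR _ (hKe l)
    rw [mul_pow, map_mul, map_pow θR (W ^ Kexp l), map_pow θR W, map_pow θR (CR (w l))] at h
    exact ((((hRunit W hW).pow _).pow e).mul_right_eq_zero).1 h
  have hιm : ∀ N', d * e + 1 ≤ N' → ∀ z ∈ maximalIdeal L ^ N', ι₀ z = 0 := by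
    intro N' hN' z hz
    have h0 : ∀ l, ι₀ (algebraMap Λ L (ev (w l))) ^ e = 0 := fun l => by
      rw [hι₀, ← hC, ← hθ, ← map_pow, hwe, map_zero]
    exact map_eq_zero_of_mem_pow (S := Lb) ι₀ _ hwL e N' hN' h0 hz
  let ι : L ⧸ maximalIdeal L ^ N →+* Lb := Ideal.Quotient.lift _ ι₀ (hιm N (by omega))
  -- from the polynomial ring
  let θ₀ : R₀ →+* Rₚ := θR.comp CR.toRingHom
  have h0unit : ∀ r : p₀.primeCompl, IsUnit (θ₀ r) := fun r => hRunit _ (by
    show algebraMap R Λ' (CR (r : R₀)) ∉ 𝔮.map C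
    rw [hC]
    exact hCq _ r.2)
  let θP : Localization.AtPrime p₀ →+* Rₚ := IsLocalization.lift (g := θ₀) h0unit
  have hθP : ∀ r, θP (algebraMap R₀ _ r) = θ₀ r := fun r => IsLocalization.lift_eq _ r
  have hp₀ : ∀ r ∈ p₀ ^ N, θ₀ r = 0 := fun r hr => by
    rw [← hθP]
    refine map_eq_zero_of_mem_pow θP _ hwP e N (by omega) (fun l => by rw [hθP]; exact hwe l) ?_
    rw [← Localization.AtPrime.map_eq_maximalIdeal, ← Ideal.map_pow]
    exact Ideal.mem_map_of_mem _ hr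
  letI : Algebra (R₀ ⧸ p₀ ^ N) Rₚ := (Ideal.Quotient.lift (p₀ ^ N) θ₀ hp₀).toAlgebra
  let T := Rₚ ⊗[R₀ ⧸ p₀ ^ N] D₀
  let inD : D₀ →+* T := (Algebra.TensorProduct.includeRight : D₀ →ₐ[R₀ ⧸ p₀ ^ N] T).toRingHom
  let inR : Rₚ →+* T := algebraMap Rₚ T
  have hDR : ∀ r, inD (algebraMap (R₀ ⧸ p₀ ^ N) D₀ (Ideal.Quotient.mk _ r)) = inR (θR (CR r)) := fun r =>
    (Algebra.TensorProduct.tmul_one_eq_one_tmul (R := R₀ ⧸ p₀ ^ N) (A := Rₚ) (B := D₀) _).symm
  -- the model inside the smooth algebra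
  obtain ⟨ψT, hTA, hTx, hTz⟩ := exists_modelEval n d a (inD.comp φD)
    (fun l => inR (θR (W ^ Kexp l * CR (w l)))) (fun l j => inR (θR (W ^ (Kexp l * n))) * inD (Z l j))
    (fun l => by
      simp only [map_mul, map_pow, RingHom.comp_apply, ← hDR, mul_pow, ← pow_mul, mul_assoc, ← Finset.mul_sum]
      rw [← map_pow inD, hZ, map_sum]
      simp only [map_mul])
  let uT : B₀ →ₐ[P] T :=
    { ψT.comp ρ with
      commutes' := fun q => by
        show ψT (ρ (algebraMap P B₀ q)) = _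
        rw [hρ, IsScalarTower.algebraMap_apply P R T]
        show _ = inR (θR (algebraMap P R q))
        refine modelEval_comp_struct (k := k) n d a ψT (inR.comp (θR.comp (algebraMap P R))) (fun c => ?_)
          (fun l => ?_) q
        · show inR (θR (algebraMap P R (MvPolynomial.C c))) = _
          rw [hTA]
          show _ = inD (φD (algebraMap k A c))
          rw [hφDk, hDR, hPR, MvPolynomial.aeval_C, AlgHom.commutes]
        · show inR (θR (algebraMap P R (MvPolynomial.X l))) = _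
          rw [hTx, hPR, MvPolynomial.aeval_X] }
  let uB : B →ₐ[R] T := Algebra.TensorProduct.lift (Algebra.ofId R T) uT fun _ _ => Commute.all _ _
  have huB : ∀ x ∈ K.map (algebraMap R B), uB x = 0 := fun x hx => by
    refine (Ideal.map_le_iff_le_comap.2 fun r hr => ?_ : K.map (algebraMap R B) ≤ RingHom.ker uB.toRingHom) hx
    show uB (algebraMap R B r) = 0
    rw [AlgHom.commutes]
    show inR (θR r) = 0
    rw [hθKR r hr, map_zero]
  let u : (B ⧸ K.map (algebraMap R B)) →ₐ[Rb] T :=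
    { Ideal.Quotient.lift (K.map (algebraMap R B)) uB.toRingHom huB with
      commutes' := fun x => by
        obtain ⟨r, rfl⟩ := Ideal.Quotient.mk_surjective x
        show uB (algebraMap R B r) = _
        rw [AlgHom.commutes]
        rfl }
  letI : Algebra (R₀ ⧸ p₀ ^ N) Lb := ((algebraMap Rₚ Lb).comp (algebraMap (R₀ ⧸ p₀ ^ N) Rₚ)).toAlgebra
  haveI : IsScalarTower (R₀ ⧸ p₀ ^ N) Rₚ Lb := IsScalarTower.of_algebraMap_eq' rfl
  let vD : D₀ →ₐ[R₀ ⧸ p₀ ^ N] Lb :=
    { ι.comp v with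
      commutes' := fun x => by
        obtain ⟨r, rfl⟩ := Ideal.Quotient.mk_surjective x
        show ι (v (algebraMap _ D₀ (Ideal.Quotient.mk _ r))) = algebraMap Rₚ Lb (θR (CR r))
        rw [hvR, hθ, hC]
        exact hι₀ _ }
  let vT : T →ₐ[Rₚ] Lb := Algebra.TensorProduct.lift (Algebra.ofId Rₚ Lb) vD fun _ _ => Commute.all _ _
  have hvTR : ∀ x, vT (inR x) = algebraMap Rₚ Lb x := fun x => vT.commutes x
  have hvTD : ∀ x, vT (inD x) = ι (v x) := fun x => by
    show algebraMap Rₚ Lb 1 * ι (v x) = _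
    rw [map_one, one_mul]
  have hmodel : vT.toRingHom.comp ψT = θΛ.comp ψ := by
    refine modelAlg_hom_ext (Λ := Lb) n d a (fun x => ?_) (fun l => ?_) fun lj => ?_
    · show vT (ψT _) = θΛ (ψ _)
      rw [hTA, hψA, RingHom.comp_apply, hvTD, hvA]
      exact hι₀ _
    · show vT (ψT _) = θΛ (ψ _)
      rw [hTx, hψx, hvTR, hθ]
    · obtain ⟨l, j⟩ := lj
      show vT (ψT _) = θΛ (ψ _)
      obtain ⟨t, lam, α, ht, heq, hα, η, hη, hlam⟩ := hψz l j
      rw [hTz, map_mul, hvTR, hvTD, hα, hθ]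
      refine (hΛunit _ (hCq t ht)).mul_right_cancel ?_
      rw [← map_mul θΛ (ψ _) (C t), heq, map_mul]
      have h1 : ι₀ (algebraMap Λ L lam) = ι₀ (algebraMap Λ L t) * ι₀ α := by
        rw [hlam, map_mul, map_add, hιm (N - n) (by omega) η hη, add_zero]
      rw [hι₀, hι₀] at h1
      rw [h1, mul_assoc]
      refine congrArg (_ * ·) ?_
      rw [mul_comm]
      rfl
  have huv : ∀ c, vT (u c) = algebraMap Λb Lb (φK c) := fun c => by
    obtain ⟨b, rfl⟩ := Ideal.Quotient.mk_surjective c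
    rw [hφK]
    show vT (uB b) = θΛ (φB b)
    induction b using TensorProduct.induction_on with
    | zero => simp
    | add x y hx hy => simp only [map_add, hx, hy]
    | tmul r z =>
      have h1 : uB (r ⊗ₜ z) = inR (θR r) * ψT (ρ z) := rfl
      have h2 : φB (r ⊗ₜ z) = algebraMap R Λ' r * ψ (ρ z) := by
        rw [← hφB, ← AlgHom.commutes φB, ← map_mul φB]
        congr 1
        simp [Algebra.TensorProduct.algebraMap_apply, Algebra.TensorProduct.tmul_mul_tmul]
      rw [h1, h2, map_mul, map_mul, hvTR, hθ]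
      exact congrArg (_ * ·) (DFunLike.congr_fun hmodel (ρ z))
  have hdim : ringKrullDim Lb = 0 := by
    haveI : Ring.KrullDimLE 0 Lb := Ring.krullDimLE_zero_iff.mpr fun Q hQ => by
      haveI := hQ
      have hle' : maximalIdeal Lb ≤ Q := by
        rw [← IsLocalization.AtPrime.map_eq_maximalIdeal qb Lb, Ideal.map_map, Ideal.map_map,
          Ideal.map_le_iff_le_comap]
        intro x hx
        show θΛ (C x) ∈ Q
        rw [← hι₀]
        have hxm : algebraMap Λ L x ∈ maximalIdeal L := (IsLocalization.AtPrime.to_map_mem_maximal_iff L 𝔮 x).2 hx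
        rw [← hwL] at hxm
        refine (Ideal.span_le.2 ?_ : Ideal.span (Set.range fun l => algebraMap Λ L (ev (w l))) ≤ Q.comap ι₀) hxm
        rintro _ ⟨l, rfl⟩
        refine hQ.mem_of_pow_mem e ?_
        rw [hι₀, ← hC, ← hθ, ← map_pow, hwe, map_zero]
        exact zero_mem _
      exact le_antisymm hle' (IsLocalRing.le_maximalIdeal hQ.ne_top) ▸ IsLocalRing.maximalIdeal.isMaximal Lb
    exact ringKrullDimZero_iff_ringKrullDim_eq_zero.mp inferInstance
  haveI : IsScalarTower Rb Rₚ T := inferInstance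
  exact resolvable_of_smooth_factor (Rₚ := Rₚ) (L := Lb) (T := T) φK qb hle hdim u vT huv

end Groth.Agent.H9Popescu
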