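import Groth.Agent.H9Popescu.InseparableThick

/-!
# The twisted problem, inseparable residue field
-/

set_option autoImplicit false
set_option linter.style.haveILetI false

universe u

open TensorProduct IsLocalRing Polynomial

namespace Groth.Agent.H9Popescu

/-- The ideal of eighth powers of the earlier elements of an extended sequence. -/
theorem range_snoc_pow {S : Type u} [CommRing S] {d : ℕ} (P : Fin (d + 1) → S) (f : Fin d → S)
    (hP : ∀ i : Fin d, P i.castSucc = f i) (i : Fin d) :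
    (Set.range fun j : {j : Fin (d + 1) // (j : ℕ) < (i.castSucc : ℕ)} => P j ^ 8) =
      Set.range fun j : {j : Fin d // (j : ℕ) < (i : ℕ)} => f j ^ 8 := by
  ext y
  constructor
  · rintro ⟨⟨j, hj⟩, rfl⟩
    obtain ⟨j, rfl⟩ : ∃ j' : Fin d, j'.castSucc = j :=
      ⟨⟨j, by have : (j : ℕ) < i := hj; omega⟩, Fin.ext rfl⟩
    exact ⟨⟨j, hj⟩, by show f j ^ 8 = P j.castSucc ^ 8; rw [hP]⟩
  · rintro ⟨⟨j, hj⟩, rfl⟩
    exact ⟨⟨j.castSucc, hj⟩, by show P j.castSucc ^ 8 = f j ^ 8; rw [hP]⟩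

set_option maxHeartbeats 1600000 in
/-- Resolution from twisted parameters over a smooth base. -/
theorem resolvable_twisted {k A Λ L B₀ R₀ R : Type u} [Field k] [CommRing A] [Algebra k A] [CommRing Λ]
    [IsNoetherianRing Λ] [Algebra k Λ] (φ : A →ₐ[k] Λ) (𝔮 : Ideal Λ) [𝔮.IsPrime] [Infinite (Λ ⧸ 𝔮)]
    [CommRing L] [Algebra Λ L] [IsLocalization.AtPrime L 𝔮] [IsLocalRing L]
    [CommRing R₀] [Algebra k R₀] [CommRing R] [IsNoetherianRing R] [Algebra k R] [Algebra.Smooth k R]
    (CR : R₀ →ₐ[k] R) (ev : R₀ →ₐ[k] Λ) {n d s : ℕ} (hn : 0 < n) (a : Fin s → A)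
    (ha : Ideal.span (Set.range a) = Smoothing.singularIdeal k A) (w : Fin d → R₀)
    (hwL : Ideal.span (Set.range fun l => algebraMap Λ L (ev (w l))) = maximalIdeal L)
    (hwP : Ideal.span (Set.range fun l => algebraMap R₀ (Localization.AtPrime (𝔮.comap ev)) (w l)) =
      maximalIdeal (Localization.AtPrime (𝔮.comap ev)))
    (M : ℕ) (hM : 0 < M) (N : ℕ) (hN : d * (M * 8) + 1 + n ≤ N) {D₀ : Type u} [CommRing D₀]
    [Algebra (R₀ ⧸ (𝔮.comap ev) ^ N) D₀] [Algebra.Smooth (R₀ ⧸ (𝔮.comap ev) ^ N) D₀]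
    (φD : A →+* D₀) (Z : Fin d → Fin s → D₀) (v : D₀ →+* L ⧸ maximalIdeal L ^ N)
    (hφDk : ∀ c, φD (algebraMap k A c) =
      algebraMap (R₀ ⧸ (𝔮.comap ev) ^ N) D₀ (Ideal.Quotient.mk _ (algebraMap k R₀ c)))
    (hZ : ∀ l, algebraMap (R₀ ⧸ (𝔮.comap ev) ^ N) D₀ (Ideal.Quotient.mk _ (w l)) ^ n =
      ∑ j, Z l j * φD (a j))
    (hvR : ∀ r, v (algebraMap (R₀ ⧸ (𝔮.comap ev) ^ N) D₀ (Ideal.Quotient.mk _ r)) =
      Ideal.Quotient.mk _ (algebraMap Λ L (ev r)))
    (hvA : ∀ x, v (φD x) = Ideal.Quotient.mk _ (algebraMap Λ L (φ x)))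
    [CommRing B₀] [Algebra (MvPolynomial (Fin d) k) B₀] [Algebra.FinitePresentation (MvPolynomial (Fin d) k) B₀]
    (hstd : ∀ i, Smoothing.IsStrictlyStandard (MvPolynomial (Fin d) k) B₀
      (algebraMap (MvPolynomial (Fin d) k) B₀ (MvPolynomial.X i ^ M)))
    (γ : A → B₀) (hγ : ∀ j, γ (a j) ∈ Smoothing.singularIdeal (MvPolynomial (Fin d) k) B₀)
    (hγadd : ∀ x y, γ (x + y) = γ x + γ y) (hγmul : ∀ x y, γ (x * y) = γ x * γ y) (hγone : γ 1 = 1)
    (hγk : ∀ c, γ (algebraMap k A c) = algebraMap (MvPolynomial (Fin d) k) B₀ (MvPolynomial.C c))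
    (ρ : B₀ →+* ModelAlg n d a)
    (hρ : ∀ q, ρ (algebraMap (MvPolynomial (Fin d) k) B₀ q) = modelStruct n d a q)
    (hργ : ∀ x, ρ (γ x) = algebraMap A (ModelAlg n d a) x)
    [Algebra R (Polynomial Λ)] [IsScalarTower k R (Polynomial Λ)]
    (hC : ∀ r, algebraMap R (Polynomial Λ) (CR r) = C (ev r))
    (W : R) (c₁ c₂ : Λ) (hc₁ : c₁ ∉ 𝔮) (hc₂ : c₂ ∉ 𝔮)
    (hWim : algebraMap R (Polynomial Λ) W = C (c₂ * c₁) * X) (lam : Fin d → Fin s → Λ)
    (hlam : ∀ l, c₁ * ev (w l) ^ n = ∑ j, lam l j * φ (a j))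
    (hlamα : ∀ l j, ∃ α : L, v (Z l j) = Ideal.Quotient.mk _ α ∧
      ∃ η ∈ maximalIdeal L ^ (N - n), algebraMap Λ L (lam l j) = algebraMap Λ L c₁ * (α + η))
    (hwR : ∀ l : Fin d, ∀ x : R, CR (w l) ^ (M * 2) * x ∈
      Ideal.span (Set.range fun j : {j : Fin d // (j : ℕ) < (l : ℕ)} => (CR (w j) ^ M) ^ 8) →
      ∃ i, W ^ i * x ∈ Ideal.span (Set.range fun j : {j : Fin d // (j : ℕ) < (l : ℕ)} => (CR (w j) ^ M) ^ 8))
    (hwΛ : ∀ l : Fin d, ∀ x : Polynomial Λ, C (ev (w l)) ^ (M * 2) * x ∈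
      Ideal.span (Set.range fun j : {j : Fin d // (j : ℕ) < (l : ℕ)} => (C (ev (w j)) ^ M) ^ 8) →
      ∃ i, algebraMap R (Polynomial Λ) W ^ i * x ∈
        Ideal.span (Set.range fun j : {j : Fin d // (j : ℕ) < (l : ℕ)} => (C (ev (w j)) ^ M) ^ 8)) :
    Smoothing.Resolvable k φ 𝔮 := by
  classical
  obtain ⟨Kexp, hK0, hKR, hKΛ⟩ := exists_twist W (fun l => CR (w l)) (algebraMap R (Polynomial Λ) W)
    (fun l => C (ev (w l))) M hM hwR hwΛ
  let P := MvPolynomial (Fin d) k
  let f : Fin d → R := fun l => W ^ Kexp l * CR (w l)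
  letI : Algebra P R := (MvPolynomial.aeval (R := k) f).toRingHom.toAlgebra
  have hPR : ∀ q, algebraMap P R q = MvPolynomial.aeval (R := k) f q := fun q => rfl
  let B := R ⊗[P] B₀
  let Λ' := Polynomial Λ
  let 𝔮' : Ideal Λ' := 𝔮.map C
  have hCq : ∀ x : Λ, x ∉ 𝔮 → C x ∉ 𝔮' := fun x hx h => by
    have := Ideal.mem_map_C_iff.1 h 0
    rw [coeff_C_zero] at this
    exact hx this
  have hWq : algebraMap R Λ' W ∉ 𝔮' := fun h => by
    rw [hWim] at h
    have := Ideal.mem_map_C_iff.1 h 1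
    rw [coeff_C_mul, coeff_X_one, mul_one] at this
    exact (‹𝔮.IsPrime›.mul_notMem hc₂ hc₁) this
  have hC' : ∀ r, algebraMap R Λ' (CR r) = C (ev r) := hC
  have hWim' : algebraMap R Λ' W = C (c₂ * c₁) * X := hWim
  -- the solution
  let lam' : Fin d → Fin s → Λ' := fun l j =>
    X ^ (Kexp l * n) * C ((c₂ * c₁) ^ (Kexp l * n - 1) * c₂ * lam l j)
  obtain ⟨ψ, hψA, hψx, hψz⟩ := exists_modelEval n d a ((C : Λ →+* Λ').comp φ.toRingHom)
    (fun l => algebraMap R Λ' (f l)) lam' fun l => by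
      obtain ⟨m, hm⟩ : ∃ m, Kexp l * n = m + 1 := ⟨Kexp l * n - 1, (Nat.sub_add_cancel (Nat.mul_pos (hK0 l) hn)).symm⟩
      simp only [f, map_mul, map_pow, hC', hWim', mul_pow, ← pow_mul, lam', hm, Nat.add_sub_cancel,
        RingHom.comp_apply, AlgHom.toRingHom_eq_coe, RingHom.coe_coe]
      have h := congrArg (C (R := Λ)) (hlam l)
      simp only [map_mul, map_pow, map_sum] at h
      calc _ = X ^ (m + 1) * (C (c₂ ^ (m + 1) * c₁ ^ m) * (C c₁ * C (ev (w l)) ^ n)) := by
            simp only [map_mul, map_pow]; ring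
        _ = _ := by
            rw [h, Finset.mul_sum, Finset.mul_sum]
            refine Finset.sum_congr rfl fun j _ => ?_
            simp only [map_mul, map_pow]
            ring
  letI : Algebra P Λ' := ((algebraMap R Λ').comp (algebraMap P R)).toAlgebra
  haveI : IsScalarTower P R Λ' := IsScalarTower.of_algebraMap_eq' rfl
  have hRk : ∀ c, algebraMap R Λ' (algebraMap k R c) = C (algebraMap k Λ c) := fun c => by
    rw [← IsScalarTower.algebraMap_apply k R Λ']
    rfl
  let ψB : B₀ →ₐ[P] Λ' :=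
    { ψ.comp ρ with
      commutes' := fun q => by
        show ψ (ρ (algebraMap P B₀ q)) = algebraMap R Λ' (algebraMap P R q)
        rw [hρ]
        refine modelEval_comp_struct (k := k) n d a ψ ((algebraMap R Λ').comp (algebraMap P R)) (fun c => ?_)
          (fun l => ?_) q
        · rw [hψA, RingHom.comp_apply, RingHom.comp_apply, hPR, MvPolynomial.aeval_C, hRk]
          exact congrArg C (φ.commutes c).symm
        · rw [hψx, RingHom.comp_apply, hPR, MvPolynomial.aeval_X] }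
  let φB : B →ₐ[R] Λ' := Algebra.TensorProduct.lift (Algebra.ofId R Λ') ψB fun _ _ => Commute.all _ _
  have hφB : ∀ b, φB (1 ⊗ₜ b) = ψ (ρ b) := fun b => by
    show algebraMap R Λ' 1 * ψ (ρ b) = _
    rw [map_one, one_mul]
  haveI : Algebra.FinitePresentation R B := inferInstance
  have hsingle : ((Smoothing.singularIdeal k A).map φ).map C ≤ Smoothing.singRad R φB := by
    rw [← ha, Ideal.map_span, Ideal.map_span, Ideal.span_le]
    rintro _ ⟨_, ⟨_, ⟨j, rfl⟩, rfl⟩, rfl⟩
    refine Ideal.le_radical ?_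
    have h := Ideal.mem_map_of_mem φB (tmul_mem_singularIdeal (R' := R) (hγ j))
    rw [hφB, hργ, hψA] at h
    exact h
  have hres : Smoothing.Resolvable R φB 𝔮' := by
    by_cases hle : Smoothing.singRad R φB ≤ 𝔮'
    swap
    · exact ⟨B, inferInstance, inferInstance, inferInstance, AlgHom.id R B, φB, φB.comp_id, le_rfl, hle⟩
    let π : Fin (d + 1) → R := Fin.snoc (fun l => f l ^ M) 0
    have hP1 : ∀ i : Fin d, π i.castSucc = f i ^ M := fun i => Fin.snoc_castSucc (α := fun _ => R) _ _ i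
    have hP2 : π (Fin.last d) = 0 := Fin.snoc_last (α := fun _ => R) _ _
    have himg : ∀ l, algebraMap R Λ' (f l) = algebraMap R Λ' W ^ Kexp l * C (ev (w l)) := fun l => by
      simp only [f, map_mul, map_pow, hC']
    have hf𝔮 : ∀ l, algebraMap R Λ' (f l) ∈ 𝔮' := fun l => by
      rw [himg]
      refine Ideal.mul_mem_left _ _ (Ideal.mem_map_of_mem C ?_)
      refine (IsLocalization.AtPrime.to_map_mem_maximal_iff L 𝔮 _).mp ?_
      rw [← hwL]
      exact Ideal.subset_span ⟨l, rfl⟩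
    let K : Ideal R := Ideal.span (Set.range fun i => π i ^ 8)
    have hKe : ∀ l, (W ^ Kexp l * CR (w l)) ^ (M * 8) ∈ K := fun l =>
      Ideal.subset_span ⟨l.castSucc, by show π l.castSucc ^ 8 = _; rw [hP1, ← pow_mul]⟩
    have hπ𝔮 : ∀ i, algebraMap R Λ' (π i) ∈ 𝔮' := fun i => by
      induction i using Fin.lastCases with
      | last => rw [hP2, map_zero]; exact zero_mem _
      | cast i => rw [hP1, map_pow]; exact Ideal.pow_mem_of_mem _ (hf𝔮 i) M hM
    have hKq : K.map (algebraMap R Λ') ≤ 𝔮' := by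
      rw [Ideal.map_span, Ideal.span_le]
      rintro _ ⟨_, ⟨i, rfl⟩, rfl⟩
      rw [SetLike.mem_coe, map_pow]
      exact Ideal.pow_mem_of_mem _ (hπ𝔮 i) 8 (by norm_num)
    haveI : Algebra.FinitePresentation (R ⧸ K) (B ⧸ K.map (algebraMap R B)) := finitePresentation_quotient K
    let φK : (B ⧸ K.map (algebraMap R B)) →ₐ[R ⧸ K] (Λ' ⧸ K.map (algebraMap R Λ')) :=
      { Ideal.Quotient.lift (K.map (algebraMap R B))
          ((Ideal.Quotient.mk (K.map (algebraMap R Λ'))).comp φB.toRingHom) fun x hx => by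
            refine Ideal.Quotient.eq_zero_iff_mem.mpr ?_
            have := Ideal.mem_map_of_mem φB.toRingHom hx
            rwa [Ideal.map_map, AlgHom.toRingHom_eq_coe, AlgHom.comp_algebraMap] at this with
        commutes' := fun x => by
          obtain ⟨r, rfl⟩ := Ideal.Quotient.mk_surjective x
          show Ideal.Quotient.mk (K.map (algebraMap R Λ')) (φB (algebraMap R B r)) = _
          rw [φB.commutes]
          rfl }
    refine S6822.result φB 𝔮' (Nat.succ_pos d) π hπ𝔮 (fun i => ?_) (fun i => ?_) (fun i => ?_) K rfl φK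
      (fun _ => rfl) ?_
    · induction i using Fin.lastCases with
      | last => intro x _; rw [hP2, map_zero, zero_mul]
      | cast i =>
        intro x hx
        obtain ⟨p, rfl⟩ := Ideal.Quotient.mk_surjective x
        rw [← map_pow, ← map_mul, Ideal.Quotient.eq_zero_iff_mem, range_snoc_pow π _ hP1, hP1, ← pow_mul] at hx
        rw [← map_mul, Ideal.Quotient.eq_zero_iff_mem, range_snoc_pow π _ hP1, hP1]
        exact hKR i p hx
    · induction i using Fin.lastCases with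
      | last => intro x _; rw [hP2, map_zero, map_zero, zero_mul]
      | cast i =>
        intro x hx
        obtain ⟨p, rfl⟩ := Ideal.Quotient.mk_surjective x
        have hJ : (Set.range fun j : {j : Fin (d + 1) // (j : ℕ) < (i.castSucc : ℕ)} => algebraMap R Λ' (π j) ^ 8) =
            Set.range fun j : {j : Fin d // (j : ℕ) < (i : ℕ)} =>
              ((algebraMap R Λ' W ^ Kexp j * C (ev (w j))) ^ M) ^ 8 :=
          range_snoc_pow (fun j => algebraMap R Λ' (π j))
            (fun j => (algebraMap R Λ' W ^ Kexp j * C (ev (w j))) ^ M)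
            (fun j => by show algebraMap R Λ' (π j.castSucc) = _; rw [hP1, map_pow, himg]) i
        rw [← map_pow, ← map_mul, Ideal.Quotient.eq_zero_iff_mem, hJ, hP1, map_pow, himg, ← pow_mul] at hx
        rw [← map_mul, Ideal.Quotient.eq_zero_iff_mem, hJ, hP1, map_pow, himg]
        exact hKΛ i p hx
    · induction i using Fin.lastCases with
      | last => rw [hP2, map_zero]; exact isStrictlyStandard_zero
      | cast i =>
        have h := (S6829.result (R' := R) _).2 (hstd i)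
        rwa [← Algebra.TensorProduct.tmul_one_eq_one_tmul, hPR, map_pow, MvPolynomial.aeval_X, ← hP1] at h
    · refine resolvable_thickened φ 𝔮 (L := L) CR ev a w hwL hwP N (M * 8) hN φD Z v hφDk hZ hvR hvA hC W hWq Kexp
        hPR ρ hρ φB ψ hφB hψA hψx (fun l j => ?_) K hKe hKq φK fun _ => rfl
      obtain ⟨α, hα, η, hη, h⟩ := hlamα l j
      refine ⟨c₁, lam l j, α, hc₁, ?_, hα, η, hη, h⟩
      rw [hψz, map_pow, hWim]
      obtain ⟨m, hm⟩ : ∃ m, Kexp l * n = m + 1 := ⟨Kexp l * n - 1, (Nat.sub_add_cancel (Nat.mul_pos (hK0 l) hn)).symm⟩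
      simp only [lam', hm, Nat.add_sub_cancel, map_mul, map_pow, mul_pow]
      ring
  obtain ⟨D, _, _, hD, g, h, hgh, hle, hnle⟩ := hres
  haveI := hD
  letI : Algebra k D := ((algebraMap R D).comp (algebraMap k R)).toAlgebra
  haveI : IsScalarTower k R D := IsScalarTower.of_algebraMap_eq' rfl
  let g' : A →ₐ[k] D :=
    { toFun := fun x => g (1 ⊗ₜ γ x)
      map_one' := by rw [hγone, ← Algebra.TensorProduct.one_def, map_one]
      map_mul' := fun x y => by rw [hγmul, ← map_mul g, Algebra.TensorProduct.tmul_mul_tmul, one_mul]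
      map_zero' := by
        have h0 : γ 0 = 0 := by
          have := hγadd 0 0
          rw [add_zero] at this
          exact add_eq_left.mp this.symm
        rw [h0, tmul_zero, map_zero]
      map_add' := fun x y => by rw [hγadd, tmul_add, map_add]
      commutes' := fun c => by
        show g (1 ⊗ₜ γ (algebraMap k A c)) = algebraMap R D (algebraMap k R c)
        rw [hγk, ← Algebra.TensorProduct.tmul_one_eq_one_tmul, hPR, MvPolynomial.aeval_C]
        exact g.commutes _ }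
  refine resolvable_of_specialise (R := R) φ 𝔮 g' (h.restrictScalars k) (fun x => ?_) ?_ fun hc => hnle ?_
  · show h (g (1 ⊗ₜ γ x)) = _
    rw [← AlgHom.comp_apply h g, hgh, hφB, hργ]
    exact hψA x
  · exact hsingle.trans (hle.trans le_rfl)
  · exact (Ideal.IsPrime.isRadical inferInstance).radical_le_iff.mpr hc

end Groth.Agent.H9Popescu
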