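import Groth.Agent.H9Popescu.SmoothPoint

/-!
# The lifting lemma
-/

set_option linter.style.haveILetI false

universe u

open MvPolynomial

namespace Groth.Agent.H9Popescu

variable {R : Type u} [CommRing R] {n m : ℕ} (π : R) (f : Fin m → MvPolynomial (Fin n) R)

/-- The old variables. -/
noncomputable abbrev oldX (n m : ℕ) : MvPolynomial (Fin n) R →ₐ[R] MvPolynomial (Fin (n + m)) R :=
  rename (Fin.castAdd m)

/-- The equations `f = π z`. -/
noncomputable def liftEq (j : Fin m) : MvPolynomial (Fin (n + m)) R :=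
  oldX n m (f j) - C π * X (Fin.natAdd n j)

/-- The relation coming from a syzygy `∑ aⱼ fⱼ = π² b`. -/
noncomputable def syzRel (a : Fin m → MvPolynomial (Fin n) R) (b : MvPolynomial (Fin n) R) :
    MvPolynomial (Fin (n + m)) R :=
  ∑ j, oldX n m (a j) * X (Fin.natAdd n j) - C π * oldX n m b

/-- All relations of the lifting. -/
noncomputable def liftIdeal : Ideal (MvPolynomial (Fin (n + m)) R) :=
  Ideal.span (Set.range (liftEq π f) ∪ {w | ∃ a b, ∑ j, a j * f j = C (π ^ 2) * b ∧ w = syzRel π a b})

theorem liftEq_mem (j : Fin m) : liftEq π f j ∈ liftIdeal π f := Ideal.subset_span (Or.inl ⟨j, rfl⟩)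

theorem syzRel_mem {a : Fin m → MvPolynomial (Fin n) R} {b : MvPolynomial (Fin n) R}
    (h : ∑ j, a j * f j = C (π ^ 2) * b) : syzRel π a b ∈ liftIdeal π f := Ideal.subset_span (Or.inr ⟨a, b, h, rfl⟩)

theorem pi_mul_syzRel {a : Fin m → MvPolynomial (Fin n) R} {b : MvPolynomial (Fin n) R}
    (h : ∑ j, a j * f j = C (π ^ 2) * b) :
    C π * syzRel π a b = -∑ j, oldX n m (a j) * liftEq π f j := by
  have h' : ∑ j, oldX n m (a j) * oldX n m (f j) = C (π ^ 2) * oldX n m b := by
    simp only [← map_mul, ← map_sum, h]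
    simp [oldX]
  simp only [syzRel, liftEq, mul_sub, Finset.sum_sub_distrib, neg_sub, h', C_pow, Finset.mul_sum]
  rw [sub_eq_sub_iff_add_eq_add]
  congr 1
  · exact Finset.sum_congr rfl fun j _ => by ring
  · ring

/-- After inverting `π` only the equations `f = π z` remain. -/
theorem pi_mul_mem (w : MvPolynomial (Fin (n + m)) R) (hw : w ∈ liftIdeal π f) :
    C π * w ∈ Ideal.span (Set.range (liftEq π f)) := by
  induction hw using Submodule.span_induction with
  | mem w hw =>
    rcases hw with ⟨j, rfl⟩ | ⟨a, b, h, rfl⟩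
    · exact Ideal.mul_mem_left _ _ (Ideal.subset_span ⟨j, rfl⟩)
    · rw [pi_mul_syzRel π f h]
      exact neg_mem (sum_mem fun j _ => Ideal.mul_mem_left _ _ (Ideal.subset_span ⟨j, rfl⟩))
  | zero => simp
  | add x y _ _ hx hy => rw [mul_add]; exact add_mem hx hy
  | smul c x _ hx => rw [smul_eq_mul, mul_left_comm]; exact Ideal.mul_mem_left _ _ hx

theorem pderiv_oldX (k : Fin n) (p : MvPolynomial (Fin n) R) :
    pderiv (Fin.castAdd m k) (oldX n m p) = oldX n m (pderiv k p) :=
  pderiv_rename (Fin.castAdd_injective n m) k p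

theorem pderiv_natAdd_oldX (l : Fin m) (p : MvPolynomial (Fin n) R) :
    pderiv (Fin.natAdd n l) (oldX n m p) = 0 := by
  induction p using MvPolynomial.induction_on with
  | C a => simp [oldX]
  | add p q hp hq => rw [map_add, map_add, hp, hq, add_zero]
  | mul_X p i hp =>
    have hne : Fin.castAdd m i ≠ Fin.natAdd n l := fun h => by
      have := congrArg Fin.val h
      simp at this
      omega
    rw [map_mul, show oldX n m (X i : MvPolynomial (Fin n) R) = X (Fin.castAdd m i) from rename_X _ _,
      pderiv_mul, hp, pderiv_X_of_ne hne]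
    simp

theorem pderiv_natAdd_X (k : Fin n) (l : Fin m) :
    pderiv (Fin.castAdd m k) (X (Fin.natAdd n l) : MvPolynomial (Fin (n + m)) R) = 0 :=
  pderiv_X_of_ne fun h => by
    have := congrArg Fin.val h
    simp at this
    omega

theorem pderiv_liftEq_old (k : Fin n) (j : Fin m) :
    pderiv (Fin.castAdd m k) (liftEq π f j) = oldX n m (pderiv k (f j)) := by
  rw [liftEq, map_sub, pderiv_oldX, pderiv_mul, pderiv_C, pderiv_natAdd_X, zero_mul, mul_zero, add_zero, sub_zero]

theorem pderiv_liftEq_new (l j : Fin m) :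
    pderiv (Fin.natAdd n l) (liftEq π f j) = if j = l then -C π else 0 := by
  rw [liftEq, map_sub, pderiv_natAdd_oldX, pderiv_mul, pderiv_C, zero_mul, zero_add, zero_sub]
  by_cases h : j = l
  · subst h; simp
  · rw [if_neg h, pderiv_X_of_ne ((Fin.natAdd_injective m n).ne h)]; simp

/-- The lifting is smooth where `π` is invertible. -/
theorem isSmoothAt_liftIdeal_of_notMem [IsNoetherianRing R] {D : Type u} [CommRing D] [Algebra R D]
    (φ : MvPolynomial (Fin (n + m)) R →ₐ[R] D) (hφ : Function.Surjective φ)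
    (hker : RingHom.ker φ = liftIdeal π f) (Q : Ideal D) [Q.IsPrime] (hQ : algebraMap R D π ∉ Q) :
    Algebra.IsSmoothAt R Q := by
  classical
  obtain ⟨p, G, hG⟩ := Submodule.fg_iff_exists_fin_generating_family.mp
    (IsNoetherian.noetherian (liftIdeal π f))
  let rel : Fin (m + p) → MvPolynomial (Fin (n + m)) R := Fin.append (liftEq π f) G
  have hrel : RingHom.ker φ = Ideal.span (Set.range rel) := by
    rw [hker]
    refine le_antisymm ?_ (Ideal.span_le.mpr ?_)
    · rw [← hG]
      exact Ideal.span_mono (by rintro _ ⟨i, rfl⟩; exact ⟨Fin.natAdd m i, Fin.append_right ..⟩)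
    · rintro _ ⟨i, rfl⟩
      induction i using Fin.addCases with
      | left i => rw [show rel (Fin.castAdd p i) = _ from Fin.append_left ..]; exact liftEq_mem π f i
      | right i => rw [show rel (Fin.natAdd m i) = _ from Fin.append_right ..]; exact hG ▸ Submodule.subset_span ⟨i, rfl⟩
  let rows : Fin m ↪ Fin (m + p) := ⟨Fin.castAdd p, Fin.castAdd_injective _ _⟩
  let cols : Fin m ↪ Fin (n + m) := ⟨Fin.natAdd n, Fin.natAdd_injective _ _⟩
  have hrows : rel ∘ rows = liftEq π f := funext fun i => Fin.append_left ..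
  have hminor : Smoothing.jacobianMinor rel rows cols = (-C π) ^ m := by
    rw [Smoothing.jacobianMinor, show (Matrix.of fun j k : Fin m => pderiv (cols k) (rel (rows j))) =
        Matrix.diagonal fun _ => -C π from Matrix.ext fun j k => by
      rw [Matrix.of_apply, show rel (rows j) = liftEq π f j from congrFun hrows j, Matrix.diagonal_apply]
      exact pderiv_liftEq_new π f k j]
    simp
  have hπ : φ (C π) = algebraMap R D π := φ.commutes π
  refine isSmoothAt_of_minor rel φ hφ hrel rows cols (C π) (fun j => Ideal.mem_sup_left ?_) Q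
    (hπ ▸ hQ) (fun h => ?_)
  · rw [hrows]
    exact pi_mul_mem π f _ (hker ▸ hrel ▸ Ideal.subset_span ⟨j, rfl⟩)
  · rw [hminor, map_pow, map_neg, hπ] at h
    exact hQ (neg_mem_iff.mp (Ideal.IsPrime.mem_of_pow_mem inferInstance _ h))

/-- The lifting is smooth over smooth points of the reduction. -/
theorem isSmoothAt_liftIdeal_of_minor [IsNoetherianRing R] (hR : ∀ r : R, π ^ 2 * r = 0 → π * r = 0)
    {c : ℕ} (rows : Fin c ↪ Fin m) (cols : Fin c ↪ Fin n) (r : MvPolynomial (Fin n) R)
    (hr : ∀ j, r * f j ∈ Ideal.span (Set.range (f ∘ rows)) ⊔ Ideal.span {C (π ^ 2)})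
    {D : Type u} [CommRing D] [Algebra R D]
    (φ : MvPolynomial (Fin (n + m)) R →ₐ[R] D) (hφ : Function.Surjective φ)
    (hker : RingHom.ker φ = liftIdeal π f) (Q : Ideal D) [Q.IsPrime]
    (hrQ : φ (oldX n m r) ∉ Q) (hμQ : φ (oldX n m (Smoothing.jacobianMinor f rows cols)) ∉ Q) :
    Algebra.IsSmoothAt R Q := by
  classical
  let P' := MvPolynomial (Fin (n + m)) R
  let ι : MvPolynomial (Fin n) R →ₐ[R] P' := oldX n m
  let z : Fin m → P' := fun j => X (Fin.natAdd n j)
  -- coefficients
  have hab : ∀ j, ∃ (a : Fin c → MvPolynomial (Fin n) R) (b : MvPolynomial (Fin n) R),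
      r * f j = ∑ i, a i * f (rows i) + C (π ^ 2) * b ∧ (∀ i, j = rows i → a = Pi.single i r ∧ b = 0) := by
    intro j
    by_cases hj : ∃ i, j = rows i
    · obtain ⟨i, rfl⟩ := hj
      refine ⟨Pi.single i r, 0, by simp [Pi.single_apply, Finset.sum_ite_eq'], fun i' h => ?_⟩
      rw [rows.injective h]
      exact ⟨rfl, rfl⟩
    · obtain ⟨u, hu, v, hv, huv⟩ := Submodule.mem_sup.mp (hr j)
      obtain ⟨a, ha⟩ := Ideal.mem_span_range_iff_exists_fun.mp hu
      obtain ⟨b, hb⟩ := Ideal.mem_span_singleton'.mp hv
      exact ⟨a, b, by rw [← huv, ← ha, ← hb, mul_comm b]; rfl, fun i h => absurd ⟨i, h⟩ hj⟩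
  choose a b hab habrow using hab
  let W : Fin m → P' := fun j =>
    syzRel π (fun l => (if l = j then r else 0) - ∑ i, if rows i = l then a j i else 0) (b j)
  have hsyz : ∀ j, ∑ l, ((if l = j then r else 0) - ∑ i, if rows i = l then a j i else 0) * f l =
      C (π ^ 2) * b j := fun j => by
    simp only [sub_mul, Finset.sum_sub_distrib, ite_mul, zero_mul, Finset.sum_ite_eq', Finset.mem_univ, if_true,
      Finset.sum_mul]
    rw [Finset.sum_comm]
    simp only [Finset.sum_ite_eq, Finset.mem_univ, if_true]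
    rw [hab]
    ring
  have hW : ∀ j, W j = ι r * z j - ∑ i, ι (a j i) * z (rows i) - C π * ι (b j) := fun j => by
    simp only [W, syzRel, ι, z, map_sub, map_sum, sub_mul, Finset.sum_sub_distrib, Finset.sum_mul, apply_ite (oldX n m),
      map_zero, ite_mul, zero_mul, Finset.sum_ite_eq', Finset.mem_univ, if_true]
    rw [Finset.sum_comm]
    simp only [Finset.sum_ite_eq, Finset.mem_univ, if_true]
  have hWrow : ∀ i, W (rows i) = 0 := fun i => by
    rw [hW, (habrow _ i rfl).1, (habrow _ i rfl).2]
    simp [Pi.single_apply, apply_ite ι, Finset.sum_ite_eq', ite_mul]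
  -- the square system
  let d := Fintype.card {j : Fin m // j ∉ Set.range rows}
  let compl : Fin d ↪ Fin m := (Fintype.equivFin _).symm.toEmbedding.trans (Function.Embedding.subtype _)
  have hcompl : ∀ l, compl l ∉ Set.range rows := fun l => ((Fintype.equivFin _).symm l).2
  have hcover : ∀ j, (∃ i, rows i = j) ∨ ∃ l, compl l = j := fun j => by
    by_cases hj : j ∈ Set.range rows
    · exact Or.inl hj
    · exact Or.inr ⟨Fintype.equivFin _ ⟨j, hj⟩, by simp [compl]⟩
  let V : Fin (c + d) → P' := Fin.append (fun i => liftEq π f (rows i)) (fun l => W (compl l))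
  let vcols : Fin (c + d) ↪ Fin (n + m) := ⟨Fin.append (fun i => Fin.castAdd m (cols i)) (fun l => Fin.natAdd n (compl l)), by
    rw [Fin.append_injective_iff]
    refine ⟨(Fin.castAdd_injective n m).comp cols.injective, (Fin.natAdd_injective m n).comp compl.injective,
      fun i l h => ?_⟩
    have := congrArg Fin.val h
    simp at this
    omega⟩
  have hμ : Smoothing.jacobianMinor V id vcols = ι (Smoothing.jacobianMinor f rows cols) * ι r ^ d := by
    rw [Smoothing.jacobianMinor, Smoothing.jacobianMinor]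
    rw [← Matrix.det_reindex_self finSumFinEquiv.symm]
    rw [show Matrix.reindex finSumFinEquiv.symm finSumFinEquiv.symm
        (Matrix.of fun j k : Fin (c + d) => pderiv (vcols k) (V (id j))) =
      Matrix.fromBlocks (ι.toRingHom.mapMatrix (Matrix.of fun j k : Fin c => pderiv (cols k) (f (rows j)))) 0
        (Matrix.of fun l i => pderiv (Fin.castAdd m (cols i)) (W (compl l))) (Matrix.diagonal fun _ => ι r) from ?_]
    · rw [Matrix.det_fromBlocks_zero₁₂, ← RingHom.map_det, Matrix.det_diagonal]
      simp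
    · refine Matrix.ext fun j k => ?_
      rcases j with j | j <;> rcases k with k | k <;>
        simp only [Matrix.reindex_apply, Equiv.symm_symm, Matrix.submatrix_apply, Matrix.of_apply, id,
          finSumFinEquiv_apply_left, finSumFinEquiv_apply_right, Matrix.fromBlocks_apply₁₁,
          Matrix.fromBlocks_apply₁₂, Matrix.fromBlocks_apply₂₁, Matrix.fromBlocks_apply₂₂, V, vcols,
          Function.Embedding.coeFn_mk, Fin.append_left, Fin.append_right, Matrix.zero_apply, RingHom.mapMatrix_apply,
          Matrix.map_apply]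
      · exact pderiv_liftEq_old π f _ _
      · rw [pderiv_liftEq_new, if_neg fun h => hcompl k ⟨j, h⟩]
      · have hd : ∀ q u, pderiv (Fin.natAdd n (compl k)) (ι u * z q) = if q = compl k then ι u else 0 := fun q u => by
          rw [pderiv_mul, show pderiv (Fin.natAdd n (compl k)) (ι u) = 0 from pderiv_natAdd_oldX _ u, zero_mul, zero_add]
          by_cases hq : q = compl k
          · subst hq; simp [z]
          · rw [if_neg hq, show pderiv (Fin.natAdd n (compl k)) (z q) = 0 from
              pderiv_X_of_ne ((Fin.natAdd_injective m n).ne hq), mul_zero]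
        have hC : ∀ u, pderiv (Fin.natAdd n (compl k)) (C π * ι u) = 0 := fun u => by
          rw [pderiv_mul, pderiv_C, show pderiv (Fin.natAdd n (compl k)) (ι u) = 0 from pderiv_natAdd_oldX _ u,
            zero_mul, mul_zero, add_zero]
        rw [Matrix.diagonal_apply, hW, map_sub, map_sub, map_sum, hC, hd,
          Finset.sum_eq_zero fun i _ => (hd _ _).trans (if_neg fun h => hcompl k ⟨i, h⟩), sub_zero, sub_zero]
        exact if_congr compl.injective.eq_iff rfl rfl
  -- the smooth algebra cut out by the square system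
  let E₀ := P' ⧸ Ideal.span (Set.range V)
  let φ₀ : P' →ₐ[R] E₀ := Ideal.Quotient.mkₐ R _
  have hsm := smooth_away_of_minor V φ₀ (Ideal.Quotient.mkₐ_surjective R _) (Ideal.Quotient.mkₐ_ker R _)
    (Function.Embedding.refl _) vcols (ι r) fun j => Ideal.mem_sup_left (Ideal.mul_mem_left _ _
      (Ideal.subset_span ⟨j, rfl⟩))
  let h₀ : E₀ := φ₀ (ι r) * φ₀ (Smoothing.jacobianMinor V (Function.Embedding.refl _) vcols)
  let E := Localization.Away h₀
  haveI : Algebra.Smooth R E := hsm
  let σ : P' →ₐ[R] E := (IsScalarTower.toAlgHom R E₀ E).comp φ₀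
  have hu : IsUnit (algebraMap E₀ E h₀) := IsLocalization.Away.algebraMap_isUnit h₀
  have hur : IsUnit (σ (ι r)) :=
    isUnit_of_dvd_unit (⟨_, map_mul (algebraMap E₀ E) _ _⟩ : σ (ι r) ∣ algebraMap E₀ E h₀) hu
  have huμ : IsUnit (σ (ι (Smoothing.jacobianMinor f rows cols))) := by
    refine isUnit_of_dvd_unit ?_ hu
    refine ⟨σ (ι r) * σ (ι r) ^ d, ?_⟩
    show algebraMap E₀ E (φ₀ (ι r) * φ₀ (Smoothing.jacobianMinor V id vcols)) = _
    rw [hμ]
    simp only [map_mul, map_pow, σ, AlgHom.comp_apply, IsScalarTower.coe_toAlgHom']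
    ring
  have hσV : ∀ j, σ (V j) = 0 := fun j => by
    show algebraMap E₀ E (Ideal.Quotient.mk _ (V j)) = 0
    rw [Ideal.Quotient.eq_zero_iff_mem.mpr (Ideal.subset_span ⟨j, rfl⟩ : V j ∈ Ideal.span (Set.range V)), map_zero]
  have hσrow : ∀ i, σ (liftEq π f (rows i)) = 0 := fun i => by
    have := hσV (Fin.castAdd d i)
    rwa [show V (Fin.castAdd d i) = _ from Fin.append_left ..] at this
  have hσW : ∀ j, σ (W j) = 0 := fun j => by
    rcases hcover j with ⟨i, rfl⟩ | ⟨l, rfl⟩
    · rw [hWrow, map_zero]
    · have := hσV (Fin.natAdd c l)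
      rwa [show V (Fin.natAdd c l) = _ from Fin.append_right ..] at this
  have hσC : ∀ x, σ (C x) = algebraMap R E x := fun x => σ.commutes x
  let p : E := algebraMap R E π
  have hσe : ∀ j, σ (liftEq π f j) = 0 := fun j => by
    refine hur.mul_right_eq_zero.mp ?_
    have h : ι r * liftEq π f j =
        ∑ i, ι (a j i) * liftEq π f (rows i) - C π * W j := by
      have h1 : ι r * ι (f j) = ∑ i, ι (a j i) * ι (f (rows i)) + C π ^ 2 * ι (b j) := by
        have := congrArg ι (hab j)
        simpa [ι, oldX] using this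
      rw [hW]
      simp only [liftEq, mul_sub, Finset.sum_sub_distrib, Finset.mul_sum, ι, z]
      rw [h1]
      have e : ∑ i, ι (a j i) * (C π * z (rows i)) = ∑ i, C π * (ι (a j i) * z (rows i)) :=
        Finset.sum_congr rfl fun i _ => by ring
      simp only [ι, z] at e h1 ⊢
      rw [e]
      ring
    rw [← map_mul, h, map_sub, map_sum, map_mul, hσW, mul_zero, sub_zero]
    exact Finset.sum_eq_zero fun i _ => by rw [map_mul, hσrow, mul_zero]
  -- every relation vanishes there
  have hσL : ∀ w ∈ liftIdeal π f, σ w = 0 := fun w hw => by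
    refine (Ideal.span_le.mpr ?_ : liftIdeal π f ≤ RingHom.ker σ.toRingHom) hw
    rintro _ (⟨j, rfl⟩ | ⟨α, β, hαβ, rfl⟩)
    · exact hσe j
    show σ (syzRel π α β) = 0
    refine hur.mul_right_eq_zero.mp ?_
    let A' : Fin c → MvPolynomial (Fin n) R := fun i => ∑ j, α j * a j i
    let B' : MvPolynomial (Fin n) R := r * β - ∑ j, α j * b j
    have hAB : ∑ i, A' i * f (rows i) = C (π ^ 2) * B' := by
      have h1 : ∑ j, α j * (r * f j) = r * (C (π ^ 2) * β) := by
        rw [← hαβ, Finset.mul_sum]
        exact Finset.sum_congr rfl fun j _ => by ring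
      simp only [hab, mul_add, Finset.sum_add_distrib, Finset.mul_sum] at h1
      rw [Finset.sum_comm] at h1
      simp only [A', B', Finset.sum_mul, mul_sub, Finset.mul_sum]
      rw [show r * (C (π ^ 2) * β) = C (π ^ 2) * (r * β) by ring] at h1
      rw [← h1, Finset.sum_congr rfl fun i _ => Finset.sum_congr rfl fun j _ => mul_assoc (α j) (a j i) _]
      rw [Finset.sum_congr rfl fun j _ => show C (π ^ 2) * (α j * b j) = α j * (C (π ^ 2) * b j) by ring]
      ring
    have hsyzσ : σ (ι r * syzRel π α β) = ∑ i, σ (ι (A' i)) * σ (z (rows i)) - p * σ (ι B') := by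
      have h1 : ι r * syzRel π α β = ∑ j, ι (α j) * W j + ∑ i, ι (A' i) * z (rows i) - C π * ι B' := by
        have e1 : ∑ i, ι (A' i) * z (rows i) = ∑ j, ι (α j) * ∑ i, ι (a j i) * z (rows i) := by
          rw [Finset.sum_congr (g := fun j => ∑ i, ι (α j) * (ι (a j i) * z (rows i))) rfl fun j _ => Finset.mul_sum _ _ _,
            Finset.sum_comm]
          refine Finset.sum_congr rfl fun i _ => ?_
          rw [show A' i = ∑ j, α j * a j i from rfl, map_sum, Finset.sum_mul]
          exact Finset.sum_congr rfl fun j _ => by rw [map_mul, mul_assoc]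
        have e2 : ι B' = ι r * ι β - ∑ j, ι (α j) * ι (b j) := by
          simp only [B', map_sub, map_sum, map_mul]
        have e3 : ∑ j, ι (α j) * W j = ι r * ∑ j, ι (α j) * z j - ∑ j, ι (α j) * ∑ i, ι (a j i) * z (rows i) -
            C π * ∑ j, ι (α j) * ι (b j) := by
          simp only [hW, mul_sub, Finset.sum_sub_distrib]
          congr 1
          · congr 1
            rw [Finset.mul_sum]
            exact Finset.sum_congr rfl fun j _ => by ring
          · rw [Finset.mul_sum]
            exact Finset.sum_congr rfl fun j _ => by ring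
        rw [e1, e2, e3, show syzRel π α β = ∑ j, ι (α j) * z j - C π * ι β from rfl]
        ring
      rw [h1]
      simp only [map_sub, map_add, map_sum, map_mul, hσW, mul_zero, Finset.sum_const_zero, zero_add, hσC, p]
    have hdiv : ∀ i, ∃ e, σ (ι (A' i)) = p * e := fun i => by
      let J : Matrix (Fin c) (Fin c) E := Matrix.of fun i k => σ (ι (pderiv (cols k) (f (rows i))))
      have hJu : IsUnit J := by
        rw [Matrix.isUnit_iff_isUnit_det, show J.det = σ (ι (Smoothing.jacobianMinor f rows cols)) by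
          rw [Smoothing.jacobianMinor, AlgHom.map_det, AlgHom.map_det]; rfl]
        exact huμ
      have hfrow : ∀ i, σ (ι (f (rows i))) = p * σ (z (rows i)) := fun i => by
        have := hσrow i
        rwa [liftEq, map_sub, map_mul, hσC, sub_eq_zero] at this
      let v : Fin c → E := fun k => p * σ (ι (pderiv (cols k) B')) * p -
        ∑ i, σ (ι (pderiv (cols k) (A' i))) * (p * σ (z (rows i)))
      have hv : Matrix.vecMul (fun i => σ (ι (A' i))) J = v := by
        funext k
        have h2 := congrArg (fun x => σ (ι (pderiv (cols k) x))) hAB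
        simp only [map_sum, pderiv_mul, pderiv_C, zero_mul, zero_add, map_add, map_mul, Finset.sum_add_distrib,
          hfrow] at h2
        rw [show σ (ι (C (π ^ 2))) = p * p by rw [show ι (C (π ^ 2)) = C (π ^ 2) from rename_C _ _, hσC, map_pow, pow_two]] at h2
        simp only [Matrix.vecMul, dotProduct, J, Matrix.of_apply, v]
        rw [eq_sub_iff_add_eq']
        rw [h2]
        ring
      obtain ⟨J', hJ'⟩ := hJu.exists_right_inv
      have hA : (fun i => σ (ι (A' i))) = Matrix.vecMul v J' := by
        rw [← hv, Matrix.vecMul_vecMul, hJ', Matrix.vecMul_one]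
      refine ⟨∑ k, (σ (ι (pderiv (cols k) B')) * p -
        ∑ i, σ (ι (pderiv (cols k) (A' i))) * σ (z (rows i))) * J' k i, ?_⟩
      rw [congrFun hA i, Finset.mul_sum]
      simp only [Matrix.vecMul, dotProduct]
      refine Finset.sum_congr rfl fun k _ => ?_
      simp only [v, Finset.mul_sum, sub_mul, mul_sub, Finset.sum_mul]
      congr 1
      · ring
      · rw [← mul_assoc p, Finset.mul_sum]
        congr 1
        exact Finset.sum_congr rfl fun _ _ => by ring
    choose e he using hdiv
    let ε : E := ∑ i, e i * σ (z (rows i)) - σ (ι B')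
    have hε : σ (ι r * syzRel π α β) = p * ε := by
      rw [hsyzσ]
      simp only [he, ε, mul_sub, mul_assoc]
      rw [← Finset.mul_sum]
    have hzero : (π ^ 2 : R) • ε = 0 := by
      rw [Algebra.smul_def, map_pow, pow_two, mul_assoc, ← hε, ← hσC, ← map_mul, mul_left_comm, map_mul,
        pi_mul_syzRel π f hαβ]
      simp [hσe]
    have hfl := smul_eq_zero_of_flat (M := E) hR ε hzero
    rw [Algebra.smul_def] at hfl
    rw [← map_mul, hε]
    exact hfl
  -- descend to a power of the inverted element
  obtain ⟨q, G, hG⟩ := Submodule.fg_iff_exists_fin_generating_family.mp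
    (IsNoetherian.noetherian (liftIdeal π f))
  have hG0 : ∀ i, ∃ k : ℕ, h₀ ^ k * φ₀ (G i) = 0 := fun i => by
    have h1 : algebraMap E₀ E (φ₀ (G i)) = 0 := hσL _ (hG ▸ Submodule.subset_span ⟨i, rfl⟩)
    obtain ⟨⟨_, k, rfl⟩, hk⟩ := (IsLocalization.map_eq_zero_iff (Submonoid.powers h₀) E _).mp h1
    exact ⟨k, hk⟩
  choose k hk using hG0
  let ρ : P' := (ι r * (ι (Smoothing.jacobianMinor f rows cols) * ι r ^ d)) ^ (∑ i, k i)
  have hρ : ∀ i, ρ * G i ∈ Ideal.span (Set.range V) := fun i => by
    rw [← Ideal.Quotient.eq_zero_iff_mem]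
    show φ₀ (ρ * G i) = 0
    obtain ⟨l, hl⟩ := Nat.exists_eq_add_of_le (Finset.single_le_sum (fun j _ => Nat.zero_le (k j)) (Finset.mem_univ i))
    have : φ₀ ρ = h₀ ^ (k i) * h₀ ^ l := by
      rw [← pow_add, ← hl]
      simp only [ρ, h₀, map_pow, map_mul]
      congr 2
      rw [show (Smoothing.jacobianMinor V (Function.Embedding.refl _) vcols) = _ from hμ, map_mul, map_pow]
    rw [map_mul, this, mul_right_comm, hk, zero_mul]
  let rel : Fin (c + d + q) → P' := Fin.append V G
  have hVL : ∀ j, V j ∈ liftIdeal π f := fun j => by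
    induction j using Fin.addCases with
    | left i => rw [show V (Fin.castAdd d i) = _ from Fin.append_left ..]; exact liftEq_mem π f _
    | right l => rw [show V (Fin.natAdd c l) = _ from Fin.append_right ..]; exact syzRel_mem π f (hsyz _)
  have hrel : RingHom.ker φ = Ideal.span (Set.range rel) := by
    rw [hker]
    refine le_antisymm ?_ (Ideal.span_le.mpr ?_)
    · rw [← hG]
      exact Ideal.span_mono (by rintro _ ⟨i, rfl⟩; exact ⟨Fin.natAdd _ i, Fin.append_right ..⟩)
    · rintro _ ⟨i, rfl⟩
      induction i using Fin.addCases with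
      | left i => rw [show rel (Fin.castAdd q i) = _ from Fin.append_left ..]; exact hVL i
      | right i => rw [show rel (Fin.natAdd _ i) = _ from Fin.append_right ..]; exact hG ▸ Submodule.subset_span ⟨i, rfl⟩
  let vrows : Fin (c + d) ↪ Fin (c + d + q) := ⟨Fin.castAdd q, Fin.castAdd_injective _ _⟩
  have hvrows : rel ∘ vrows = V := funext fun i => Fin.append_left ..
  refine isSmoothAt_of_minor rel φ hφ hrel vrows vcols ρ (fun j => Ideal.mem_sup_left ?_) Q (fun h => ?_) (fun h => ?_)
  · rw [hvrows]
    induction j using Fin.addCases with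
    | left i =>
      rw [show rel (Fin.castAdd q i) = _ from Fin.append_left ..]
      exact Ideal.mul_mem_left _ _ (Ideal.subset_span ⟨i, rfl⟩)
    | right i => rw [show rel (Fin.natAdd _ i) = _ from Fin.append_right ..]; exact hρ i
  · simp only [ρ, map_pow, map_mul] at h
    rcases Ideal.IsPrime.mem_or_mem inferInstance (Ideal.IsPrime.mem_of_pow_mem inferInstance _ h) with h | h
    · exact hrQ h
    · exact (Ideal.IsPrime.mem_or_mem inferInstance h).elim hμQ fun h => hrQ (Ideal.IsPrime.mem_of_pow_mem inferInstance _ h)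
  · have hm : Smoothing.jacobianMinor rel vrows vcols = Smoothing.jacobianMinor V id vcols := by
      simp only [Smoothing.jacobianMinor, show ∀ j, rel (vrows j) = V j from congrFun hvrows, id]
    rw [hm, hμ, map_mul, map_pow] at h
    exact (Ideal.IsPrime.mem_or_mem inferInstance h).elim hμQ fun h => hrQ (Ideal.IsPrime.mem_of_pow_mem inferInstance _ h)

end Groth.Agent.H9Popescu
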