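import Groth.Agent.H9Popescu.SeparableModel

/-!
# The standard model with a natural map to the universal model
-/

set_option linter.style.haveILetI false

universe u

open MvPolynomial

namespace Groth.Agent.H9Popescu

variable {k A : Type u} [CommRing k] [CommRing A] [Algebra k A]

/-- Ring maps out of the universal model are determined by the coefficients and variables. -/
theorem modelAlg_hom_ext {Λ : Type u} [CommRing Λ] (n d : ℕ) {s : ℕ} (a : Fin s → A)
    {f g : ModelAlg n d a →+* Λ}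
    (hA : ∀ x, f (algebraMap A (ModelAlg n d a) x) = g (algebraMap A (ModelAlg n d a) x))
    (hx : ∀ i, f (Ideal.Quotient.mk _ (X (Sum.inl i))) = g (Ideal.Quotient.mk _ (X (Sum.inl i))))
    (hz : ∀ ij, f (Ideal.Quotient.mk _ (X (Sum.inr ij))) = g (Ideal.Quotient.mk _ (X (Sum.inr ij)))) : f = g := by
  refine Ideal.Quotient.ringHom_ext (MvPolynomial.ringHom_ext hA fun o => ?_)
  rcases o with i | ij
  · exact hx i
  · exact hz ij

/-- The evaluation of the universal model at a solution. -/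
theorem exists_modelEval {Λ : Type u} [CommRing Λ] (n d : ℕ) {s : ℕ} (a : Fin s → A) (φ : A →+* Λ)
    (π : Fin d → Λ) (lam : Fin d → Fin s → Λ) (h : ∀ i, π i ^ n = ∑ j, lam i j * φ (a j)) :
    ∃ ψ : ModelAlg n d a →+* Λ, (∀ x, ψ (algebraMap A (ModelAlg n d a) x) = φ x) ∧
      (∀ i, ψ (Ideal.Quotient.mk _ (X (Sum.inl i))) = π i) ∧
      ∀ i j, ψ (Ideal.Quotient.mk _ (X (Sum.inr (i, j)))) = lam i j := by
  let e : ModelPoly A d s →+* Λ := eval₂Hom φ (Sum.elim π fun ij => lam ij.1 ij.2)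
  refine ⟨Ideal.Quotient.lift _ e fun x hx => ?_, fun x => eval₂Hom_C _ _ x, fun i => eval₂Hom_X' _ _ _,
    fun i j => eval₂Hom_X' _ _ _⟩
  refine (Ideal.span_le.mpr ?_ : Ideal.span (Set.range (modelRel n d a)) ≤ RingHom.ker e) hx
  rintro _ ⟨i, rfl⟩
  simp only [SetLike.mem_coe, RingHom.mem_ker, modelRel, e, map_sub, map_pow, map_sum, map_mul, eval₂Hom_C,
    eval₂Hom_X', Sum.elim_inl, Sum.elim_inr, h, sub_eq_zero]
  exact Finset.sum_congr rfl fun j _ => mul_comm _ _

/-- The standard model maps to the universal model. -/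
theorem exists_standard_model_to_universal [IsNoetherianRing k] [Algebra.FinitePresentation k A] (n d : ℕ)
    (hn : 0 < n) {s : ℕ} (a : Fin s → A) (ha : ∀ j, a j ∈ Smoothing.singularIdeal k A) :
    ∃ (M : ℕ) (B : Type u) (_ : CommRing B) (_ : Algebra (MvPolynomial (Fin d) k) B) (_ : Algebra k B)
      (_ : IsScalarTower k (MvPolynomial (Fin d) k) B),
      0 < M ∧ Algebra.FinitePresentation (MvPolynomial (Fin d) k) B ∧
      (∀ i, Smoothing.IsStrictlyStandard (MvPolynomial (Fin d) k) B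
        (algebraMap (MvPolynomial (Fin d) k) B (X i ^ M))) ∧
      ∃ γ : A →ₐ[k] B, (∀ j, γ (a j) ∈ Smoothing.singularIdeal (MvPolynomial (Fin d) k) B) ∧
        ∃ ρ : B →+* ModelAlg n d a,
          (∀ p, ρ (algebraMap (MvPolynomial (Fin d) k) B p) = modelStruct n d a p) ∧
          ∀ x, ρ (γ x) = algebraMap A (ModelAlg n d a) x := by
  obtain ⟨M, B, i₁, i₂, i₃, i₄, hM, hfp, hstd, γ, hγ, hspec⟩ := exists_standard_model (k := k) n d hn a ha
  obtain ⟨ρ, hρ₁, hρ₂⟩ := hspec (ModelAlg n d a) (IsScalarTower.toAlgHom k A (ModelAlg n d a))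
    (fun i => Ideal.Quotient.mk _ (X (Sum.inl i))) (fun i j => Ideal.Quotient.mk _ (X (Sum.inr (i, j))))
    fun i => by
      have h0 : Ideal.Quotient.mk (Ideal.span (Set.range (modelRel n d a))) (modelRel n d a i) = 0 :=
        Ideal.Quotient.eq_zero_iff_mem.mpr (Ideal.subset_span ⟨i, rfl⟩)
      simp only [modelRel, map_sub, map_pow, map_sum, map_mul, sub_eq_zero] at h0
      rw [h0]
      exact Finset.sum_congr rfl fun j _ => mul_comm _ _
  exact ⟨M, B, i₁, i₂, i₃, i₄, hM, hfp, hstd, γ, hγ, ρ, hρ₁, hρ₂⟩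

end Groth.Agent.H9Popescu
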