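import Groth.Agent.H9Popescu.CotangentInd
import Groth.Agent.H4Depth.Regular
import Groth.Agent.S5776
import Mathlib.RingTheory.Polynomial.Basic

/-!
# Regular parameters from a polynomial model
-/

set_option autoImplicit false
set_option linter.style.haveILetI false

universe u

open IsLocalRing

namespace Groth.Agent.H9Popescu

/-- Powers of a parameter cancel modulo powers of the earlier ones. -/
theorem cancel_pow_of_regular {L : Type u} [CommRing L] [IsRegularLocalRing L] {d : ℕ} (hd : ringKrullDim L = d)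
    (x : Fin d → L) (hx : Ideal.span (Set.range x) = maximalIdeal L) (e : ℕ) (he : 0 < e) (l : Fin d) (m : ℕ) (y : L)
    (hy : x l ^ m * y ∈ Ideal.span (Set.range fun j : {j : Fin d // (j : ℕ) < (l : ℕ)} => x j ^ e)) :
    y ∈ Ideal.span (Set.range fun j : {j : Fin d // (j : ℕ) < (l : ℕ)} => x j ^ e) := by
  have hreg : RingTheory.Sequence.IsWeaklyRegular L (List.ofFn x) :=
    (H4Depth.isRegular_ofFn_of_span_eq d hd x hx).toIsWeaklyRegular
  have hone : ∀ y, x l * y ∈ Ideal.span (Set.range fun j : {j : Fin d // (j : ℕ) < (l : ℕ)} => x j ^ e) →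
      y ∈ Ideal.span (Set.range fun j : {j : Fin d // (j : ℕ) < (l : ℕ)} => x j ^ e) := by
    intro y hy
    let v : Fin d → ℕ := fun j => if (j : ℕ) < (l : ℕ) then e else 1
    have h1 := S5776.result L L d x v (fun j => by
      show 1 ≤ if (j : ℕ) < (l : ℕ) then e else 1
      split_ifs <;> omega) hreg
    have h2 := h1.regular_mod_prev l (by simp)
    have htake : (Ideal.ofList ((List.ofFn fun i => x i ^ v i).take l) • ⊤ : Submodule L L) =
        Ideal.span (Set.range fun j : {j : Fin d // (j : ℕ) < (l : ℕ)} => x j ^ e) := by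
      rw [smul_eq_mul, Ideal.mul_top]
      refine congrArg Ideal.span (Set.ext fun y => ?_)
      show y ∈ (List.ofFn fun i => x i ^ v i).take l ↔ _
      rw [List.mem_take_iff_getElem]
      constructor
      · rintro ⟨i, hi, rfl⟩
        simp only [List.length_ofFn, lt_min_iff] at hi
        refine ⟨⟨⟨i, hi.2⟩, hi.1⟩, ?_⟩
        rw [List.getElem_ofFn]
        show x _ ^ e = x _ ^ (if _ then e else 1)
        rw [if_pos hi.1]
      · rintro ⟨⟨j, hj⟩, rfl⟩
        refine ⟨j, by simpa using hj, ?_⟩
        rw [List.getElem_ofFn]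
        show x j ^ (if (j : ℕ) < (l : ℕ) then e else 1) = _
        rw [if_pos hj]
    have h3 := (isSMulRegular_quotient_iff_mem_of_smul_mem _ _).mp h2 y
    rw [htake] at h3
    refine h3 ?_
    simpa [v] using hy
  induction m with
  | zero => rwa [pow_zero, one_mul] at hy
  | succ m ih =>
    refine ih (hone _ ?_)
    rwa [← mul_assoc, ← pow_succ']

/-- Torsion vanishing locally is killed by a single element. -/
theorem exists_killer {S : Type u} [CommRing S] [IsNoetherianRing S] (p : Ideal S) [p.IsPrime] {d : ℕ}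
    (w : Fin d → S) (e m : ℕ) (he : 0 < e)
    (P : Type u) [CommRing P] [Algebra S P] [IsLocalization.AtPrime P p] [IsRegularLocalRing P]
    (hd : ringKrullDim P = d)
    (hw : Ideal.span (Set.range fun l => algebraMap S P (w l)) = maximalIdeal P) :
    ∃ s ∈ p.primeCompl, ∀ l : Fin d, ∀ x,
      w l ^ m * x ∈ Ideal.span (Set.range fun j : {j : Fin d // (j : ℕ) < (l : ℕ)} => w j ^ e) →
        s * x ∈ Ideal.span (Set.range fun j : {j : Fin d // (j : ℕ) < (l : ℕ)} => w j ^ e) := by
  classical
  let J : Fin d → Ideal S := fun l => Ideal.span (Set.range fun j : {j : Fin d // (j : ℕ) < (l : ℕ)} => w j ^ e)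
  let C : Fin d → Ideal S := fun l => Submodule.comap (LinearMap.mulLeft S (w l ^ m)) (J l)
  have hloc : ∀ l, ∀ x ∈ C l, ∃ s ∈ p.primeCompl, s * x ∈ J l := fun l x hx => by
    have hmap : (J l).map (algebraMap S P) =
        Ideal.span (Set.range fun j : {j : Fin d // (j : ℕ) < (l : ℕ)} => algebraMap S P (w j) ^ e) := by
      rw [Ideal.map_span, ← Set.range_comp]
      simp only [Function.comp_def, map_pow]
    have h : algebraMap S P x ∈ (J l).map (algebraMap S P) := by
      rw [hmap]
      refine cancel_pow_of_regular hd (fun j => algebraMap S P (w j)) hw e he l m _ ?_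
      rw [← hmap, ← map_pow, ← map_mul]
      exact Ideal.mem_map_of_mem _ hx
    exact (IsLocalization.algebraMap_mem_map_algebraMap_iff p.primeCompl P _ _).1 h
  have hC : ∀ l, ∃ s ∈ p.primeCompl, ∀ x ∈ C l, s * x ∈ J l := fun l => by
    obtain ⟨G, hG⟩ := (IsNoetherian.noetherian (C l) : (C l).FG)
    choose s hs hsG using fun g : G => hloc l g (hG ▸ Ideal.subset_span g.2)
    refine ⟨∏ g, s g, prod_mem fun g _ => hs g, fun x hx => ?_⟩
    rw [← hG] at hx
    refine Submodule.span_induction (fun y hy => ?_) ?_ (fun y z _ _ hy hz => ?_) (fun a y _ hy => ?_) hx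
    · rw [Fintype.prod_eq_mul_prod_compl ⟨y, hy⟩, mul_comm (s ⟨y, hy⟩), mul_assoc]
      exact Ideal.mul_mem_left _ _ (hsG ⟨y, hy⟩)
    · rw [mul_zero]; exact zero_mem _
    · rw [mul_add]; exact add_mem hy hz
    · rw [smul_eq_mul, mul_left_comm]; exact Ideal.mul_mem_left _ _ hy
  choose s hs hsC using hC
  refine ⟨∏ l, s l, prod_mem fun l _ => hs l, fun l x hx => ?_⟩
  rw [Fintype.prod_eq_mul_prod_compl l, mul_comm (s l), mul_assoc]
  exact Ideal.mul_mem_left _ _ (hsC l x hx)

/-- Killers pass to polynomial rings. -/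
theorem killer_polynomial {S : Type u} [CommRing S] (s a : S) (J : Ideal S) (h : ∀ x, a * x ∈ J → s * x ∈ J)
    (f : Polynomial S) (hf : Polynomial.C a * f ∈ J.map Polynomial.C) : Polynomial.C s * f ∈ J.map Polynomial.C := by
  rw [Ideal.mem_map_C_iff] at hf ⊢
  intro n
  rw [Polynomial.coeff_C_mul]
  refine h _ ?_
  rw [← Polynomial.coeff_C_mul]
  exact hf n

/-- Substituting zero changes a polynomial by a multiple of the variables. -/
theorem sub_rename_mem {k σ τ : Type u} [CommRing k] (f : MvPolynomial (σ ⊕ τ) k) :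
    f - MvPolynomial.rename Sum.inl (MvPolynomial.aeval (Sum.elim (MvPolynomial.X (R := k) (σ := σ)) 0) f) ∈
      Ideal.span (Set.range fun t => MvPolynomial.X (R := k) (σ := σ ⊕ τ) (Sum.inr t)) := by
  rw [← Ideal.Quotient.eq]
  refine DFunLike.congr_fun (?_ : Ideal.Quotient.mkₐ k _ = (Ideal.Quotient.mkₐ k _).comp
    ((MvPolynomial.rename Sum.inl).comp (MvPolynomial.aeval (Sum.elim MvPolynomial.X 0)))) f
  refine MvPolynomial.algHom_ext fun i => ?_
  rcases i with i | i
  · simp
  · simp only [AlgHom.comp_apply, MvPolynomial.aeval_X, Sum.elim_inr, Pi.zero_apply, map_zero]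
    exact Ideal.Quotient.eq_zero_iff_mem.2 (Ideal.subset_span ⟨i, rfl⟩)

set_option maxHeartbeats 1600000 in
/-- A polynomial model extended to one with regular parameters. -/
theorem exists_polynomial_model {k L : Type u} [Field k] {q : ℕ} [Fact q.Prime] [CharP k q] [CommRing L]
    [IsRegularLocalRing L] [Algebra k L] {d : ℕ} (hd : ringKrullDim L = d)
    (hext : ∀ D : Derivation ℤ k (ResidueField L), ∃ E : Derivation ℤ L (ResidueField L),
      ∀ t, E (algebraMap k L t) = D t)
    {σ : Type u} [Finite σ] (y : σ → L)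
    (hpd : ∀ f ∈ (maximalIdeal L).comap (MvPolynomial.aeval (R := k) y), ∀ i,
      MvPolynomial.pderiv i f ∈ (maximalIdeal L).comap (MvPolynomial.aeval (R := k) y))
    {ι : Type u} (μ : ι → L) (hμ : Ideal.span (Set.range μ) = maximalIdeal L) :
    ∃ (τ : Type u) (_ : Finite τ) (x : τ → ι) (w : Fin d → MvPolynomial (σ ⊕ τ) k),
      Ideal.span (Set.range fun l => MvPolynomial.aeval (Sum.elim y (μ ∘ x)) (w l)) = maximalIdeal L ∧
      ringKrullDim (Localization.AtPrime ((maximalIdeal L).comap
        (MvPolynomial.aeval (R := k) (Sum.elim y (μ ∘ x))))) = d ∧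
      Ideal.span (Set.range fun l => algebraMap _ (Localization.AtPrime ((maximalIdeal L).comap
        (MvPolynomial.aeval (R := k) (Sum.elim y (μ ∘ x))))) (w l)) =
        maximalIdeal (Localization.AtPrime ((maximalIdeal L).comap
          (MvPolynomial.aeval (R := k) (Sum.elim y (μ ∘ x))))) := by
  classical
  obtain ⟨r, γ, hγm, ⟨s, hs, hsγ⟩, hγind⟩ := exists_cotangent_independent (q := q) hext (MvPolynomial.aeval y) hpd
  let κ := ResidueField L
  have hμm : ∀ i, μ i ∈ maximalIdeal L := fun i => hμ ▸ Ideal.subset_span ⟨i, rfl⟩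
  let V : Fin r ⊕ ι → CotangentSpace L := fun o => (maximalIdeal L).toCotangent
    (Sum.elim (fun l => (⟨_, hγm l⟩ : maximalIdeal L)) (fun i => ⟨μ i, hμm i⟩) o)
  have hli : LinearIndepOn κ V (Set.range Sum.inl) := by
    refine linearIndepOn_range_iff Sum.inl_injective (f := fun l : Fin r => (Sum.inl l : Fin r ⊕ ι)) V |>.2 ?_
    rw [Fintype.linearIndependent_iff]
    intro c hc l
    choose C hC using fun l => residue_surjective (c l)
    have h0 : (maximalIdeal L).toCotangent (∑ l, C l • (⟨_, hγm l⟩ : maximalIdeal L)) = 0 := by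
      rw [← hc, map_sum]
      refine Finset.sum_congr rfl fun l _ => ?_
      rw [map_smul, ← hC l]
      exact (IsScalarTower.algebraMap_smul (ResidueField L) (C l) _).symm
    rw [Ideal.toCotangent_eq_zero] at h0
    rw [← hC l, residue_eq_zero_iff]
    refine hγind C ?_ l
    simpa [Submodule.coe_sum] using h0
  obtain ⟨b, -, hlb, hbspan, hbli⟩ := exists_linearIndepOn_extension hli (Set.subset_univ _)
  have hVspan : Submodule.span κ (V '' b) = ⊤ := by
    have hμc : Submodule.span κ ((maximalIdeal L).toCotangent '' Set.range (fun i => (⟨μ i, hμm i⟩ : maximalIdeal L))) = ⊤ := by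
      rw [CotangentSpace.span_image_eq_top_iff]
      refine Submodule.map_injective_of_injective (maximalIdeal L).subtype_injective ?_
      rw [Submodule.map_span, Submodule.map_top, Submodule.range_subtype, ← Set.range_comp]
      exact hμ
    refine eq_top_iff.2 (hμc.ge.trans (Submodule.span_le.2 ?_))
    rintro _ ⟨_, ⟨i, rfl⟩, rfl⟩
    exact hbspan ⟨Sum.inr i, Set.mem_univ _, rfl⟩
  haveI : Finite b := (hbli.linearIndependent).finite
  letI : Fintype b := Fintype.ofFinite b
  have hspan' : Submodule.span κ (Set.range fun o : b => V o) = ⊤ := by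
    rw [← hVspan, Set.image_eq_range]
  have hcard : Fintype.card b = d := by
    have h1 := finrank_span_eq_card hbli.linearIndependent
    rw [hspan', finrank_top] at h1
    have h2 := (IsRegularLocalRing.iff_finrank_cotangentSpace (R := L)).1 inferInstance
    rw [h1, hd] at h2
    exact_mod_cast h2
  let e := (Fintype.equivFinOfCardEq hcard).symm
  let τ₀ := {i : ι // Sum.inr i ∈ b}
  haveI : Finite τ₀ := Finite.of_injective (fun i : τ₀ => (⟨_, i.2⟩ : b)) fun i j h =>
    Subtype.ext (Sum.inr_injective (congrArg Subtype.val h))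
  let x : τ₀ → ι := Subtype.val
  let w₀ : (o : Fin r ⊕ ι) → o ∈ b → MvPolynomial (σ ⊕ τ₀) k := fun o => match o with
    | Sum.inl l => fun _ => MvPolynomial.rename Sum.inl (γ l)
    | Sum.inr i => fun h => MvPolynomial.X (Sum.inr ⟨i, h⟩)
  let w : Fin d → MvPolynomial (σ ⊕ τ₀) k := fun l => w₀ (e l).1 (e l).2
  let ev := MvPolynomial.aeval (R := k) (Sum.elim y (μ ∘ x))
  have hevinl : ∀ f, ev (MvPolynomial.rename Sum.inl f) = MvPolynomial.aeval y f := fun f => by
    rw [MvPolynomial.aeval_rename, Sum.elim_comp_inl]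
  have hwV : ∀ (o : Fin r ⊕ ι) (ho : o ∈ b), ∃ h : ev (w₀ o ho) ∈ maximalIdeal L,
      (maximalIdeal L).toCotangent ⟨_, h⟩ = V o := by
    rintro (l | i) ho
    · exact ⟨(hevinl _).symm ▸ hγm l, congrArg (maximalIdeal L).toCotangent (Subtype.ext (hevinl _))⟩
    · have h : ev (MvPolynomial.X (Sum.inr ⟨i, ho⟩)) = μ i := MvPolynomial.aeval_X _ _
      exact ⟨h.symm ▸ hμm i, congrArg (maximalIdeal L).toCotangent (Subtype.ext h)⟩
  choose hwm hwV using fun l => hwV (e l).1 (e l).2
  let z : Fin d → maximalIdeal L := fun l => ⟨ev (w l), hwm l⟩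
  have hzV : (fun l => (maximalIdeal L).toCotangent (z l)) = fun l => V (e l) := funext hwV
  have hspanL : Ideal.span (Set.range fun l => ev (w l)) = maximalIdeal L := by
    have h : Submodule.span L (Set.range z) = ⊤ := by
      rw [← CotangentSpace.span_image_eq_top_iff, ← hspan', ← Set.range_comp]
      show Submodule.span κ (Set.range fun l => (maximalIdeal L).toCotangent (z l)) = _
      rw [hzV]
      exact congrArg _ (e.surjective.range_comp fun o : b => V o)
    have h' := congrArg (Submodule.map (maximalIdeal L).subtype) h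
    rw [Submodule.map_span, Submodule.map_top, Submodule.range_subtype, ← Set.range_comp] at h'
    exact h'
  refine ⟨τ₀, inferInstance, x, w, hspanL, ?_⟩
  let p := (maximalIdeal L).comap ev
  let P := Localization.AtPrime p
  have hunit : ∀ s : p.primeCompl, IsUnit (ev s) := fun s => notMem_maximalIdeal.1 s.2
  let j : P →+* L := IsLocalization.lift (g := ev.toRingHom) hunit
  have hj : ∀ f, j (algebraMap _ P f) = ev f := fun f => IsLocalization.lift_eq _ f
  -- generation
  have hgenP : Ideal.span (Set.range fun l => algebraMap _ P (w l)) = maximalIdeal P := by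
    refine le_antisymm (Ideal.span_le.2 ?_) ?_
    · rintro _ ⟨l, rfl⟩
      exact (IsLocalization.AtPrime.to_map_mem_maximal_iff P p _).2 (hwm l)
    rw [← Localization.AtPrime.map_eq_maximalIdeal, Ideal.map_le_iff_le_comap]
    intro f hf
    let f₀ := MvPolynomial.aeval (R := k) (Sum.elim (MvPolynomial.X (R := k) (σ := σ)) (0 : τ₀ → MvPolynomial σ k)) f
    let W := Ideal.span (Set.range fun l => algebraMap _ P (w l))
    have hwW : ∀ (o : Fin r ⊕ ι) (ho : o ∈ b), algebraMap _ P (w₀ o ho) ∈ W := fun o ho => by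
      refine Ideal.subset_span ⟨e.symm ⟨o, ho⟩, ?_⟩
      show algebraMap _ P (w₀ (e (e.symm ⟨o, ho⟩)).1 _) = _
      congr 1
      have : e (e.symm ⟨o, ho⟩) = ⟨o, ho⟩ := e.apply_symm_apply _
      exact (congrArg (fun o' : b => w₀ o'.1 o'.2) this)
    have h1 : algebraMap _ P (f - MvPolynomial.rename Sum.inl f₀) ∈ W := by
      refine (Ideal.map_le_iff_le_comap.2 ?_) (Ideal.mem_map_of_mem _ (sub_rename_mem f))
      rw [Ideal.span_le]
      rintro _ ⟨t, rfl⟩
      exact hwW (Sum.inr t.1) t.2
    have h2 : ev (f - MvPolynomial.rename Sum.inl f₀) ∈ maximalIdeal L := by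
      have h := sub_rename_mem (k := k) (σ := σ) (τ := τ₀) f
      refine (Ideal.span_le.2 ?_ : _ ≤ (maximalIdeal L).comap ev) h
      rintro _ ⟨t, rfl⟩
      show ev (MvPolynomial.X (Sum.inr t)) ∈ maximalIdeal L
      rw [MvPolynomial.aeval_X]
      exact hμm _
    have h3 : MvPolynomial.aeval y f₀ ∈ maximalIdeal L := by
      rw [← hevinl]
      rw [map_sub] at h2
      have := sub_mem (show ev f ∈ maximalIdeal L from hf) h2
      rwa [sub_sub_cancel] at this
    have h4 : algebraMap _ P (MvPolynomial.rename (R := k) (Sum.inl : σ → σ ⊕ τ₀) s * MvPolynomial.rename (R := k) (Sum.inl : σ → σ ⊕ τ₀) f₀) ∈ W := by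
      rw [← map_mul (MvPolynomial.rename (R := k) (Sum.inl : σ → σ ⊕ τ₀))]
      refine (Ideal.span_le.2 ?_ : Ideal.span (Set.range γ) ≤
        W.comap ((algebraMap _ P).comp (MvPolynomial.rename (R := k) (Sum.inl : σ → σ ⊕ τ₀)).toRingHom)) (hsγ f₀ h3)
      rintro _ ⟨l, rfl⟩
      exact hwW (Sum.inl l) (hlb ⟨l, rfl⟩)
    have hsu : IsUnit (algebraMap _ P (MvPolynomial.rename (R := k) (Sum.inl : σ → σ ⊕ τ₀) s)) :=
      IsLocalization.map_units P (⟨_, show MvPolynomial.rename (R := k) (Sum.inl : σ → σ ⊕ τ₀) s ∈ p.primeCompl from fun h => hs (by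
        have h' : ev (MvPolynomial.rename (R := k) (Sum.inl : σ → σ ⊕ τ₀) s) ∈ maximalIdeal L := h
        rwa [hevinl] at h')⟩ : p.primeCompl)
    rw [map_mul] at h4
    have h5 := (Ideal.unit_mul_mem_iff_mem W hsu).1 h4
    show algebraMap _ P f ∈ W
    rw [map_sub] at h1
    simpa using add_mem h1 h5
  -- dimension
  haveI : IsNoetherianRing P := IsLocalization.isNoetherianRing p.primeCompl _ inferInstance
  haveI : IsRegularLocalRing P := IsRegularRing.isRegularLocalRing_localization p
  refine ⟨?_, hgenP⟩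
  let zP : Fin d → maximalIdeal P := fun l =>
    ⟨algebraMap _ P (w l), hgenP ▸ Ideal.subset_span ⟨l, rfl⟩⟩
  have hPspan : Submodule.span (ResidueField P) (Set.range fun l => (maximalIdeal P).toCotangent (zP l)) = ⊤ := by
    rw [Set.range_comp' (maximalIdeal P).toCotangent zP, CotangentSpace.span_image_eq_top_iff]
    refine Submodule.map_injective_of_injective (maximalIdeal P).subtype_injective ?_
    rw [Submodule.map_span, Submodule.map_top, Submodule.range_subtype, ← Set.range_comp]
    exact hgenP
  have hPli : LinearIndependent (ResidueField P) fun l => (maximalIdeal P).toCotangent (zP l) := by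
    rw [Fintype.linearIndependent_iff]
    intro c hc l
    choose C hC using fun l => residue_surjective (c l)
    have h0 : (maximalIdeal P).toCotangent (∑ l, C l • zP l) = 0 := by
      rw [← hc, map_sum]
      refine Finset.sum_congr rfl fun l _ => ?_
      rw [map_smul, ← hC l]
      exact (IsScalarTower.algebraMap_smul (ResidueField P) (C l) _).symm
    rw [Ideal.toCotangent_eq_zero] at h0
    have hjm : ∀ a ∈ maximalIdeal P, j a ∈ maximalIdeal L := fun a ha => by
      obtain ⟨f, t, rfl⟩ := IsLocalization.exists_mk'_eq p.primeCompl a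
      have hf : f ∈ p := (IsLocalization.AtPrime.mk'_mem_maximal_iff P p f t).1 ha
      have hspec := congrArg j (IsLocalization.mk'_spec P f t)
      rw [map_mul, hj, hj] at hspec
      exact (Ideal.mul_unit_mem_iff_mem _ (hunit t)).1 (hspec ▸ hf)
    have h1 : ∑ l, j (C l) * ev (w l) ∈ maximalIdeal L ^ 2 := by
      have h2 := Ideal.mem_map_of_mem j h0
      rw [Ideal.map_pow] at h2
      have h3 := Ideal.pow_right_mono (Ideal.map_le_iff_le_comap.2 hjm : (maximalIdeal P).map j ≤ maximalIdeal L) 2 h2
      simpa [Submodule.coe_sum, map_sum, hj, zP] using h3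
    rw [← hC l, residue_eq_zero_iff]
    by_contra hCl
    have hu : IsUnit (j (C l)) := (notMem_maximalIdeal.1 hCl).map j
    have hzli : LinearIndependent κ fun l => (maximalIdeal L).toCotangent (z l) := by
      rw [hzV]
      exact hbli.linearIndependent.comp e e.injective
    have h4 := Fintype.linearIndependent_iff.1 hzli (fun l => residue L (j (C l))) (by
      have h5 : (maximalIdeal L).toCotangent (∑ l, j (C l) • z l) = 0 := by
        rw [Ideal.toCotangent_eq_zero]
        simpa [Submodule.coe_sum, z] using h1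
      rw [← h5, map_sum]
      exact Finset.sum_congr rfl fun l _ => by rw [map_smul]; exact IsScalarTower.algebraMap_smul κ _ _) l
    exact (hu.map (residue L)).ne_zero h4
  have h1 := finrank_span_eq_card hPli
  rw [hPspan, finrank_top, Fintype.card_fin] at h1
  have h2 := (IsRegularLocalRing.iff_finrank_cotangentSpace (R := P)).1 inferInstance
  rw [h1] at h2
  exact h2.symm

end Groth.Agent.H9Popescu
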