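import Groth.Agent.H9Popescu.ArtinianModelProps
import Groth.Agent.H9Popescu.Imperfection
import Groth.Agent.H9Popescu.PolyParameters
import Groth.Agent.H9Popescu.ModelMap
import Groth.Agent.H8Props.FlatUnramified
import Groth.Agent.H7Flat.FibreCriterion
import Groth.Agent.S5777
import Mathlib.RingTheory.Smooth.Locus

/-!
# A smooth model of the thickened local ring, inseparable residue field
-/

set_option autoImplicit false
set_option linter.style.haveILetI false

universe u

open IsLocalRing TensorProduct

namespace Groth.Agent.H9Popescu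

/-- A map from a finitely presented algebra to a local formally smooth algebra factors through a smooth one. -/
theorem exists_smooth_factor_formallySmooth {R L C : Type u} [CommRing R] [IsNoetherianRing R] [CommRing L]
    [IsLocalRing L] [Algebra R L] [Algebra.EssFiniteType R L] [Algebra.FormallySmooth R L] [CommRing C]
    [Algebra R C] [Algebra.FiniteType R C] (u : C →ₐ[R] L) :
    ∃ (D : Type u) (_ : CommRing D) (_ : Algebra R D), Algebra.Smooth R D ∧
      ∃ (g : C →ₐ[R] D) (h : D →ₐ[R] L), h.comp g = u := by
  classical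
  obtain ⟨σ, hσ⟩ := (Algebra.essFiniteType_iff (R := R) (S := L)).1 inferInstance
  obtain ⟨G₀, hG₀⟩ := (Algebra.FiniteType.out : (⊤ : Subalgebra R C).FG)
  let G := Algebra.adjoin R ((σ ∪ G₀.image u : Finset L) : Set L)
  have hσG : Algebra.adjoin R (σ : Set L) ≤ G := Algebra.adjoin_mono (by simp)
  haveI : Algebra.FiniteType R G := ⟨(Subalgebra.fg_top _).2 ⟨_, rfl⟩⟩
  haveI : Algebra.FinitePresentation R G := Algebra.FinitePresentation.of_finiteType.1 inferInstance
  let P : Ideal G := (maximalIdeal L).comap (algebraMap G L)
  haveI : IsLocalization.AtPrime L P :=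
    { map_units := fun y => notMem_maximalIdeal.1 y.2
      surj := fun z => by
        obtain ⟨t, ht, htu, hzt⟩ := hσ z
        exact ⟨(⟨_, hσG hzt⟩, ⟨⟨t, hσG ht⟩, fun h => (notMem_maximalIdeal.2 htu) h⟩), rfl⟩
      exists_of_eq := fun {x y} h => ⟨1, by rw [Subtype.ext h]⟩ }
  have hsm : Algebra.IsSmoothAt R P :=
    Algebra.FormallySmooth.of_equiv ((IsLocalization.algEquiv P.primeCompl L (Localization.AtPrime P)).restrictScalars R)
  haveI := hsm
  obtain ⟨f, hf, hfs⟩ := Algebra.IsSmoothAt.exists_notMem_smooth R P
  have huG : ∀ c, u c ∈ G := fun c => by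
    have hc : c ∈ Algebra.adjoin R (G₀ : Set C) := hG₀ ▸ Algebra.mem_top
    have h : (Algebra.adjoin R (G₀ : Set C)).map u ≤ G := by
      rw [AlgHom.map_adjoin]
      exact Algebra.adjoin_mono (by simp)
    exact h ⟨c, hc, rfl⟩
  let h : Localization.Away f →ₐ[R] L :=
    IsLocalization.liftAlgHom (M := Submonoid.powers f) (f := IsScalarTower.toAlgHom R G L) fun y => by
      obtain ⟨i, hi⟩ := y.2
      rw [show (y : G) = f ^ i from hi.symm, map_pow]
      exact (notMem_maximalIdeal.1 hf).pow i
  refine ⟨Localization.Away f, inferInstance, inferInstance, hfs,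
    (IsScalarTower.toAlgHom R G (Localization.Away f)).comp (u.codRestrict G huG), h, AlgHom.ext fun c => ?_⟩
  show h (algebraMap G (Localization.Away f) ⟨u c, huG c⟩) = u c
  simp only [h, IsLocalization.coe_liftAlgHom, IsLocalization.lift_eq]
  rfl

/-- Regular local rings sharing parameters are flat. -/
theorem flat_of_common_parameters {P L : Type u} [CommRing P] [IsRegularLocalRing P] [CommRing L]
    [IsRegularLocalRing L] [Algebra P L] {d : ℕ} (hP : ringKrullDim P = d) (hL : ringKrullDim L = d) (x : Fin d → P)
    (hx : Ideal.span (Set.range x) = maximalIdeal P)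
    (hxL : Ideal.span (Set.range fun i => algebraMap P L (x i)) = maximalIdeal L) : Module.Flat P L := by
  haveI : IsLocalHom (algebraMap P L) := by
    refine ((IsLocalRing.local_hom_TFAE (algebraMap P L)).out 0 2).mpr ?_
    rw [← hx, Ideal.map_span, ← Set.range_comp]
    exact hxL.le
  let fs : List P := List.ofFn x
  have hmaxP : Ideal.ofList fs = maximalIdeal P := by
    rw [← hx]
    refine congrArg Ideal.span (Set.ext fun y => ?_)
    simp [fs]
  refine (S5777.result P L L fs (fun f hf => hmaxP ▸ Ideal.subset_span hf)
    (H4Depth.isRegular_ofFn_of_span_eq d hP x hx).toIsWeaklyRegular).mpr ⟨?_, ?_⟩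
  · letI : Field (P ⧸ Ideal.ofList fs) := @Ideal.Quotient.field P _ (Ideal.ofList fs) (hmaxP ▸ inferInstance)
    exact Module.Flat.of_free
  · rw [← RingTheory.Sequence.isWeaklyRegular_map_algebraMap_iff L L fs]
    rw [show fs.map (algebraMap P L) = List.ofFn fun i => algebraMap P L (x i) by
      simp only [fs, List.map_ofFn, Function.comp_def]]
    exact (H4Depth.isRegular_ofFn_of_span_eq d hL _ hxL).toIsWeaklyRegular

/-- Powers of a finitely generated ideal lie in the ideal of powers. -/
theorem span_pow_le_span_pows {S ι : Type u} [CommRing S] (x : ι → S) (e : ℕ) (s : Finset ι) :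
    Ideal.span (x '' ↑s) ^ (s.card * e + 1) ≤ Ideal.span ((fun i => x i ^ e) '' ↑s) := by
  classical
  induction s using Finset.induction with
  | empty => simp
  | insert i s hi ih =>
    rw [Finset.coe_insert, Set.image_insert_eq, Set.image_insert_eq, Ideal.span_insert, Ideal.span_insert,
      Finset.card_insert_of_notMem hi, show (s.card + 1) * e + 1 = e + (s.card * e + 1) by ring]
    refine Ideal.sup_pow_add_le_pow_sup_pow.trans (sup_le_sup ?_ ih)
    rw [Ideal.span_singleton_pow]

/-- The range version of `span_pow_le_span_pows`. -/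
theorem span_range_pow_le {S : Type u} [CommRing S] {d : ℕ} (x : Fin d → S) (e : ℕ) :
    Ideal.span (Set.range x) ^ (d * e + 1) ≤ Ideal.span (Set.range fun i => x i ^ e) := by
  have h := span_pow_le_span_pows (fun i : ULift.{u} (Fin d) => x i.down) e Finset.univ
  have h1 : ∀ g : Fin d → S, (fun i : ULift.{u} (Fin d) => g i.down) '' Set.univ = Set.range g := fun g => by
    rw [Set.image_univ]
    exact (ULift.down_surjective).range_comp g
  rwa [Finset.coe_univ, Finset.card_univ, Fintype.card_ulift, Fintype.card_fin, h1, h1 (fun i => x i ^ e)] at h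

/-- Evaluating a derivation on a polynomial expression. -/
theorem derivation_aeval {k K : Type u} [Field k] [CommRing K] [Algebra k K] {σ : Type u} [Fintype σ] {M : Type u}
    [AddCommGroup M] [Module k M] [Module K M] (δ : Derivation k K M) (y : σ → K) (f : MvPolynomial σ k) :
    δ (MvPolynomial.aeval y f) = ∑ i, MvPolynomial.aeval y (MvPolynomial.pderiv i f) • δ (y i) := by
  classical
  induction f using MvPolynomial.induction_on with
  | C c => simp
  | add f g hf hg => simp [hf, hg, add_smul, Finset.sum_add_distrib]
  | mul_X f j hf =>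
    simp only [map_mul, MvPolynomial.aeval_X, Derivation.leibniz, hf, smul_eq_mul, map_add, add_smul,
      Finset.sum_add_distrib, Finset.smul_sum, smul_smul]
    congr 1
    rw [Finset.sum_eq_single j]
    · simp
    · intro i _ hij
      simp [MvPolynomial.pderiv_X, Pi.single_eq_of_ne hij.symm]
    · exact fun h => absurd (Finset.mem_univ j) h

/-- The residue field of a fraction algebra is spanned by the differentials of the generators. -/
theorem span_D_residue_eq_top {k A₀ : Type u} [Field k] [CommRing A₀] [IsLocalRing A₀] [Algebra k A₀] (g : Set A₀)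
    (hg : ∀ x : A₀, ∃ t ∈ Algebra.adjoin k g, IsUnit t ∧ x * t ∈ Algebra.adjoin k g) :
    Submodule.span (ResidueField A₀)
      (Set.range fun i : g => KaehlerDifferential.D k (ResidueField A₀) (residue A₀ i)) = ⊤ := by
  let κ := ResidueField A₀
  let W := Submodule.span κ (Set.range fun i : g => KaehlerDifferential.D k κ (residue A₀ i))
  have hadj : ∀ x ∈ Algebra.adjoin k g, KaehlerDifferential.D k κ (residue A₀ x) ∈ W := fun x hx => by
    induction hx using Algebra.adjoin_induction with
    | mem x hx => exact Submodule.subset_span ⟨⟨x, hx⟩, rfl⟩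
    | algebraMap c =>
      rw [show residue A₀ (algebraMap k A₀ c) = algebraMap k κ c from rfl, Derivation.map_algebraMap]
      exact zero_mem _
    | add x y _ _ hx hy => rw [map_add, map_add]; exact add_mem hx hy
    | mul x y _ _ hx hy =>
      rw [map_mul, Derivation.leibniz]
      exact add_mem (W.smul_mem _ hy) (W.smul_mem _ hx)
  rw [eq_top_iff, ← KaehlerDifferential.span_range_derivation, Submodule.span_le]
  rintro _ ⟨x, rfl⟩
  obtain ⟨x, rfl⟩ := residue_surjective x
  obtain ⟨t, ht, htu, hxt⟩ := hg x
  have h := congrArg (KaehlerDifferential.D k κ) (map_mul (residue A₀) x t)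
  rw [Derivation.leibniz] at h
  have h1 : KaehlerDifferential.D k κ (residue A₀ x) = (residue A₀ t)⁻¹ • (KaehlerDifferential.D k κ
      (residue A₀ (x * t)) - residue A₀ x • KaehlerDifferential.D k κ (residue A₀ t)) := by
    rw [h, add_sub_cancel_left, inv_smul_smul₀ (htu.map (residue A₀)).ne_zero]
  rw [SetLike.mem_coe, h1]
  exact W.smul_mem _ (sub_mem (hadj _ hxt) (W.smul_mem _ (hadj _ ht)))

end Groth.Agent.H9Popescu
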