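import Groth.Agent.H4Depth.Regular
import Groth.Agent.S5776
import Mathlib.RingTheory.RegularLocalRing.Defs

/-!
# Parameters with stable annihilators
-/

set_option linter.style.haveILetI false

universe u

namespace Groth.Agent.H9Popescu

/-- Parameters of a regular local ring with a uniform exponent and stable annihilators. -/
theorem exists_parameters {Λ : Type u} [CommRing Λ] [IsNoetherianRing Λ] (I q : Ideal Λ)
    [q.IsPrime] (n e d : ℕ) (hn : 0 < n) (he : 0 < e)
    (hpow : (q ^ n).map (algebraMap Λ (Localization.AtPrime q)) ≤ I.map (algebraMap Λ (Localization.AtPrime q)))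
    [IsRegularLocalRing (Localization.AtPrime q)] (hd : ringKrullDim (Localization.AtPrime q) = d) :
    ∃ π : Fin d → Λ,
      Ideal.span (Set.range fun i => algebraMap Λ (Localization.AtPrime q) (π i)) =
        IsLocalRing.maximalIdeal (Localization.AtPrime q) ∧
      (∀ i, π i ^ n ∈ I) ∧
      ∀ i : Fin d, ∀ x : Λ, π i ^ 2 * x ∈ Ideal.span (Set.range fun j : {j : Fin d // (j : ℕ) < (i : ℕ)} => π j ^ e) →
        π i * x ∈ Ideal.span (Set.range fun j : {j : Fin d // (j : ℕ) < (i : ℕ)} => π j ^ e) := by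
  classical
  let L := Localization.AtPrime q
  have hmax : q.map (algebraMap Λ L) = IsLocalRing.maximalIdeal L := Localization.AtPrime.map_eq_maximalIdeal
  -- generators
  have hfin : Submodule.spanFinrank (IsLocalRing.maximalIdeal L) = d := by
    have h := (isRegularLocalRing_iff L).mp inferInstance
    rw [hd] at h
    exact_mod_cast h
  have hgen : ∃ f : Fin d → Λ, Ideal.span (Set.range fun i => algebraMap Λ L (f i)) = IsLocalRing.maximalIdeal L := by
    obtain ⟨s, hs, hspan⟩ := (IsNoetherian.noetherian (IsLocalRing.maximalIdeal L)).exists_span_set_encard_eq_spanFinrank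
    rw [hfin] at hs
    have hsfin : s.Finite := Set.finite_of_encard_eq_coe hs
    haveI := hsfin.fintype
    have hcard : Fintype.card s = d := by
      rw [← Set.toFinset_card, ← Set.ncard_eq_toFinset_card', Set.ncard_def, hs, ENat.toNat_coe]
    let eqv := (Fintype.equivFinOfCardEq hcard).symm
    choose fr hfr using fun i : Fin d => IsLocalization.surj q.primeCompl (eqv i : L)
    refine ⟨fun i => (fr i).1, le_antisymm ?_ ?_⟩
    · rw [Ideal.span_le]
      rintro _ ⟨i, rfl⟩
      show algebraMap Λ L (fr i).1 ∈ _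
      rw [← hfr i]
      exact Ideal.mul_mem_right _ _ (hspan ▸ Submodule.subset_span (eqv i).2)
    · conv_lhs => rw [← hspan]
      refine Submodule.span_le.mpr fun x hx => ?_
      obtain ⟨i, hi⟩ := eqv.surjective ⟨x, hx⟩
      obtain ⟨w, hw⟩ := IsLocalization.map_units L (fr i).2
      have hi' : (eqv i : L) = x := congrArg Subtype.val hi
      have hfr' := hfr i
      rw [hi', ← hw] at hfr'
      rw [SetLike.mem_coe, show x = algebraMap Λ L (fr i).1 * (↑w⁻¹ : L) from by
        rw [← hfr', mul_assoc, Units.mul_inv, mul_one]]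
      exact Ideal.mul_mem_right _ _ (Ideal.subset_span ⟨i, rfl⟩)
  obtain ⟨f, hf⟩ := hgen
  have hfq : ∀ i, f i ∈ q := fun i =>
    (IsLocalization.AtPrime.to_map_mem_maximal_iff L q _).mp (hf ▸ Ideal.subset_span ⟨i, rfl⟩)
  have hreg : RingTheory.Sequence.IsWeaklyRegular L (List.ofFn fun i => algebraMap Λ L (f i)) :=
    (H4Depth.isRegular_ofFn_of_span_eq d hd _ hf).toIsWeaklyRegular
  -- cancellation in the local ring
  have hcancel : ∀ (k : Fin d) (x : L),
      algebraMap Λ L (f k) * x ∈ Ideal.span (Set.range fun j : {j : Fin d // (j : ℕ) < (k : ℕ)} => algebraMap Λ L (f j) ^ e) →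
      x ∈ Ideal.span (Set.range fun j : {j : Fin d // (j : ℕ) < (k : ℕ)} => algebraMap Λ L (f j) ^ e) := by
    intro k x hx
    let v : Fin d → ℕ := fun j => if (j : ℕ) < (k : ℕ) then e else 1
    have h1 := S5776.result L L d (fun i => algebraMap Λ L (f i)) v (fun j => by
      show 1 ≤ if (j : ℕ) < (k : ℕ) then e else 1
      split_ifs <;> omega) hreg
    have h2 := h1.regular_mod_prev k (by simp)
    have htake : (Ideal.ofList ((List.ofFn fun i => algebraMap Λ L (f i) ^ v i).take k) • ⊤ : Submodule L L) =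
        Ideal.span (Set.range fun j : {j : Fin d // (j : ℕ) < (k : ℕ)} => algebraMap Λ L (f j) ^ e) := by
      rw [smul_eq_mul, Ideal.mul_top]
      refine congrArg Ideal.span (Set.ext fun y => ?_)
      show y ∈ (List.ofFn fun i => algebraMap Λ L (f i) ^ v i).take k ↔ _
      rw [List.mem_take_iff_getElem]
      constructor
      · rintro ⟨i, hi, rfl⟩
        simp only [List.length_ofFn, lt_min_iff] at hi
        refine ⟨⟨⟨i, hi.2⟩, hi.1⟩, ?_⟩
        rw [List.getElem_ofFn]
        show algebraMap Λ L (f _) ^ e = algebraMap Λ L (f _) ^ (if _ then e else 1)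
        rw [if_pos hi.1]
      · rintro ⟨⟨j, hj⟩, rfl⟩
        refine ⟨j, by simpa using hj, ?_⟩
        rw [List.getElem_ofFn]
        show algebraMap Λ L (f j) ^ (if (j : ℕ) < (k : ℕ) then e else 1) = _
        rw [if_pos hj]
    have h3 := (isSMulRegular_quotient_iff_mem_of_smul_mem _ _).mp h2 x
    rw [htake] at h3
    refine h3 ?_
    simpa [v] using hx
  -- the elements
  suffices ∀ k, k ≤ d → ∃ π : Fin d → Λ, ∀ j : Fin d, (j : ℕ) < k →
      (∃ c ∈ q.primeCompl, π j = c * f j) ∧ π j ^ n ∈ I ∧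
        ∀ x : Λ, π j ^ 2 * x ∈ Ideal.span (Set.range fun i : {i : Fin d // (i : ℕ) < (j : ℕ)} => π i ^ e) →
          π j * x ∈ Ideal.span (Set.range fun i : {i : Fin d // (i : ℕ) < (j : ℕ)} => π i ^ e) by
    obtain ⟨π, hπ⟩ := this d le_rfl
    refine ⟨π, ?_, fun i => (hπ i i.2).2.1, fun i x hx => (hπ i i.2).2.2 x hx⟩
    rw [← hf]
    refine le_antisymm (Ideal.span_le.mpr ?_) (Ideal.span_le.mpr ?_)
    · rintro _ ⟨j, rfl⟩
      obtain ⟨⟨c, hc, hjc⟩, -, -⟩ := hπ j j.2
      show algebraMap Λ L (π j) ∈ _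
      rw [hjc, map_mul]
      exact Ideal.mul_mem_left _ _ (Ideal.subset_span ⟨j, rfl⟩)
    · rintro _ ⟨j, rfl⟩
      obtain ⟨⟨c, hc, hjc⟩, -, -⟩ := hπ j j.2
      obtain ⟨w, hw⟩ := IsLocalization.map_units L (⟨c, hc⟩ : q.primeCompl)
      show algebraMap Λ L (f j) ∈ _
      rw [show algebraMap Λ L (f j) = (↑w⁻¹ : L) * algebraMap Λ L (π j) by
        rw [hjc, map_mul, ← hw, Units.inv_mul_cancel_left]]
      exact Ideal.mul_mem_left _ _ (Ideal.subset_span ⟨j, rfl⟩)
  intro k
  induction k with
  | zero => exact fun _ => ⟨fun _ => 0, fun j hj => absurd hj (Nat.not_lt_zero _)⟩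
  | succ k ih =>
    intro hk
    obtain ⟨π, hπ⟩ := ih (by omega)
    let kk : Fin d := ⟨k, by omega⟩
    let J := Ideal.span (Set.range fun i : {i : Fin d // (i : ℕ) < k} => π i ^ e)
    obtain ⟨t, ht, htI⟩ : ∃ t ∈ q.primeCompl, t * f kk ^ n ∈ I := by
      have hm : algebraMap Λ L (f kk ^ n) ∈ I.map (algebraMap Λ L) :=
        hpow (Ideal.mem_map_of_mem _ (Ideal.pow_mem_pow (hfq kk) n))
      obtain ⟨⟨⟨y, hy⟩, s⟩, hys⟩ := (IsLocalization.mem_map_algebraMap_iff q.primeCompl L).mp hm
      rw [← map_mul] at hys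
      obtain ⟨c, hc⟩ := (IsLocalization.eq_iff_exists q.primeCompl L).mp hys
      refine ⟨c * s, mul_mem c.2 s.2, ?_⟩
      rw [mul_assoc, mul_comm (s : Λ), hc]
      exact Ideal.mul_mem_left _ _ hy
    -- the saturation
    have hJ : J.map (algebraMap Λ L) =
        Ideal.span (Set.range fun j : {j : Fin d // (j : ℕ) < (kk : ℕ)} => algebraMap Λ L (f j) ^ e) := by
      rw [Ideal.map_span, ← Set.range_comp]
      refine le_antisymm (Ideal.span_le.mpr ?_) (Ideal.span_le.mpr ?_)
      · rintro _ ⟨j, rfl⟩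
        obtain ⟨⟨c, hc, hjc⟩, -, -⟩ := hπ j j.2
        show algebraMap Λ L (π j ^ e) ∈ _
        rw [hjc, mul_pow, map_mul, map_pow _ (f _)]
        exact Ideal.mul_mem_left _ _ (Ideal.subset_span ⟨j, rfl⟩)
      · rintro _ ⟨j, rfl⟩
        obtain ⟨⟨c, hc, hjc⟩, -, -⟩ := hπ j j.2
        obtain ⟨w, hw⟩ := IsLocalization.map_units L (⟨c, hc⟩ : q.primeCompl)
        show algebraMap Λ L (f j) ^ e ∈ _
        rw [show algebraMap Λ L (f j) ^ e = (↑w⁻¹ : L) ^ e * algebraMap Λ L (π j ^ e) by
          rw [hjc, map_pow, map_mul, ← hw, ← mul_pow, Units.inv_mul_cancel_left]]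
        exact Ideal.mul_mem_left _ _ (Ideal.subset_span ⟨j, rfl⟩)
    let T : Ideal Λ :=
      { carrier := {x | ∃ i, f kk ^ i * x ∈ J}
        add_mem' := fun {a b} ⟨i, hi⟩ ⟨i', hi'⟩ => ⟨i + i', by
          rw [mul_add, pow_add]
          refine add_mem ?_ ?_
          · rw [mul_comm (f kk ^ i), mul_assoc]; exact Ideal.mul_mem_left _ _ hi
          · rw [mul_assoc]; exact Ideal.mul_mem_left _ _ hi'⟩
        zero_mem' := ⟨0, by simp⟩
        smul_mem' := fun c a ⟨i, hi⟩ => ⟨i, by
          rw [smul_eq_mul, mul_left_comm]; exact Ideal.mul_mem_left _ _ hi⟩ }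
    have hkill : ∀ x ∈ T, ∃ c ∈ q.primeCompl, c * x ∈ J := by
      intro x hxT
      obtain ⟨i, hi⟩ := hxT
      have h1 := Ideal.mem_map_of_mem (algebraMap Λ L) hi
      rw [map_mul, map_pow, hJ] at h1
      have h2 : algebraMap Λ L x ∈
          Ideal.span (Set.range fun j : {j : Fin d // (j : ℕ) < (kk : ℕ)} => algebraMap Λ L (f j) ^ e) := by
        clear hi
        induction i with
        | zero => simpa using h1
        | succ i ihi =>
          refine ihi (hcancel kk _ ?_)
          rwa [← mul_assoc, ← pow_succ']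
      rw [← hJ] at h2
      obtain ⟨⟨⟨y, hy⟩, s⟩, hys⟩ := (IsLocalization.mem_map_algebraMap_iff q.primeCompl L).mp h2
      rw [← map_mul] at hys
      obtain ⟨c, hc⟩ := (IsLocalization.eq_iff_exists q.primeCompl L).mp hys
      refine ⟨c * s, mul_mem c.2 s.2, ?_⟩
      rw [mul_assoc, mul_comm (s : Λ), hc]
      exact Ideal.mul_mem_left _ _ hy
    obtain ⟨S, hS⟩ := IsNoetherian.noetherian T
    choose c hcq hcJ using fun x : S => hkill x (hS.le (Submodule.subset_span x.2))
    have hu : ∀ x ∈ T, (∏ y, c y) * x ∈ J := by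
      intro x hx
      have hx' : x ∈ Ideal.span (S : Set Λ) := hS.ge hx
      clear hx
      induction hx' using Submodule.span_induction with
      | mem y hy =>
        obtain ⟨l, hl⟩ := Finset.dvd_prod_of_mem c (Finset.mem_univ (⟨y, hy⟩ : S))
        rw [hl, mul_comm (c _) l, mul_assoc]
        exact Ideal.mul_mem_left _ _ (hcJ ⟨y, hy⟩)
      | zero => simp
      | add a b _ _ iha ihb => rw [mul_add]; exact add_mem iha ihb
      | smul r a _ iha => rw [smul_eq_mul, mul_left_comm]; exact Ideal.mul_mem_left _ _ iha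
    let v := t * ∏ y, c y
    have hv : v ∈ q.primeCompl := mul_mem ht (prod_mem fun y _ => hcq y)
    let chain : ℕ →o Ideal Λ :=
      { toFun := fun i =>
          { carrier := {x | v ^ i * x ∈ J}
            add_mem' := fun {a b} ha hb => show v ^ i * (a + b) ∈ J by rw [mul_add]; exact add_mem ha hb
            zero_mem' := show v ^ i * 0 ∈ J by simp
            smul_mem' := fun c a ha => show v ^ i * (c * a) ∈ J by
              rw [mul_left_comm]; exact Ideal.mul_mem_left _ _ ha }
        monotone' := monotone_nat_of_le_succ fun i x (hx : v ^ i * x ∈ J) => show v ^ (i + 1) * x ∈ J by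
          rw [pow_succ', mul_assoc]; exact Ideal.mul_mem_left _ _ hx }
    obtain ⟨K, hK⟩ := monotone_stabilizes_iff_noetherian.mpr (inferInstance : IsNoetherian Λ Λ) chain
    refine ⟨Function.update π kk (v ^ (K + 1) * f kk), fun j hj => ?_⟩
    have hupd : ∀ i : Fin d, (i : ℕ) < k → Function.update π kk (v ^ (K + 1) * f kk) i = π i := fun i hi =>
      Function.update_of_ne (fun h => by rw [h] at hi; exact lt_irrefl _ hi) _ _
    have hspan : ∀ l, l ≤ k → Ideal.span (Set.range fun i : {i : Fin d // (i : ℕ) < l} =>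
        Function.update π kk (v ^ (K + 1) * f kk) i ^ e) =
        Ideal.span (Set.range fun i : {i : Fin d // (i : ℕ) < l} => π i ^ e) := fun l hl => by
      refine congrArg Ideal.span (congrArg Set.range (funext fun i => ?_))
      rw [hupd i (lt_of_lt_of_le i.2 hl)]
    rcases Nat.lt_succ_iff_lt_or_eq.mp hj with hj | hj
    · rw [hspan _ hj.le, hupd j hj]
      exact hπ j hj
    · obtain rfl : j = kk := Fin.ext hj
      rw [hspan _ le_rfl, Function.update_self]
      refine ⟨⟨v ^ (K + 1), pow_mem hv _, rfl⟩, ?_, fun x hx => ?_⟩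
      · obtain ⟨n', rfl⟩ : ∃ n', n = n' + 1 := ⟨n - 1, by omega⟩
        rw [show (v ^ (K + 1) * f kk) ^ (n' + 1) =
          (v ^ (K + 1)) ^ n' * (v ^ K * ∏ y, c y) * (t * f kk ^ (n' + 1)) by
          simp only [v]; ring]
        exact Ideal.mul_mem_left _ _ htI
      · have hT : v ^ ((K + 1) + (K + 1)) * x ∈ T := ⟨2, by
          refine (congrArg (· ∈ J) ?_).mp hx
          ring⟩
        have h1 : x ∈ chain ((K + 1) + (K + 1) + 1) := by
          show v ^ _ * x ∈ J
          rw [show v ^ ((K + 1) + (K + 1) + 1) * x = t * ((∏ y, c y) * (v ^ ((K + 1) + (K + 1)) * x)) by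
            rw [pow_succ', show v = t * ∏ y, c y from rfl]; ring]
          exact Ideal.mul_mem_left _ _ (hu _ hT)
        rw [← hK _ (by omega), hK (K + 1) (by omega)] at h1
        have h2 : v ^ (K + 1) * x ∈ J := h1
        rw [mul_right_comm]
        exact Ideal.mul_mem_right _ _ h2
end Groth.Agent.H9Popescu
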