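import Mathlib.RingTheory.MvPowerSeries.Equiv
import Mathlib.RingTheory.AdicCompletion.RingHom
import Mathlib.RingTheory.UniqueFactorizationDomain.Basic
import Mathlib.RingTheory.UniqueFactorizationDomain.Finite
import Mathlib.RingTheory.Filtration

/-!
Evaluation of power series in adically complete rings, and a rigidity lemma for factorisations.
-/

set_option autoImplicit false
set_option linter.style.haveILetI false
universe u

open MvPowerSeries

namespace Groth.Agent.H9Popescu

/-- Power series can be evaluated at elements of the ideal of definition of a complete ring. -/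
theorem exists_eval_powerSeries {S : Type u} [CommRing S] (J : Ideal S) [IsAdicComplete J S]
    {σ : Type} [Finite σ] (t : σ → S) (ht : ∀ i, t i ∈ J) :
    ∃ e : MvPowerSeries σ S →+* S, (∀ i, e (X i) = t i) ∧ ∀ s, e (C s) = s := by
  let φ : MvPolynomial σ S →+* S := (MvPolynomial.aeval t).toRingHom
  have hφ : ∀ n, (MvPolynomial.idealOfVars σ S) ^ n ≤ ((J ^ n).comap φ) := fun n => by
    rw [← Ideal.map_le_iff_le_comap, Ideal.map_pow]
    refine Ideal.pow_right_mono ?_ n
    rw [MvPolynomial.idealOfVars, Ideal.map_span, Ideal.span_le]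
    rintro _ ⟨_, ⟨i, rfl⟩, rfl⟩
    simpa [φ] using ht i
  let f : (n : ℕ) → MvPowerSeries σ S →+* S ⧸ J ^ n := fun n =>
    (Ideal.quotientMap (J ^ n) φ (hφ n)).comp
      ((AdicCompletion.evalₐ (MvPolynomial.idealOfVars σ S) n).toRingHom.comp
        (toAdicCompletion σ S).toRingHom)
  have hf : ∀ {m n : ℕ} (hle : m ≤ n), (Ideal.Quotient.factorPow J hle).comp (f n) = f m := by
    intro m n hle
    refine RingHom.ext fun p => ?_
    obtain ⟨x, hx⟩ := AdicCompletion.mk_surjective (MvPolynomial.idealOfVars σ S) (MvPolynomial σ S)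
      (toAdicCompletion σ S p)
    simp only [f, RingHom.comp_apply, AlgHom.toRingHom_eq_coe, RingHom.coe_coe, ← hx,
      AdicCompletion.evalₐ_mk, Ideal.quotientMap_mk, Ideal.Quotient.factorPow, Ideal.Quotient.factor_mk]
    rw [Ideal.Quotient.eq, ← map_sub]
    refine hφ m (?_ : x.val n - x.val m ∈ _)
    exact Ideal.Quotient.eq.mp (AdicCompletion.Ideal.mk_eq_mk _ hle x)
  let e : MvPowerSeries σ S →+* S := IsAdicComplete.liftRingHom J f hf
  have key : ∀ p : MvPolynomial σ S, e (p : MvPowerSeries σ S) = φ p := fun p => by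
    refine sub_eq_zero.1 (IsHausdorff.haus (I := J) inferInstance _ fun n => ?_)
    rw [SModEq.zero, smul_eq_mul, Ideal.mul_top, ← Ideal.Quotient.eq_zero_iff_mem, map_sub,
      IsAdicComplete.mk_liftRingHom J f hf n]
    simp only [f, RingHom.comp_apply, AlgHom.toRingHom_eq_coe, RingHom.coe_coe]
    rw [toAdicCompletion_coe, AdicCompletion.evalₐ_of, Ideal.quotientMap_mk, sub_self]
  refine ⟨e, fun i => ?_, fun s => ?_⟩
  · rw [← MvPolynomial.coe_X, key]; exact MvPolynomial.aeval_X t i
  · rw [← MvPolynomial.coe_C, key]; exact MvPolynomial.aeval_C t s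

/-- A factor close enough to `t` of a fixed nonzero element divides `t`. -/
theorem exists_pow_forall_dvd {S : Type u} [CommRing S] [IsDomain S] [IsLocalRing S] [IsNoetherianRing S]
    [UniqueFactorizationMonoid S] {d : S} (hd : d ≠ 0) (t : S) :
    ∃ N : ℕ, ∀ a : S, a ∣ d → a - t ∈ IsLocalRing.maximalIdeal S ^ N → a ∣ t := by
  classical
  haveI : Fintype {y : Associates S // y ∣ Associates.mk d} :=
    UniqueFactorizationMonoid.fintypeSubtypeDvd (Associates.mk d) (Associates.mk_ne_zero.2 hd)
  have hN : ∀ y : {y : Associates S // y ∣ Associates.mk d}, ∃ N : ℕ, ∀ a : S, Associates.mk a = y.1 →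
      a - t ∈ IsLocalRing.maximalIdeal S ^ N → a ∣ t := by
    rintro ⟨y, hy⟩
    obtain ⟨c, rfl⟩ := Associates.mk_surjective y
    by_cases hc : c ∣ t
    · exact ⟨0, fun a ha _ => ((Associates.mk_eq_mk_iff_associated.1 ha).dvd).trans hc⟩
    by_cases hu : Ideal.span {c} = ⊤
    · exact absurd ((Ideal.span_singleton_eq_top.1 hu).dvd) hc
    obtain ⟨N, hN⟩ : ∃ N : ℕ, Ideal.Quotient.mk (Ideal.span {c}) t ∉
        ((IsLocalRing.maximalIdeal S).map (Ideal.Quotient.mk (Ideal.span {c}))) ^ N := by
      haveI : Nontrivial (S ⧸ Ideal.span {c}) := Ideal.Quotient.nontrivial_iff.2 hu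
      haveI : IsLocalRing (S ⧸ Ideal.span {c}) := .of_surjective' _ Ideal.Quotient.mk_surjective
      haveI : IsNoetherianRing (S ⧸ Ideal.span {c}) :=
        isNoetherianRing_of_surjective S _ (Ideal.Quotient.mk _) Ideal.Quotient.mk_surjective
      by_contra! h
      have h0 : Ideal.Quotient.mk (Ideal.span {c}) t ∈
          (⨅ N, ((IsLocalRing.maximalIdeal S).map (Ideal.Quotient.mk (Ideal.span {c}))) ^ N) :=
        Ideal.mem_iInf.2 h
      rw [Ideal.iInf_pow_eq_bot_of_isLocalRing _ ?_] at h0
      · exact hc (Ideal.mem_span_singleton.1 (Ideal.Quotient.eq_zero_iff_mem.1 h0))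
      · intro htop
        have h2 := congrArg (Ideal.comap (Ideal.Quotient.mk (Ideal.span {c}))) htop
        rw [Ideal.comap_map_of_surjective _ Ideal.Quotient.mk_surjective, ← RingHom.ker_eq_comap_bot,
          Ideal.mk_ker, Ideal.comap_top, sup_eq_left.2 (IsLocalRing.le_maximalIdeal hu)] at h2
        exact (IsLocalRing.maximalIdeal.isMaximal S).ne_top h2
    refine ⟨N, fun a ha hat => absurd ?_ hN⟩
    have hca : c ∣ a := (Associates.mk_eq_mk_iff_associated.1 ha).symm.dvd
    rw [← Ideal.map_pow]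
    have h1 : Ideal.Quotient.mk (Ideal.span {c}) t = Ideal.Quotient.mk (Ideal.span {c}) (t - a) := by
      rw [map_sub, Ideal.Quotient.eq_zero_iff_mem.2 (Ideal.mem_span_singleton.2 hca), sub_zero]
    rw [h1]
    exact Ideal.mem_map_of_mem _ (by simpa using neg_mem hat)
  choose N hN using hN
  refine ⟨Finset.univ.sup N, fun a had hat => hN ⟨Associates.mk a, Associates.mk_dvd_mk.2 had⟩ a rfl ?_⟩
  exact Ideal.pow_le_pow_right (Finset.le_sup (Finset.mem_univ _)) hat

end Groth.Agent.H9Popescu
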