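import Groth.Agent.H9Popescu.LiftDesing
import Groth.Agent.S2026
import Mathlib.RingTheory.TensorProduct.Quotient

/-!
# Lifting a resolution along `R → R/(π₁⁸, …, π_r⁸)`
-/

set_option linter.style.haveILetI false

universe u

open TensorProduct

namespace Groth.Agent.H9Popescu

/-- A resolution of the problem modulo an ideal of the base. -/
def ResolvableMod {R A Λ : Type u} [CommRing R] [CommRing A] [Algebra R A] [CommRing Λ] [Algebra R Λ]
    (φ : A →ₐ[R] Λ) (𝔮 : Ideal Λ) (I : Ideal R) : Prop :=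
  ∃ (B : Type u) (_ : CommRing B) (_ : Algebra (R ⧸ I) B), Algebra.FinitePresentation (R ⧸ I) B ∧
    ∃ (γ : A →+* B) (h : B →+* Λ ⧸ I.map (algebraMap R Λ)),
      (∀ r, γ (algebraMap R A r) = algebraMap (R ⧸ I) B (Ideal.Quotient.mk I r)) ∧
      (∀ r, h (algebraMap (R ⧸ I) B (Ideal.Quotient.mk I r)) = Ideal.Quotient.mk _ (algebraMap R Λ r)) ∧
      (∀ a, h (γ a) = Ideal.Quotient.mk _ (φ a)) ∧
      Smoothing.singRad R φ ≤ ((Smoothing.singularIdeal (R ⧸ I) B).map h).radical.comap (Ideal.Quotient.mk _) ∧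
      ¬ ((Smoothing.singularIdeal (R ⧸ I) B).map h).radical.comap (Ideal.Quotient.mk _) ≤ 𝔮

/-- Smoothness at a prime does not change along an isomorphism of base rings. -/
theorem isSmoothAt_iff_of_bijective {S S' C : Type u} [CommRing S] [CommRing S'] [CommRing C] [Algebra S S']
    [Algebra S' C] [Algebra S C] [IsScalarTower S S' C] (hb : Function.Bijective (algebraMap S S'))
    (Q : Ideal C) [Q.IsPrime] : Algebra.IsSmoothAt S Q ↔ Algebra.IsSmoothAt S' Q := by
  haveI : Algebra.FormallyUnramified S S' := Algebra.FormallyUnramified.of_surjective (Algebra.ofId S S') hb.2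
  haveI : Algebra.FormallySmooth S S' :=
    .of_equiv (AlgEquiv.ofBijective (Algebra.ofId S S') hb)
  refine ⟨fun h => ?_, fun h => ?_⟩
  · haveI : Algebra.FormallySmooth S (Localization.AtPrime Q) := h
    exact Algebra.FormallySmooth.of_restrictScalars S S' _
  · haveI : Algebra.FormallySmooth S' (Localization.AtPrime Q) := h
    exact Algebra.FormallySmooth.comp S S' _

/-- The singular ideal does not change along an isomorphism of base rings. -/
theorem singularIdeal_eq_of_bijective {S S' C : Type u} [CommRing S] [CommRing S'] [CommRing C] [Algebra S S']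
    [Algebra S' C] [Algebra S C] [IsScalarTower S S' C] (hb : Function.Bijective (algebraMap S S')) :
    Smoothing.singularIdeal S C = Smoothing.singularIdeal S' C := by
  unfold Smoothing.singularIdeal
  congr 2
  exact Set.ext fun Q => isSmoothAt_iff_of_bijective hb Q.asIdeal

/-- One step of the induction. -/
theorem resolvableMod_step {R A Λ : Type u} [CommRing R] [IsNoetherianRing R] [CommRing A] [Algebra R A]
    [Algebra.FinitePresentation R A] [CommRing Λ] [Algebra R Λ] (φ : A →ₐ[R] Λ) (𝔮 : Ideal Λ) (π : R)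
    (hstd : Smoothing.IsStrictlyStandard R A (algebraMap R A π)) (I I' : Ideal R)
    (hI' : I' = I ⊔ Ideal.span {π ^ 8})
    (hR : ∀ r : R, π ^ 2 * r ∈ I → π * r ∈ I)
    (hΛ : ∀ l : Λ, algebraMap R Λ π ^ 2 * l ∈ I.map (algebraMap R Λ) →
      algebraMap R Λ π * l ∈ I.map (algebraMap R Λ))
    (h : ResolvableMod φ 𝔮 I') : ResolvableMod φ 𝔮 I := by
  obtain ⟨C, _, _, hC, γ, hC', hγr, hhr, hhγ, hle, hnle⟩ := h
  let R' := R ⧸ I
  let Λ' := Λ ⧸ I.map (algebraMap R Λ)
  let mkΛ : Λ →+* Λ' := Ideal.Quotient.mk _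
  let ι : R' →+* Λ' := Ideal.Quotient.lift I (mkΛ.comp (algebraMap R Λ)) fun r hr =>
    Ideal.Quotient.eq_zero_iff_mem.mpr (Ideal.mem_map_of_mem _ hr)
  letI : Algebra R' Λ' := ι.toAlgebra
  haveI : IsScalarTower R R' Λ' := IsScalarTower.of_algebraMap_eq fun r => rfl
  let π' : R' := Ideal.Quotient.mk I π
  have hII' : I ≤ I' := hI' ▸ le_sup_left
  let f : R' →+* R ⧸ I' := Ideal.Quotient.factor hII'
  let e : R' ⧸ Ideal.span {π' ^ 8} →+* R ⧸ I' := Ideal.Quotient.lift _ f fun x hx => by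
    obtain ⟨c, rfl⟩ := Ideal.mem_span_singleton'.mp hx
    have : f (π' ^ 8) = 0 := by
      rw [← map_pow, Ideal.Quotient.factor_mk, Ideal.Quotient.eq_zero_iff_mem, hI']
      exact Ideal.mem_sup_right (Ideal.subset_span rfl)
    rw [map_mul, this, mul_zero]
  have he : Function.Bijective e := by
    refine ⟨(injective_iff_map_eq_zero e).mpr fun x hx => ?_, fun y => ?_⟩
    · obtain ⟨x, rfl⟩ := Ideal.Quotient.mk_surjective x
      obtain ⟨r, rfl⟩ := Ideal.Quotient.mk_surjective x
      rw [Ideal.Quotient.lift_mk, Ideal.Quotient.factor_mk, Ideal.Quotient.eq_zero_iff_mem, hI',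
        Submodule.mem_sup] at hx
      obtain ⟨i, hi, j, hj, rfl⟩ := hx
      obtain ⟨c, rfl⟩ := Ideal.mem_span_singleton'.mp hj
      rw [Ideal.Quotient.eq_zero_iff_mem, map_add, Ideal.Quotient.eq_zero_iff_mem.mpr hi, zero_add, map_mul,
        map_pow]
      exact Ideal.mul_mem_left _ _ (Ideal.subset_span rfl)
    · obtain ⟨r, rfl⟩ := Ideal.Quotient.mk_surjective y
      exact ⟨Ideal.Quotient.mk _ (Ideal.Quotient.mk _ r), rfl⟩
  letI : Algebra (R' ⧸ Ideal.span {π' ^ 8}) (R ⧸ I') := e.toAlgebra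
  letI : Algebra (R' ⧸ Ideal.span {π' ^ 8}) C := ((algebraMap (R ⧸ I') C).comp e).toAlgebra
  haveI : IsScalarTower (R' ⧸ Ideal.span {π' ^ 8}) (R ⧸ I') C := IsScalarTower.of_algebraMap_eq' rfl
  letI : Algebra R' C := ((algebraMap (R ⧸ I') C).comp f).toAlgebra
  haveI : IsScalarTower R' (R' ⧸ Ideal.span {π' ^ 8}) C := ⟨fun x y z => by
    obtain ⟨y, rfl⟩ := Ideal.Quotient.mk_surjective y
    show algebraMap (R ⧸ I') C (f (x * y)) * z = algebraMap (R ⧸ I') C (f x) * (algebraMap (R ⧸ I') C (f y) * z)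
    rw [map_mul, map_mul, mul_assoc]⟩
  haveI : Algebra.FinitePresentation (R' ⧸ Ideal.span {π' ^ 8}) (R ⧸ I') :=
    Algebra.FinitePresentation.equiv (AlgEquiv.ofBijective (Algebra.ofId _ _) he)
  haveI : Algebra.FinitePresentation (R' ⧸ Ideal.span {π' ^ 8}) C :=
    Algebra.FinitePresentation.trans _ (R ⧸ I') C
  letI : Algebra R C := ((algebraMap R' C).comp (Ideal.Quotient.mk I)).toAlgebra
  haveI : IsScalarTower R R' C := IsScalarTower.of_algebraMap_eq' rfl
  -- the maps
  let φ' : R' ⊗[R] A →ₐ[R'] Λ' :=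
    Algebra.TensorProduct.lift (Algebra.ofId R' Λ') ((Ideal.Quotient.mkₐ R _).comp φ) fun _ _ => Commute.all _ _
  let γA : A →ₐ[R] C := { γ with commutes' := fun r => (hγr r) }
  let γ' : R' ⊗[R] A →ₐ[R'] C :=
    Algebra.TensorProduct.lift (Algebra.ofId R' C) γA fun _ _ => Commute.all _ _
  let mk8 : Λ' →+* Λ' ⧸ Ideal.span {algebraMap R' Λ' (π' ^ 8)} := Ideal.Quotient.mk _
  have h8 : I'.map (algebraMap R Λ) ≤ RingHom.ker (mk8.comp mkΛ) := by
    rw [hI', Ideal.map_sup, sup_le_iff, Ideal.map_span, Set.image_singleton, Ideal.span_singleton_le_iff_mem]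
    refine ⟨fun x hx => ?_, ?_⟩
    · show mk8 (mkΛ x) = 0
      rw [show mkΛ x = 0 from Ideal.Quotient.eq_zero_iff_mem.mpr hx, map_zero]
    · show mk8 (mkΛ _) = 0
      rw [Ideal.Quotient.eq_zero_iff_mem]
      exact Ideal.subset_span (by rw [← map_pow]; rfl)
  let ε : Λ ⧸ I'.map (algebraMap R Λ) →+* Λ' ⧸ Ideal.span {algebraMap R' Λ' (π' ^ 8)} :=
    Ideal.Quotient.lift _ (mk8.comp mkΛ) h8
  let g : C →ₐ[R'] Λ' ⧸ Ideal.span {algebraMap R' Λ' (π' ^ 8)} :=
    { ε.comp hC' with
      commutes' := fun x => by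
        obtain ⟨r, rfl⟩ := Ideal.Quotient.mk_surjective x
        show ε (hC' (algebraMap (R ⧸ I') C (Ideal.Quotient.mk I' r))) = _
        rw [hhr]
        rfl }
  have hfac : ∀ a, g (γ' a) = Ideal.Quotient.mk _ (φ' a) := fun t => by
    induction t using TensorProduct.induction_on with
    | zero => simp
    | tmul x a =>
      simp only [γ', φ', Algebra.TensorProduct.lift_tmul, map_mul, AlgHom.commutes, Algebra.ofId_apply]
      refine congrArg₂ (· * ·) rfl ?_
      show ε (hC' (γ a)) = _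
      rw [hhγ]
      rfl
    | add t₁ t₂ h₁ h₂ => rw [map_add, map_add, h₁, h₂, map_add, map_add]
  have hR' : ∀ r : R', π' ^ 2 * r = 0 → π' * r = 0 := fun x hx => by
    obtain ⟨r, rfl⟩ := Ideal.Quotient.mk_surjective x
    rw [← map_pow, ← map_mul, Ideal.Quotient.eq_zero_iff_mem] at hx
    rw [← map_mul, Ideal.Quotient.eq_zero_iff_mem]
    exact hR r hx
  have hΛ' : ∀ x : Λ', π' ^ 2 • x = 0 → π' • x = 0 := fun x hx => by
    obtain ⟨l, rfl⟩ := Ideal.Quotient.mk_surjective x
    have e1 : ∀ r : R, algebraMap R' Λ' (Ideal.Quotient.mk I r) = mkΛ (algebraMap R Λ r) := fun r => rfl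
    rw [Algebra.smul_def, ← map_pow, e1, ← map_mul, Ideal.Quotient.eq_zero_iff_mem, map_pow] at hx
    rw [Algebra.smul_def, e1, ← map_mul, Ideal.Quotient.eq_zero_iff_mem]
    exact hΛ l hx
  have hstd' : Smoothing.IsStrictlyStandard R' (R' ⊗[R] A) (algebraMap R' (R' ⊗[R] A) π') := by
    have h := (S6829.result (R' := R') (algebraMap R A π)).2 hstd
    rwa [show (1 : R') ⊗ₜ[R] algebraMap R A π = algebraMap R' (R' ⊗[R] A) π' by
      rw [← Algebra.TensorProduct.tmul_one_eq_one_tmul]; rfl] at h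
  obtain ⟨B, _, _, hB, α, β, hαβ, haway, hsing⟩ := lift_desingularize π' hR' hΛ' φ' hstd' γ' g hfac
  let J := ((Smoothing.singularIdeal R' B).map β).radical
  have hπJ : algebraMap R' Λ' π' ∈ J := by
    refine Ideal.le_radical ?_
    rw [← β.commutes π']
    refine Ideal.mem_map_of_mem _ ?_
    rw [Smoothing.singularIdeal, PrimeSpectrum.mem_vanishingIdeal]
    intro P hP
    by_contra hc
    exact hP (haway P.asIdeal hc)
  have key : ((Smoothing.singularIdeal (R ⧸ I') C).map hC').radical.comap (Ideal.Quotient.mk _) ≤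
      J.comap mkΛ := by
    intro l hl
    obtain ⟨n, hn⟩ := Ideal.mem_comap.mp hl
    rw [← singularIdeal_eq_of_bijective (S := R' ⧸ Ideal.span {π' ^ 8}) (S' := R ⧸ I') (C := C) he] at hn
    have h1 : ε (Ideal.Quotient.mk _ l ^ n) ∈ (Smoothing.singularIdeal (R' ⧸ Ideal.span {π' ^ 8}) C).map g := by
      have := Ideal.mem_map_of_mem ε hn
      rwa [Ideal.map_map] at this
    have h2 : mk8 (mkΛ l ^ n) ∈ J.map mk8 := by
      rw [map_pow mk8]
      have := hsing h1
      rwa [map_pow ε] at this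
    rw [← Ideal.mem_comap, Ideal.comap_map_of_surjective _ Ideal.Quotient.mk_surjective, ← RingHom.ker_eq_comap_bot,
      Ideal.mk_ker, sup_eq_left.mpr ((Ideal.span_singleton_le_iff_mem _).mpr (by
        rw [map_pow]; exact Ideal.pow_mem_of_mem _ hπJ 8 (by norm_num)))] at h2
    exact (Ideal.radical_isRadical _) ⟨n, h2⟩
  refine ⟨B, inferInstance, inferInstance, hB, α.toRingHom.comp
      (Algebra.TensorProduct.includeRight : A →ₐ[R] R' ⊗[R] A).toRingHom, β.toRingHom, fun r => ?_, fun r => ?_,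
    fun a => ?_, hle.trans key, fun hc => hnle (key.trans hc)⟩
  · show α (1 ⊗ₜ algebraMap R A r) = _
    rw [show (1 : R') ⊗ₜ[R] algebraMap R A r = algebraMap R' (R' ⊗[R] A) (Ideal.Quotient.mk I r) by
      rw [← Algebra.TensorProduct.tmul_one_eq_one_tmul]; rfl, AlgHom.commutes]
  · show β (algebraMap R' B _) = _
    rw [AlgHom.commutes]
    rfl
  · show β (α (1 ⊗ₜ a)) = _
    rw [← AlgHom.comp_apply, hαβ]
    rw [Algebra.TensorProduct.lift_tmul, map_one, one_mul]
    rfl

/-- Strictly standard elements are preserved by isomorphisms. -/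
theorem isStrictlyStandard_map {S A A' : Type u} [CommRing S] [CommRing A] [CommRing A'] [Algebra S A]
    [Algebra S A'] (e : A ≃ₐ[S] A') {a : A} (h : Smoothing.IsStrictlyStandard S A a) :
    Smoothing.IsStrictlyStandard S A' (e a) := by
  obtain ⟨P, hs, hk⟩ := h
  refine ⟨{ P with
    hom := e.toAlgHom.comp P.hom
    surj := e.surjective.comp P.surj
    ker_eq := ?_ }, ?_, fun a' ha' => hk a' (e.injective ha')⟩
  · refine Eq.trans ?_ P.ker_eq
    ext x
    exact map_eq_zero_iff e e.injective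
  · have h1 := Ideal.mem_map_of_mem e.toAlgHom hs
    rw [Ideal.map_span, ← Set.range_comp] at h1
    exact h1

/-- Singular ideals extend along a quotient of the base. -/
theorem map_singularIdeal_le {R A : Type u} [CommRing R] [CommRing A] [Algebra R A]
    [Algebra.FinitePresentation R A] (K : Ideal R) :
    (Smoothing.singularIdeal R A).map (Ideal.Quotient.mk (K.map (algebraMap R A))) ≤
      Smoothing.singularIdeal (R ⧸ K) (A ⧸ K.map (algebraMap R A)) := by
  let e := (Algebra.TensorProduct.quotIdealMapEquivQuotTensor A K).symm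
  haveI : Algebra.FinitePresentation (R ⧸ K) (A ⧸ K.map (algebraMap R A)) := Algebra.FinitePresentation.equiv e
  rw [(S2026.result (R := R) (A := A)).1]
  refine (Ideal.map_radical_le _).trans ((PrimeSpectrum.isRadical_vanishingIdeal _).radical_le_iff.mpr ?_)
  rw [Ideal.map_span, Ideal.span_le]
  rintro _ ⟨a, ha, rfl⟩
  refine H9Smooth.mem_singularIdeal (H9Smooth.basicOpen_subset_smoothLocus_of_isStrictlyStandard ?_)
  have h := isStrictlyStandard_map e ((S6829.result (R' := R ⧸ K) a).2 ha)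
  convert h using 1
  apply e.symm.injective
  rw [AlgEquiv.symm_apply_apply]
  rfl

end Groth.Agent.H9Popescu
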