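import Groth.Agent.H9Popescu.Descend
import Groth.Agent.H9Popescu.DesingularizeRel

/-!
# Resolving at a minimal prime of zero height
-/

set_option linter.style.haveILetI false

universe u

open MvPolynomial

namespace Groth.Agent.H9Popescu

/-- An element whose non-vanishing implies smoothness lies in the singular ideal. -/
theorem mem_singularIdeal_of_forall {R B : Type u} [CommRing R] [CommRing B] [Algebra R B] {b : B}
    (h : ∀ (Q : Ideal B) [Q.IsPrime], b ∉ Q → Algebra.IsSmoothAt R Q) : b ∈ Smoothing.singularIdeal R B := by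
  rw [Smoothing.singularIdeal, PrimeSpectrum.mem_vanishingIdeal]
  intro Q hQ
  by_contra hb
  exact hQ (h Q.asIdeal hb)

/-- In a zero dimensional local ring the extension of a prime is nilpotent. -/
theorem exists_mul_pow_eq_zero {Λ Λq : Type u} [CommRing Λ] [CommRing Λq] [Algebra Λ Λq] (𝔮 : Ideal Λ) [𝔮.IsPrime]
    [IsLocalization.AtPrime Λq 𝔮] (hdim : ringKrullDim Λq = 0) {x : Λ} (hx : x ∈ 𝔮) :
    ∃ (t : 𝔮.primeCompl) (n : ℕ), (t : Λ) * x ^ n = 0 := by
  haveI : IsLocalRing Λq := IsLocalization.AtPrime.isLocalRing Λq 𝔮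
  haveI : Ring.KrullDimLE 0 Λq := Ring.krullDimLE_iff.mpr (le_of_eq (by rw [hdim]; rfl))
  have h : algebraMap Λ Λq x ∈ nilradical Λq := by
    rw [nilradical_eq_sInf, Ideal.mem_sInf]
    intro P hP
    haveI : P.IsPrime := hP
    rw [IsLocalRing.eq_maximalIdeal (Ring.krullDimLE_zero_iff.mp ‹_› P hP)]
    exact (IsLocalization.AtPrime.to_map_mem_maximal_iff Λq 𝔮 x).mpr hx
  obtain ⟨n, hn⟩ := h
  rw [← map_pow] at hn
  obtain ⟨t, ht⟩ := (IsLocalization.map_eq_zero_iff 𝔮.primeCompl Λq _).mp hn
  exact ⟨t, n, ht⟩

/-- Resolving at a prime of zero height. -/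
theorem resolvable_of_dim_zero {R A Λ Λq C : Type u} [CommRing R] [IsNoetherianRing R] [CommRing A]
    [Algebra R A] [Algebra.FinitePresentation R A] [CommRing Λ] [Algebra R Λ] (φ : A →ₐ[R] Λ)
    (𝔮 : Ideal Λ) [𝔮.IsPrime] (hle : Smoothing.singRad R φ ≤ 𝔮)
    [CommRing Λq] [Algebra Λ Λq] [IsLocalization.AtPrime Λq 𝔮] (hdim : ringKrullDim Λq = 0)
    [CommRing C] [Algebra R C] [Algebra.FinitePresentation R C] (g : A →ₐ[R] C) (h : C →ₐ[R] Λ)
    (hgh : h.comp g = φ) (hC : ¬ (Smoothing.singularIdeal R C).map h ≤ 𝔮) :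
    Smoothing.Resolvable R φ 𝔮 := by
  classical
  haveI : IsNoetherianRing A := Algebra.FiniteType.isNoetherianRing R A
  -- an element killing the singular ideal of `A`
  obtain ⟨k, a, ha⟩ := Submodule.fg_iff_exists_fin_generating_family.mp
    (IsNoetherian.noetherian (Smoothing.singularIdeal R A))
  have haS : ∀ i, a i ∈ Smoothing.singularIdeal R A := fun i => ha.le (Ideal.subset_span ⟨i, rfl⟩)
  choose t n hn using fun i => exists_mul_pow_eq_zero (Λq := Λq) 𝔮 hdim
    (hle (Ideal.le_radical (Ideal.mem_map_of_mem φ (haS i))))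
  let N := ∑ i, n i
  let lam : Λ := ∏ i, (t i : Λ)
  have hlam : lam ∉ 𝔮 := (𝔮.primeCompl).prod_mem fun i _ => (t i).2
  have hlamN : ∀ i, lam * φ (a i) ^ N = 0 := fun i => by
    obtain ⟨m, hm⟩ := Nat.exists_eq_add_of_le (Finset.single_le_sum (fun i _ => Nat.zero_le (n i)) (Finset.mem_univ i))
    obtain ⟨l, hl⟩ := Finset.dvd_prod_of_mem (fun i => (t i : Λ)) (Finset.mem_univ i)
    rw [show lam = t i * l from hl, show N = n i + m from hm, pow_add, mul_mul_mul_comm, hn i, zero_mul]
  -- a standard open of smoothness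
  obtain ⟨f, hf, hfq⟩ : ∃ f ∈ Smoothing.singularIdeal R C, h f ∉ 𝔮 := by
    by_contra hc
    push_neg at hc
    exact hC (Ideal.map_le_iff_le_comap.mpr hc)
  haveI : Algebra.Smooth R (Localization.Away f) := by
    refine Algebra.basicOpen_subset_smoothLocus_iff_smooth.mp fun P hP => ?_
    rw [Smoothing.singularIdeal, PrimeSpectrum.mem_vanishingIdeal] at hf
    by_contra hns
    exact hP (hf P hns)
  letI : Algebra A C := g.toRingHom.toAlgebra
  haveI : IsScalarTower R A C := IsScalarTower.of_algebraMap_eq fun r => (g.commutes r).symm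
  haveI : Algebra.FiniteType A C := Algebra.FiniteType.of_restrictScalars_finiteType R A C
  obtain ⟨M, χ, hχ⟩ := (Algebra.FiniteType.iff_quotient_mvPolynomial'' (R := A) (S := C)).mp inferInstance
  obtain ⟨m, gs, hgs⟩ := Submodule.fg_iff_exists_fin_generating_family.mp
    (IsNoetherian.noetherian (RingHom.ker χ))
  obtain ⟨f', hf'⟩ := hχ f
  let σ := Fin M ⊕ Option (Fin k)
  let xv : MvPolynomial σ A := X (.inr none)
  let uv : Fin k → MvPolynomial σ A := fun i => X (.inr (some i))
  let S : Ideal (MvPolynomial σ A) :=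
    Ideal.span (Set.range (fun i => xv * uv i) ∪ Set.range fun j => xv * rename Sum.inl (gs j))
  let B := MvPolynomial σ A ⧸ S
  haveI : Algebra.FinitePresentation A B :=
    Algebra.FinitePresentation.quotient (Submodule.fg_span ((Set.finite_range _).union (Set.finite_range _)))
  haveI hB : Algebra.FinitePresentation R B := Algebra.FinitePresentation.trans R A B
  letI : Algebra A Λ := φ.toRingHom.toAlgebra
  haveI : IsScalarTower R A Λ := IsScalarTower.of_algebraMap_eq fun r => (φ.commutes r).symm
  let hA : C →ₐ[A] Λ := { h with commutes' := fun x => DFunLike.congr_fun hgh x }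
  let val : σ → Λ := Sum.elim (fun l => h (χ (X l))) fun o => o.elim (lam * h f) fun i => φ (a i) ^ N
  have hren : ∀ p, aeval val (rename Sum.inl p) = h (χ p) := fun p => by
    refine DFunLike.congr_fun (show (aeval val).comp (rename Sum.inl) = hA.comp χ from
      MvPolynomial.algHom_ext fun l => ?_) p
    simp [val]
    rfl
  let e : B →ₐ[A] Λ := Ideal.Quotient.liftₐ S (aeval val) fun x hx => by
    refine (Ideal.span_le.mpr ?_ : S ≤ RingHom.ker (aeval val)) hx
    rintro _ (⟨i, rfl⟩ | ⟨j, rfl⟩)
    · rw [SetLike.mem_coe, RingHom.mem_ker, map_mul, aeval_X, aeval_X]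
      show lam * h f * φ (a i) ^ N = 0
      rw [mul_right_comm, hlamN, zero_mul]
    · rw [SetLike.mem_coe, RingHom.mem_ker, map_mul, hren]
      have : χ (gs j) = 0 := hgs.le (Ideal.subset_span ⟨j, rfl⟩)
      rw [this, map_zero, mul_zero]
  let mkB : MvPolynomial σ A →ₐ[A] B := Ideal.Quotient.mkₐ A S
  have hmk : ∀ x ∈ S, mkB x = 0 := fun x hx => Ideal.Quotient.eq_zero_iff_mem.mpr hx
  have hxu : ∀ i, mkB xv * mkB (uv i) = 0 := fun i => by
    rw [← map_mul]; exact hmk _ (Ideal.subset_span (Or.inl ⟨i, rfl⟩))
  have hxg : ∀ j, mkB xv * mkB (rename Sum.inl (gs j)) = 0 := fun j => by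
    rw [← map_mul]; exact hmk _ (Ideal.subset_span (Or.inr ⟨j, rfl⟩))
  have key₁ : ∀ i, algebraMap A B (a i) * mkB (uv i) ∈ Smoothing.singularIdeal R B := fun i => by
    refine mem_singularIdeal_of_forall fun Q _ hQ => ?_
    have hui : mkB (uv i) ∉ Q := fun hc => hQ (Ideal.mul_mem_left _ _ hc)
    have hai : algebraMap A B (a i) ∉ Q := fun hc => hQ (Ideal.mul_mem_right _ _ hc)
    have hAsm : Algebra.IsSmoothAt R (Q.under A) := by
      have := haS i
      rw [Smoothing.singularIdeal, PrimeSpectrum.mem_vanishingIdeal] at this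
      by_contra hns
      exact hai (this ⟨Q.under A, inferInstance⟩ hns)
    refine isSmoothAt_trans Q hAsm ?_
    refine Algebra.FormallySmooth.of_comp_surjective fun T _ _ I hI fT => ?_
    let L := Localization.AtPrime Q
    choose bv hbv using fun s : σ => Ideal.Quotient.mk_surjective (I := I) (fT (algebraMap B L (mkB (X s))))
    let val' : σ → T := Sum.elim (fun l => bv (.inl l)) fun o => o.elim 0 fun j => bv (.inr (some j))
    have hx0 : algebraMap B L (mkB xv) = 0 := by
      have h1 := congrArg (algebraMap B L) (hxu i)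
      rw [map_mul, map_zero] at h1
      exact ((IsLocalization.map_units L (⟨_, hui⟩ : Q.primeCompl)).mul_left_eq_zero).mp h1
    let l₀ : B →ₐ[A] T := Ideal.Quotient.liftₐ S (aeval val') fun x hx => by
      refine (Ideal.span_le.mpr ?_ : S ≤ RingHom.ker (aeval val')) hx
      rintro _ (⟨j, rfl⟩ | ⟨j, rfl⟩) <;>
      · rw [SetLike.mem_coe, RingHom.mem_ker, map_mul, aeval_X]
        exact zero_mul _
    have hl₀ : (Ideal.Quotient.mkₐ A I).comp l₀ = fT.comp (IsScalarTower.toAlgHom A B L) := by
      refine Ideal.Quotient.algHom_ext _ (MvPolynomial.algHom_ext fun s => ?_)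
      show Ideal.Quotient.mk I (aeval val' (X s)) = fT (algebraMap B L (mkB (X s)))
      rw [aeval_X]
      match s with
      | .inl l => exact hbv _
      | .inr (some j) => exact hbv _
      | .inr none =>
        show Ideal.Quotient.mk I 0 = _
        rw [hx0, map_zero, map_zero]
    have hu : ∀ s : Q.primeCompl, IsUnit (l₀ s) := fun s => by
      refine (IsNilpotent.isUnit_quotient_mk_iff ⟨2, hI⟩).mp ?_
      exact (DFunLike.congr_fun hl₀ (s : B)).symm ▸ (IsLocalization.map_units L s).map fT
    refine ⟨IsLocalization.liftAlgHom (M := Q.primeCompl) hu, ?_⟩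
    refine IsLocalization.algHom_ext Q.primeCompl (AlgHom.ext fun x => ?_)
    show Ideal.Quotient.mk I (IsLocalization.lift hu (algebraMap B L x)) = fT (algebraMap B L x)
    rw [IsLocalization.lift_eq]
    exact DFunLike.congr_fun hl₀ x
  have key₂ : mkB xv * mkB (rename Sum.inl f') ∈ Smoothing.singularIdeal R B := by
    refine mem_singularIdeal_of_forall fun Q _ hQ => ?_
    have hxQ : mkB xv ∉ Q := fun hc => hQ (Ideal.mul_mem_right _ _ hc)
    have hfQ : mkB (rename Sum.inl f') ∉ Q := fun hc => hQ (Ideal.mul_mem_left _ _ hc)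
    let L := Localization.AtPrime Q
    have hxunit : IsUnit (algebraMap B L (mkB xv)) := IsLocalization.map_units L (⟨_, hxQ⟩ : Q.primeCompl)
    let ιC : C →ₐ[A] L := (Ideal.Quotient.liftₐ (RingHom.ker χ)
      ((IsScalarTower.toAlgHom A B L).comp (mkB.comp (rename Sum.inl))) fun x hx => by
        refine (Ideal.span_le.mpr ?_ : Ideal.span (Set.range gs) ≤
          RingHom.ker ((IsScalarTower.toAlgHom A B L).comp (mkB.comp (rename Sum.inl)))) (hgs.ge hx)
        rintro _ ⟨j, rfl⟩
        rw [SetLike.mem_coe, RingHom.mem_ker]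
        have h1 := congrArg (algebraMap B L) (hxg j)
        rw [map_mul, map_zero] at h1
        exact (hxunit.mul_right_eq_zero).mp h1).comp
      (Ideal.quotientKerAlgEquivOfSurjective hχ).symm.toAlgHom
    have hιC : ∀ p, ιC (χ p) = algebraMap B L (mkB (rename Sum.inl p)) := fun p => by
      rw [show χ p = Ideal.quotientKerAlgEquivOfSurjective hχ (Ideal.Quotient.mk _ p) from rfl]
      simp only [ιC]
      erw [AlgHom.comp_apply]
      erw [AlgEquiv.symm_apply_apply]
      rfl
    letI : Algebra C L := ιC.toRingHom.toAlgebra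
    haveI : IsScalarTower R C L := IsScalarTower.of_algebraMap_eq fun r => by
      show _ = ιC (algebraMap R C r)
      rw [IsScalarTower.algebraMap_apply R A C, AlgHom.commutes]
      exact IsScalarTower.algebraMap_apply R A L r
    haveI : Algebra.FormallySmooth C L := by
      refine Algebra.FormallySmooth.of_comp_surjective fun T _ _ I hI fT => ?_
      choose bv hbv using fun s : σ => Ideal.Quotient.mk_surjective (I := I) (fT (algebraMap B L (mkB (X s))))
      let val' : σ → T := Sum.elim (fun l => algebraMap C T (χ (X l))) fun o => o.elim (bv (.inr none)) fun _ => 0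
      let ιA : A →+* T := (algebraMap C T).comp (algebraMap A C)
      let e' : MvPolynomial σ A →+* T := eval₂Hom ιA val'
      have hren' : ∀ p, e' (rename Sum.inl p) = algebraMap C T (χ p) := fun p => by
        refine DFunLike.congr_fun (show e'.comp (rename Sum.inl).toRingHom = (algebraMap C T).comp χ.toRingHom from
          MvPolynomial.ringHom_ext (fun x => ?_) fun l => ?_) p
        · simp [e', ιA, ← MvPolynomial.algebraMap_eq]
        · simp [e', val']
      have he' : ∀ x ∈ S, e' x = 0 := fun x hx => by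
        refine (Ideal.span_le.mpr ?_ : S ≤ RingHom.ker e') hx
        rintro _ (⟨j, rfl⟩ | ⟨j, rfl⟩)
        · rw [SetLike.mem_coe, RingHom.mem_ker, map_mul]
          simp [e', val', uv]
        · rw [SetLike.mem_coe, RingHom.mem_ker, map_mul, hren', show χ (gs j) = 0 from
            hgs.le (Ideal.subset_span ⟨j, rfl⟩), map_zero, mul_zero]
      let l₀ : B →+* T := Ideal.Quotient.lift S e' he'
      have hCT : ∀ c, fT (ιC c) = Ideal.Quotient.mk I (algebraMap C T c) := fun c => fT.commutes c
      have hl₀ : (Ideal.Quotient.mk I).comp l₀ = fT.toRingHom.comp (algebraMap B L) := by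
        refine Ideal.Quotient.ringHom_ext (MvPolynomial.ringHom_ext (fun x => ?_) fun s => ?_)
        · show Ideal.Quotient.mk I (e' (MvPolynomial.C x)) = fT (algebraMap B L (mkB (MvPolynomial.C x)))
          rw [eval₂Hom_C, RingHom.comp_apply, ← hCT, ← MvPolynomial.algebraMap_eq, AlgHom.commutes,
            AlgHom.commutes, ← IsScalarTower.algebraMap_apply]
        · show Ideal.Quotient.mk I (e' (X s)) = fT (algebraMap B L (mkB (X s)))
          rw [eval₂Hom_X']
          match s with
          | .inl l =>
            show Ideal.Quotient.mk I (algebraMap C T (χ (X l))) = _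
            rw [← hCT, hιC, rename_X]
          | .inr none => exact hbv _
          | .inr (some j) =>
            show Ideal.Quotient.mk I 0 = _
            have h1 := congrArg (algebraMap B L) (hxu j)
            rw [map_mul, map_zero] at h1
            rw [show algebraMap B L (mkB (X (.inr (some j)))) = 0 from hxunit.mul_right_eq_zero.mp h1, map_zero,
              map_zero]
      have hu : ∀ s : Q.primeCompl, IsUnit (l₀ s) := fun s => by
        refine (IsNilpotent.isUnit_quotient_mk_iff ⟨2, hI⟩).mp ?_
        rw [← RingHom.comp_apply, hl₀]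
        exact (IsLocalization.map_units L s).map fT
      let l : L →+* T := IsLocalization.lift (M := Q.primeCompl) hu
      have hl : ∀ x, l (algebraMap B L x) = l₀ x := fun x => IsLocalization.lift_eq _ x
      refine ⟨{ l with commutes' := fun c => ?_ }, AlgHom.coe_ringHom_injective
        (IsLocalization.ringHom_ext Q.primeCompl (RingHom.ext fun x => ?_))⟩
      · obtain ⟨p, rfl⟩ := hχ c
        show l (ιC (χ p)) = _
        rw [hιC, hl]
        exact hren' p
      · show Ideal.Quotient.mk I (l (algebraMap B L x)) = fT (algebraMap B L x)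
        rw [hl]
        exact DFunLike.congr_fun hl₀ x
    have hfunit : IsUnit (algebraMap C L f) := by
      show IsUnit (ιC f)
      rw [← hf', hιC]
      exact IsLocalization.map_units L (⟨_, hfQ⟩ : Q.primeCompl)
    letI : Algebra (Localization.Away f) L := (IsLocalization.Away.lift f hfunit).toAlgebra
    haveI : IsScalarTower C (Localization.Away f) L :=
      IsScalarTower.of_algebraMap_eq fun c => (IsLocalization.Away.lift_eq f hfunit c).symm
    haveI : IsScalarTower R (Localization.Away f) L := .to₁₃₄ R C _ _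
    haveI : Algebra.FormallySmooth (Localization.Away f) L :=
      Algebra.FormallySmooth.localization_base (Submonoid.powers f)
    exact Algebra.FormallySmooth.comp R (Localization.Away f) L
  refine ⟨B, inferInstance, inferInstance, hB, IsScalarTower.toAlgHom R A B, e.restrictScalars R,
    AlgHom.ext fun x => e.commutes x, ?_, fun hc => ?_⟩
  · refine (Ideal.radical_isRadical _).radical_le_iff.mpr ?_
    rw [← ha, Ideal.map_span, Ideal.span_le]
    rintro _ ⟨_, ⟨i, rfl⟩, rfl⟩
    refine ⟨N + 1, ?_⟩
    have h1 := Ideal.mem_map_of_mem (e.restrictScalars R) (key₁ i)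
    have h2 : e (algebraMap A B (a i) * mkB (uv i)) = φ (a i) ^ (N + 1) := by
      rw [map_mul, AlgHom.commutes, pow_succ']
      show φ (a i) * aeval val (uv i) = _
      rw [aeval_X]
      rfl
    rw [AlgHom.restrictScalars_apply, h2] at h1
    exact h1
  · have h1 := hc (Ideal.le_radical (Ideal.mem_map_of_mem (e.restrictScalars R) key₂))
    rw [AlgHom.restrictScalars_apply, map_mul] at h1
    have h2 : e (mkB xv) * e (mkB (rename Sum.inl f')) = lam * h f * h f := by
      show aeval val xv * aeval val (rename Sum.inl f') = _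
      rw [aeval_X, hren, hf']
      rfl
    rw [h2] at h1
    rcases Ideal.IsPrime.mem_or_mem inferInstance h1 with h1 | h1
    · exact (Ideal.IsPrime.mem_or_mem inferInstance h1).elim hlam hfq
    · exact hfq h1

end Groth.Agent.H9Popescu
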