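import Groth.Agent.H9Popescu.SeparableModel
import Groth.Agent.H9Popescu.Parameters
import Groth.Agent.H9Popescu.FieldIndSmooth
import Groth.Agent.H9Popescu.Reduce
import Groth.Agent.H9Smooth.IndSmooth
import Groth.Agent.H4Gr.PolyRing
import Groth.Agent.S5777
import Groth.Agent.S6822

/-!
# The separable residue field case
-/

set_option linter.style.haveILetI false

universe u

open MvPolynomial TensorProduct

namespace Groth.Agent.H9Popescu

/-- Powers of variables cancel modulo powers of the other variables. -/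
theorem mul_X_pow_cancel {k : Type u} [CommRing k] {d : ℕ} (i : Fin d) (e m : ℕ) (S : Set (Fin d)) (hi : i ∉ S)
    (p : MvPolynomial (Fin d) k)
    (h : X i ^ m * p ∈ Ideal.span ((fun j => (X j : MvPolynomial (Fin d) k) ^ e) '' S)) :
    p ∈ Ideal.span ((fun j => (X j : MvPolynomial (Fin d) k) ^ e) '' S) := by
  classical
  have himg : (fun j => (X j : MvPolynomial (Fin d) k) ^ e) '' S =
      (fun s => monomial s (1 : k)) '' ((fun j => Finsupp.single j e) '' S) := by
    rw [Set.image_image]
    simp only [X_pow_eq_monomial]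
  rw [himg, mem_ideal_span_monomial_image] at h ⊢
  intro t ht
  obtain ⟨_, ⟨j, hj, rfl⟩, hle⟩ := h (Finsupp.single i m + t) (by
    rw [mem_support_iff, X_pow_eq_monomial, coeff_monomial_mul, one_mul]
    exact mem_support_iff.mp ht)
  refine ⟨_, ⟨j, hj, rfl⟩, ?_⟩
  rw [Finsupp.single_le_iff] at hle ⊢
  rwa [Finsupp.add_apply, Finsupp.single_eq_of_ne (by rintro rfl; exact hi hj), zero_add] at hle

/-- A local ring with parameters is flat over the polynomial ring. -/
theorem flat_of_parameters {k L : Type u} [Field k] [CommRing L] [IsLocalRing L] [IsNoetherianRing L] [Algebra k L]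
    {d : ℕ} [Algebra (MvPolynomial (Fin d) k) L] [IsScalarTower k (MvPolynomial (Fin d) k) L]
    (hmax : Ideal.span (Set.range fun i => algebraMap (MvPolynomial (Fin d) k) L (X i)) = IsLocalRing.maximalIdeal L)
    (hreg : RingTheory.Sequence.IsWeaklyRegular L (List.ofFn fun i => algebraMap (MvPolynomial (Fin d) k) L (X i))) :
    Module.Flat (MvPolynomial (Fin d) k) L := by
  classical
  let R := MvPolynomial (Fin d) k
  let p : Ideal R := (IsLocalRing.maximalIdeal L).comap (algebraMap R L)
  have hp : p = Ideal.span (Set.range (X : Fin d → R)) := by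
    refine le_antisymm (fun f hf => ?_) (Ideal.span_le.mpr ?_)
    · have hX : f - C (constantCoeff f) ∈ Ideal.span (Set.range (X : Fin d → R)) := by
        rw [← Set.image_univ, mem_ideal_span_X_image]
        intro m hm
        rw [mem_support_iff, coeff_sub, coeff_C] at hm
        by_contra hne
        push Not at hne
        have hm0 : m = 0 := Finsupp.ext fun j => by simpa using hne j (Set.mem_univ j)
        subst hm0
        simp [constantCoeff_eq] at hm
      have hCp : C (constantCoeff f) ∈ p := by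
        have h1 : f - C (constantCoeff f) ∈ p := by
          refine (Ideal.span_le.mpr ?_ : Ideal.span (Set.range (X : Fin d → R)) ≤ p) hX
          rintro _ ⟨i, rfl⟩
          show algebraMap R L (X i) ∈ IsLocalRing.maximalIdeal L
          rw [← hmax]
          exact Ideal.subset_span ⟨i, rfl⟩
        have := sub_mem hf h1
        rwa [sub_sub_cancel] at this
      by_cases hc : constantCoeff f = 0
      · rwa [hc, map_zero, sub_zero] at hX
      · exact absurd (Ideal.eq_top_of_isUnit_mem _ hCp ((Ne.isUnit hc).map C))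
          (Ideal.IsPrime.ne_top inferInstance)
    · rintro _ ⟨i, rfl⟩
      show algebraMap R L (X i) ∈ IsLocalRing.maximalIdeal L
      rw [← hmax]
      exact Ideal.subset_span ⟨i, rfl⟩
  let A := Localization.AtPrime p
  have hu : ∀ s : p.primeCompl, IsUnit (algebraMap R L s) := fun s =>
    IsLocalRing.notMem_maximalIdeal.mp s.2
  letI : Algebra A L := (IsLocalization.lift hu).toAlgebra
  haveI : IsScalarTower R A L := IsScalarTower.of_algebraMap_eq fun x => (IsLocalization.lift_eq hu x).symm
  haveI : IsLocalHom (algebraMap A L) := by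
    refine ((IsLocalRing.local_hom_TFAE (algebraMap A L)).out 0 2).mpr ?_
    rw [← IsLocalization.AtPrime.map_eq_maximalIdeal p A, Ideal.map_map,
      ← IsScalarTower.algebraMap_eq R A L, hp, Ideal.map_span, ← Set.range_comp]
    exact hmax.le
  let fs : List A := List.ofFn fun i => algebraMap R A (X i)
  have hfs : ∀ f ∈ fs, f ∈ IsLocalRing.maximalIdeal A := fun f hf => by
    obtain ⟨i, rfl⟩ := List.mem_ofFn.mp hf
    rw [← IsLocalization.AtPrime.map_eq_maximalIdeal p A]
    exact Ideal.mem_map_of_mem _ (hp.ge (Ideal.subset_span ⟨i, rfl⟩))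
  have hA : RingTheory.Sequence.IsWeaklyRegular A fs := by
    have := (H4Gr.isWeaklyRegular_vars k d).of_flat (S := A)
    rwa [List.map_ofFn] at this
  haveI : Module.Flat A L := by
    refine (S5777.result A L L fs hfs hA).mpr ⟨?_, ?_⟩
    · have hmaxA : Ideal.ofList fs = IsLocalRing.maximalIdeal A := by
        refine Eq.trans ?_ (((congrArg (Ideal.map (algebraMap R A)) hp).symm).trans (IsLocalization.AtPrime.map_eq_maximalIdeal p A))
        rw [Ideal.map_span, ← Set.range_comp]
        refine congrArg Ideal.span (Set.ext fun y => ?_)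
        simp [fs]
      letI : Field (A ⧸ Ideal.ofList fs) :=
        @Ideal.Quotient.field A _ (Ideal.ofList fs) (hmaxA ▸ inferInstance)
      exact Module.Flat.of_free
    · rw [← RingTheory.Sequence.isWeaklyRegular_map_algebraMap_iff L L fs]
      rw [show fs.map (algebraMap A L) = List.ofFn fun i => algebraMap R L (X i) by
        simp only [fs, List.map_ofFn, Function.comp_def, ← IsScalarTower.algebraMap_apply]]
      exact hreg
  exact Module.Flat.trans R A L

/-- Singular ideals over a smooth base are smaller. -/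
theorem singularIdeal_le_of_smooth {k R B : Type u} [CommRing k] [CommRing R] [CommRing B] [Algebra k R]
    [Algebra R B] [Algebra k B] [IsScalarTower k R B] [Algebra.Smooth k R] :
    Smoothing.singularIdeal R B ≤ Smoothing.singularIdeal k B := by
  intro b hb
  refine mem_singularIdeal_of_forall fun Q _ hQ => isSmoothAt_trans (D := R) Q ?_ ?_
  · have h : (⟨Q.under R, inferInstance⟩ : PrimeSpectrum R) ∈ Algebra.smoothLocus k R := by
      rw [Algebra.smoothLocus_eq_univ]
      trivial
    exact h
  · rw [Smoothing.singularIdeal, PrimeSpectrum.mem_vanishingIdeal] at hb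
    by_contra hns
    exact hQ (hb ⟨Q, inferInstance⟩ hns)

/-- Finite presentation passes to quotients of the base. -/
theorem finitePresentation_quotient {S T : Type u} [CommRing S] [CommRing T] [Algebra S T]
    [Algebra.FinitePresentation S T] (K : Ideal S) :
    Algebra.FinitePresentation (S ⧸ K) (T ⧸ K.map (algebraMap S T)) :=
  Algebra.FinitePresentation.equiv (Algebra.TensorProduct.quotIdealMapEquivQuotTensor T K).symm

/-- A smooth algebra has unit singular ideal. -/
theorem singularIdeal_eq_top {R B : Type u} [CommRing R] [CommRing B] [Algebra R B] [Algebra.Smooth R B] :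
    Smoothing.singularIdeal R B = ⊤ := by
  rw [Smoothing.singularIdeal, Algebra.smoothLocus_eq_univ, Set.compl_univ, PrimeSpectrum.vanishingIdeal_empty]

/-- Resolution when the local ring is ind-smooth over a local base and zero dimensional. -/
theorem resolvable_of_indSmooth_local {R Λ L C : Type u} [CommRing R] [IsNoetherianRing R] [CommRing Λ] [Algebra R Λ]
    [CommRing L] [Algebra Λ L] [Algebra R L] [IsScalarTower R Λ L] [CommRing C] [Algebra R C]
    [Algebra.FinitePresentation R C] (φ : C →ₐ[R] Λ) (𝔮 : Ideal Λ) [𝔮.IsPrime]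
    [IsLocalization.AtPrime R (𝔮.comap (algebraMap R Λ))] [IsLocalization.AtPrime L 𝔮]
    (hle : Smoothing.singRad R φ ≤ 𝔮) (hind : Smoothing.IndSmooth R L) (hdim : ringKrullDim L = 0) :
    Smoothing.Resolvable R φ 𝔮 := by
  obtain ⟨B, _, _, hB, g, h, hgh⟩ := hind (R ⊗[R] C) inferInstance
    (Algebra.TensorProduct.lift (Algebra.ofId R L) ((IsScalarTower.toAlgHom R Λ L).comp φ)
      fun _ _ => Commute.all _ _)
  haveI := hB
  haveI : IsLocalRing L := IsLocalization.AtPrime.isLocalRing L 𝔮
  haveI : (𝔮.map (algebraMap Λ L)).IsPrime := by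
    rw [IsLocalization.AtPrime.map_eq_maximalIdeal 𝔮 L]
    infer_instance
  have hres : Smoothing.Resolvable R (Algebra.TensorProduct.lift (Algebra.ofId R L)
      ((IsScalarTower.toAlgHom R Λ L).comp φ) (fun _ _ => Commute.all _ _) : R ⊗[R] C →ₐ[R] L)
      (𝔮.map (algebraMap Λ L)) := by
    refine ⟨B, inferInstance, inferInstance, inferInstance, g, h, hgh, ?_, ?_⟩ <;>
      simp only [Smoothing.singRad, singularIdeal_eq_top, Ideal.map_top, Ideal.radical_top]
    · exact le_top
    · exact fun hc => Ideal.IsPrime.ne_top inferInstance (top_le_iff.mp hc)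
  obtain ⟨D, _, _, hD, g', h', hgh', hD'⟩ := descend (Rₚ := R) (Λq := L) φ 𝔮 hres
  haveI := hD
  exact resolvable_of_dim_zero φ 𝔮 hle (Λq := L) hdim g' h' hgh' hD'

set_option maxHeartbeats 800000 in
/-- The problem reduced modulo powers of the parameters can be resolved. -/
theorem resolvable_monomial {k Λ C₀ : Type u} [Field k] {d : ℕ} [CommRing Λ] [IsNoetherianRing Λ] [Algebra k Λ]
    [Algebra (MvPolynomial (Fin d) k) Λ] [IsScalarTower k (MvPolynomial (Fin d) k) Λ]
    (𝔮 : Ideal Λ) [𝔮.IsPrime] [IsRegularLocalRing (Localization.AtPrime 𝔮)]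
    [Algebra.IsGeometricallyReduced k 𝔮.ResidueField]
    (hd : ringKrullDim (Localization.AtPrime 𝔮) = d)
    (hmax : Ideal.span (Set.range fun i : Fin d =>
      algebraMap (MvPolynomial (Fin d) k) (Localization.AtPrime 𝔮) (X i)) =
        IsLocalRing.maximalIdeal (Localization.AtPrime 𝔮))
    (K : Ideal (MvPolynomial (Fin d) k)) (hK : K ≤ Ideal.span (Set.range X))
    (e : ℕ) (hKe : ∀ i : Fin d, (X i : MvPolynomial (Fin d) k) ^ e ∈ K)
    [CommRing C₀] [Algebra (MvPolynomial (Fin d) k ⧸ K) C₀] [Algebra.FinitePresentation (MvPolynomial (Fin d) k ⧸ K) C₀]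
    (φ : C₀ →ₐ[MvPolynomial (Fin d) k ⧸ K] Λ ⧸ K.map (algebraMap (MvPolynomial (Fin d) k) Λ)) :
    Smoothing.Resolvable (MvPolynomial (Fin d) k ⧸ K) φ
      (𝔮.map (Ideal.Quotient.mk (K.map (algebraMap (MvPolynomial (Fin d) k) Λ)))) := by
  classical
  let R := MvPolynomial (Fin d) k
  let L := Localization.AtPrime 𝔮
  let R' := R ⧸ K
  let Λ' := Λ ⧸ K.map (algebraMap R Λ)
  let 𝔮' : Ideal Λ' := 𝔮.map (Ideal.Quotient.mk _)
  have hX𝔮 : ∀ i, algebraMap R Λ (X i) ∈ 𝔮 := fun i => (IsLocalization.AtPrime.to_map_mem_maximal_iff L 𝔮 _).mp (by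
    rw [← IsScalarTower.algebraMap_apply R Λ L, ← hmax]
    exact Ideal.subset_span ⟨i, rfl⟩)
  have hKq : K.map (algebraMap R Λ) ≤ 𝔮 := Ideal.map_le_iff_le_comap.mpr (hK.trans (Ideal.span_le.mpr (by
    rintro _ ⟨i, rfl⟩; exact hX𝔮 i)))
  haveI h𝔮' : 𝔮'.IsPrime := Ideal.map_isPrime_of_surjective Ideal.Quotient.mk_surjective (by rwa [Ideal.mk_ker])
  by_cases hle : Smoothing.singRad R' φ ≤ 𝔮'
  swap
  · exact ⟨C₀, inferInstance, inferInstance, inferInstance, AlgHom.id R' C₀, φ, φ.comp_id, le_rfl, hle⟩
  let I₀ := K.map (algebraMap R Λ)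
  let L' := L ⧸ I₀.map (algebraMap Λ L)
  -- the local ring
  haveI : IsLocalization.AtPrime L' 𝔮' := by
    have hsub : Algebra.algebraMapSubmonoid Λ' 𝔮.primeCompl = 𝔮'.primeCompl := by
      ext y
      constructor
      · rintro ⟨x, hx, rfl⟩ hy
        refine hx ?_
        have : x ∈ 𝔮'.comap (Ideal.Quotient.mk _) := hy
        rwa [Ideal.comap_map_of_surjective _ Ideal.Quotient.mk_surjective, ← RingHom.ker_eq_comap_bot,
          Ideal.mk_ker, sup_eq_left.mpr hKq] at this
      · intro hy
        obtain ⟨x, rfl⟩ := Ideal.Quotient.mk_surjective y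
        exact ⟨x, fun hx => hy (Ideal.mem_map_of_mem _ hx), rfl⟩
    have : IsLocalization (Algebra.algebraMapSubmonoid Λ' 𝔮.primeCompl) L' := inferInstance
    rwa [hsub] at this
  -- the base is local Artinian
  let m : Ideal R' := (Ideal.span (Set.range (X : Fin d → R))).map (Ideal.Quotient.mk K)
  have hmnil : IsNilpotent m := by
    refine (Ideal.FG.isNilpotent_iff_le_nilradical (IsNoetherian.noetherian _)).mpr ?_
    rw [Ideal.map_le_iff_le_comap, Ideal.span_le]
    rintro _ ⟨i, rfl⟩
    exact ⟨e, by rw [← map_pow]; exact Ideal.Quotient.eq_zero_iff_mem.mpr (hKe i)⟩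
  have hcomap : ∀ x : R', x ∈ 𝔮'.comap (algebraMap R' Λ') → ¬ IsUnit x := fun x hx hu =>
    h𝔮'.ne_top (Ideal.eq_top_of_isUnit_mem _ hx (hu.map _))
  haveI : IsLocalization.AtPrime R' (𝔮'.comap (algebraMap R' Λ')) := by
    refine IsLocalization.self fun x hx => ?_
    obtain ⟨r, rfl⟩ := Ideal.Quotient.mk_surjective x
    have hr : r - C (constantCoeff r) ∈ Ideal.span (Set.range (X : Fin d → R)) := by
      rw [← Set.image_univ, mem_ideal_span_X_image]
      intro t ht
      rw [mem_support_iff, coeff_sub, coeff_C] at ht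
      by_contra hne
      push Not at hne
      have ht0 : t = 0 := Finsupp.ext fun j => by simpa using hne j (Set.mem_univ j)
      subst ht0
      simp [constantCoeff_eq] at ht
    have hn : IsNilpotent (Ideal.Quotient.mk K (r - C (constantCoeff r))) := by
      obtain ⟨N, hN⟩ := hmnil
      exact ⟨N, by rw [← Ideal.mem_bot, ← Ideal.zero_eq_bot, ← hN]; exact Ideal.pow_mem_pow (Ideal.mem_map_of_mem _ hr) N⟩
    by_cases hc : constantCoeff r = 0
    · rw [hc, map_zero, sub_zero] at hn
      exact absurd (h𝔮'.mem_of_pow_mem hn.choose (by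
        rw [← map_pow, hn.choose_spec, map_zero]; exact zero_mem _) ) hx
    · have hu : IsUnit (Ideal.Quotient.mk K (C (constantCoeff r))) := ((Ne.isUnit hc).map C).map _
      have h := hn.isUnit_add_left_of_commute hu (Commute.all _ _)
      rw [← map_add, add_sub_cancel] at h
      exact h
  -- flatness
  haveI : IsScalarTower k R L := IsScalarTower.of_algebraMap_eq fun c => by
    rw [IsScalarTower.algebraMap_apply k Λ L, IsScalarTower.algebraMap_apply R Λ L,
      ← IsScalarTower.algebraMap_apply k R Λ]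
  haveI : Module.Flat R L := flat_of_parameters hmax (H4Depth.isRegular_ofFn_of_span_eq d hd _ hmax).toIsWeaklyRegular
  letI : Algebra R' L' := ((algebraMap Λ' L').comp (algebraMap R' Λ')).toAlgebra
  haveI : IsScalarTower R' Λ' L' := IsScalarTower.of_algebraMap_eq' rfl
  have hI₀ : I₀.map (algebraMap Λ L) = K.map (algebraMap R L) := by
    rw [Ideal.map_map, ← IsScalarTower.algebraMap_eq]
  have hflat : Module.Flat R' L' := by
    let e₁ : L' ≃ₐ[R] L ⧸ K.map (algebraMap R L) := Ideal.quotientEquivAlgOfEq R hI₀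
    haveI : Module.Flat R' (L ⧸ K.map (algebraMap R L)) :=
      Module.Flat.of_linearEquiv (Algebra.TensorProduct.quotIdealMapEquivQuotTensor L K).toLinearEquiv
    refine Module.Flat.of_linearEquiv (M := L ⧸ K.map (algebraMap R L))
      { e₁.toAddEquiv with
        map_smul' := fun x y => ?_ }
    obtain ⟨r, rfl⟩ := Ideal.Quotient.mk_surjective x
    show e₁ (algebraMap R' L' (Ideal.Quotient.mk K r) * y) = Ideal.Quotient.mk K r • e₁ y
    rw [map_mul, Algebra.smul_def]
    refine congrArg (· * _) ?_
    show e₁ (Ideal.Quotient.mk _ (algebraMap Λ L (algebraMap R Λ r))) = _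
    rw [← IsScalarTower.algebraMap_apply R Λ L]
    rfl
  haveI := hflat
  -- ind-smoothness
  have hL'max : m.map (algebraMap R' L') = (IsLocalRing.maximalIdeal L).map (Ideal.Quotient.mk _) := by
    refine ((Ideal.map_map _ _).trans (Ideal.map_span _ _)).trans ?_
    rw [← hmax]
    refine Eq.trans ?_ (Ideal.map_span _ _).symm
    rw [← Set.range_comp, ← Set.range_comp]
    refine congrArg Ideal.span (congrArg Set.range (funext fun i => ?_))
    show Ideal.Quotient.mk (I₀.map (algebraMap Λ L)) (algebraMap Λ L (algebraMap R Λ (X i))) = _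
    rw [← IsScalarTower.algebraMap_apply R Λ L]
    rfl
  haveI : (Ideal.span (Set.range (X : Fin d → R))).IsPrime := by
    have h : Ideal.span (Set.range (X : Fin d → R)) = RingHom.ker (constantCoeff : R →+* k) := by
      refine le_antisymm (Ideal.span_le.mpr (by rintro _ ⟨i, rfl⟩; simp)) fun r hr => ?_
      rw [← Set.image_univ, mem_ideal_span_X_image]
      intro t ht
      by_contra hne
      push Not at hne
      have ht0 : t = 0 := Finsupp.ext fun j => by simpa using hne j (Set.mem_univ j)
      subst ht0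
      rw [mem_support_iff, ← constantCoeff_eq] at ht
      exact ht hr
    rw [h]
    exact RingHom.ker_isPrime _
  have hind : Smoothing.IndSmooth R' L' := by
    refine H9Smooth.indSmooth_of_nilpotent m hmnil ?_
    let c₀ : k →+* R' ⧸ m := (Ideal.Quotient.mk m).comp ((Ideal.Quotient.mk K).comp C)
    have hmne : m ≠ ⊤ := fun h => by
      obtain ⟨N, hN⟩ := hmnil
      rw [h, Ideal.top_pow, Ideal.zero_eq_bot] at hN
      have h1 : (1 : R') ∈ (⊥ : Ideal R') := hN ▸ Submodule.mem_top
      rw [Ideal.mem_bot] at h1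
      exact hcomap 0 (zero_mem _) (h1 ▸ isUnit_one)
    haveI : Nontrivial (R' ⧸ m) := Ideal.Quotient.nontrivial_iff.mpr hmne
    have hc₀ : Function.Bijective c₀ := by
      refine ⟨c₀.injective, fun y => ?_⟩
      obtain ⟨y, rfl⟩ := Ideal.Quotient.mk_surjective y
      obtain ⟨r, rfl⟩ := Ideal.Quotient.mk_surjective y
      refine ⟨constantCoeff r, (Ideal.Quotient.eq.mpr ?_).symm⟩
      show Ideal.Quotient.mk K r - Ideal.Quotient.mk K (C (constantCoeff r)) ∈ m
      rw [← map_sub]
      refine Ideal.mem_map_of_mem _ ?_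
      rw [← Set.image_univ, mem_ideal_span_X_image]
      intro t ht
      rw [mem_support_iff, coeff_sub, coeff_C] at ht
      by_contra hne
      push Not at hne
      have ht0 : t = 0 := Finsupp.ext fun j => by simpa using hne j (Set.mem_univ j)
      subst ht0
      simp [constantCoeff_eq] at ht
    -- the residue field
    let q₀ : L →+* L' ⧸ m.map (algebraMap R' L') := (Ideal.Quotient.mk _).comp (Ideal.Quotient.mk _)
    have hq₀ : Function.Surjective q₀ := Ideal.Quotient.mk_surjective.comp Ideal.Quotient.mk_surjective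
    have hq₀k : RingHom.ker q₀ = IsLocalRing.maximalIdeal L := by
      rw [← RingHom.comap_ker, Ideal.mk_ker, hL'max, Ideal.comap_map_of_surjective _ Ideal.Quotient.mk_surjective,
        ← RingHom.ker_eq_comap_bot, Ideal.mk_ker, sup_eq_left, hI₀, Ideal.map_le_iff_le_comap]
      refine hK.trans (Ideal.span_le.mpr ?_)
      rintro _ ⟨i, rfl⟩
      show algebraMap R L (X i) ∈ IsLocalRing.maximalIdeal L
      rw [← hmax]
      exact Ideal.subset_span ⟨i, rfl⟩
    let eL : 𝔮.ResidueField ≃+* L' ⧸ m.map (algebraMap R' L') :=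
      (Ideal.quotEquivOfEq hq₀k.symm).trans (RingHom.quotientKerEquivOfSurjective hq₀)
    refine H9Smooth.indSmooth_of_equiv (RingEquiv.ofBijective c₀ hc₀) eL (fun c => ?_)
      (indSmooth_field k 𝔮.ResidueField)
    show q₀ (algebraMap k L c) = _
    rw [IsScalarTower.algebraMap_apply k R L, IsScalarTower.algebraMap_apply R Λ L]
    rfl
  have hdim : ringKrullDim L' = 0 := by
    haveI : IsLocalRing L' := IsLocalization.AtPrime.isLocalRing L' 𝔮'
    haveI : Ring.KrullDimLE 0 L' := Ring.krullDimLE_zero_iff.mpr fun P hP => by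
        haveI := hP
        have hle' : IsLocalRing.maximalIdeal L' ≤ P := by
          rw [← IsLocalization.AtPrime.map_eq_maximalIdeal 𝔮' L']
          refine le_trans (le_of_eq ((Ideal.map_map _ _).trans ?_)) (?_ : (IsLocalRing.maximalIdeal L).map
            (Ideal.Quotient.mk (I₀.map (algebraMap Λ L))) ≤ P)
          · rw [show (algebraMap Λ' L').comp (Ideal.Quotient.mk I₀) =
              (Ideal.Quotient.mk (I₀.map (algebraMap Λ L))).comp (algebraMap Λ L) from rfl]
            exact (Ideal.map_map _ _).symm.trans (congrArg (Ideal.map _) Localization.AtPrime.map_eq_maximalIdeal)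
          rw [← hmax, Ideal.map_span, Ideal.span_le]
          rintro _ ⟨_, ⟨i, rfl⟩, rfl⟩
          refine hP.mem_of_pow_mem e ?_
          rw [← map_pow, ← map_pow, Ideal.Quotient.eq_zero_iff_mem.mpr
            (hI₀ ▸ Ideal.mem_map_of_mem (algebraMap R L) (hKe i))]
          exact zero_mem _
        exact le_antisymm hle' (IsLocalRing.le_maximalIdeal hP.ne_top) ▸ IsLocalRing.maximalIdeal.isMaximal L'
    exact ringKrullDimZero_iff_ringKrullDim_eq_zero.mp inferInstance
  exact resolvable_of_indSmooth_local (L := L') φ 𝔮' hle hind hdim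

set_option maxHeartbeats 800000 in
/-- Resolution when the local ring is regular with separable residue field. -/
theorem resolvable_separable {k A Λ : Type u} [Field k] [CommRing A]
    [Algebra k A] [Algebra.FinitePresentation k A] [CommRing Λ] [Algebra k Λ] [IsNoetherianRing Λ]
    (φ : A →ₐ[k] Λ) (𝔮 : Ideal Λ) [𝔮.IsPrime] (hmin : 𝔮 ∈ (Smoothing.singRad k φ).minimalPrimes)
    [IsRegularLocalRing (Localization.AtPrime 𝔮)]
    [Algebra.IsGeometricallyReduced k 𝔮.ResidueField] : Smoothing.Resolvable k φ 𝔮 := by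
  classical
  let L := Localization.AtPrime 𝔮
  haveI : IsNoetherianRing A := Algebra.FiniteType.isNoetherianRing k A
  obtain ⟨s, a, ha⟩ := Submodule.fg_iff_exists_fin_generating_family.mp
    (IsNoetherian.noetherian (Smoothing.singularIdeal k A))
  let I := (Smoothing.singularIdeal k A).map φ
  have hIspan : I = Ideal.span (Set.range fun j => φ (a j)) := by
    show (Smoothing.singularIdeal k A).map φ = _
    rw [← ha, Ideal.map_span, ← Set.range_comp]
    rfl
  obtain ⟨n, hn, hpow⟩ : ∃ n, 0 < n ∧
      (𝔮 ^ n).map (algebraMap Λ L) ≤ I.map (algebraMap Λ L) := by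
    have hrad : (I.map (algebraMap Λ L)).radical = IsLocalRing.maximalIdeal L := by
      refine le_antisymm ((Ideal.IsPrime.isRadical inferInstance).radical_le_iff.mpr ?_) ?_
      · rw [← Localization.AtPrime.map_eq_maximalIdeal]
        exact Ideal.map_mono (Ideal.le_radical.trans hmin.1.2)
      · rw [Ideal.radical_eq_sInf]
        refine le_sInf fun P hP => ?_
        obtain ⟨hIP, hPprime⟩ := hP
        haveI := hPprime
        have h1 : Smoothing.singRad k φ ≤ P.comap (algebraMap Λ L) := by
          refine (Ideal.IsPrime.isRadical inferInstance).radical_le_iff.mpr ?_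
          exact Ideal.map_le_iff_le_comap.mp hIP
        have h2 : P.comap (algebraMap Λ L) ≤ 𝔮 := by
          intro x hx
          exact (IsLocalization.AtPrime.to_map_mem_maximal_iff L 𝔮 x).mp
            (IsLocalRing.le_maximalIdeal hPprime.ne_top hx)
        have h3 := hmin.2 ⟨inferInstance, h1⟩ h2
        rw [← Localization.AtPrime.map_eq_maximalIdeal, Ideal.map_le_iff_le_comap]
        exact h3
    obtain ⟨n, hn⟩ := Ideal.exists_radical_pow_le_of_fg _ (IsNoetherian.noetherian (I.map (algebraMap Λ L)).radical)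
    refine ⟨n + 1, Nat.succ_pos _, ?_⟩
    rw [Ideal.map_pow, Localization.AtPrime.map_eq_maximalIdeal, ← hrad]
    exact (Ideal.pow_le_pow_right (Nat.le_succ n)).trans hn
  obtain ⟨d, hd⟩ : ∃ d : ℕ, ringKrullDim L = d :=
    ⟨_, ((isRegularLocalRing_iff L).mp inferInstance).symm⟩
  obtain ⟨M, B, _, _, _, _, hM, hBfp, hstd, γ, hγ, hspec⟩ :=
    exists_standard_model (k := k) n d hn a (fun j => ha.le (Ideal.subset_span ⟨j, rfl⟩))
  haveI := hBfp
  obtain ⟨π, hπmax, hπI, hπann⟩ := exists_parameters I 𝔮 n (8 * M) d hn (by omega) hpow hd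
  have hlam : ∀ i, ∃ lam : Fin s → Λ, π i ^ n = ∑ j, lam j * φ (a j) := fun i => by
    obtain ⟨c, hc⟩ := Ideal.mem_span_range_iff_exists_fun.mp (hIspan.le (hπI i))
    exact ⟨c, hc.symm⟩
  choose lam hlam using hlam
  obtain ⟨φB₀, hφB₁, hφB₂⟩ := hspec Λ φ π lam hlam
  let R := MvPolynomial (Fin d) k
  letI : Algebra R Λ := (aeval π).toRingHom.toAlgebra
  haveI : IsScalarTower k R Λ := IsScalarTower.of_algebraMap_eq fun c => ((aeval π).commutes c).symm
  let φB : B →ₐ[R] Λ := { φB₀ with commutes' := fun p => hφB₁ p }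
  have hsingle : Smoothing.singRad k φ ≤ Smoothing.singRad R φB := by
    refine (Ideal.radical_isRadical _).radical_le_iff.mpr ?_
    rw [← ha, Ideal.map_span, Ideal.span_le]
    rintro _ ⟨_, ⟨j, rfl⟩, rfl⟩
    rw [← hφB₂]
    exact Ideal.le_radical (Ideal.mem_map_of_mem φB (hγ j))
  suffices Smoothing.Resolvable R φB 𝔮 by
    obtain ⟨D, _, _, hD, g, h, hgh, hle, hnle⟩ := this
    haveI := hD
    letI : Algebra k D := ((algebraMap R D).comp (algebraMap k R)).toAlgebra
    haveI : IsScalarTower k R D := IsScalarTower.of_algebraMap_eq' rfl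
    haveI : Algebra.Smooth k R := ⟨inferInstance, inferInstance⟩
    have hDle : Smoothing.singRad R h ≤ Smoothing.singRad k (h.restrictScalars k) :=
      Ideal.radical_mono (Ideal.map_mono (singularIdeal_le_of_smooth (k := k) (R := R)))
    refine ⟨D, inferInstance, inferInstance, Algebra.FinitePresentation.trans k R D,
      (g.restrictScalars k).comp γ, h.restrictScalars k, AlgHom.ext fun x => ?_,
      hsingle.trans (hle.trans hDle), fun hc => hnle (hDle.trans hc)⟩
    show h (g (γ x)) = φ x
    rw [← hφB₂, ← AlgHom.comp_apply h g, hgh]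
    rfl
  by_cases hle : Smoothing.singRad R φB ≤ 𝔮
  swap
  · exact ⟨B, inferInstance, inferInstance, hBfp, AlgHom.id R B, φB, φB.comp_id, le_rfl, hle⟩
  -- the elements
  let P : Fin (d + 1) → R := Fin.snoc (fun i => X i ^ M) 0
  have hP1 : ∀ i : Fin d, P i.castSucc = X i ^ M := fun i => Fin.snoc_castSucc (α := fun _ => R) _ _ i
  have hP2 : P (Fin.last d) = 0 := Fin.snoc_last (α := fun _ => R) _ _
  have hXπ : ∀ i, algebraMap R Λ (X i) = π i := fun i => aeval_X π i
  have hrange : ∀ i : Fin d, (Set.range fun j : {j : Fin (d + 1) // (j : ℕ) < (i.castSucc : ℕ)} => P j ^ 8) =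
      (fun j => (X j : R) ^ (8 * M)) '' {j : Fin d | (j : ℕ) < (i : ℕ)} := fun i => by
    ext y
    constructor
    · rintro ⟨⟨j, hj⟩, rfl⟩
      obtain ⟨j, rfl⟩ : ∃ j' : Fin d, j'.castSucc = j :=
        ⟨⟨j, by have : (j : ℕ) < i := hj; omega⟩, Fin.ext rfl⟩
      exact ⟨j, hj, by show X j ^ (8 * M) = P j.castSucc ^ 8; rw [hP1, ← pow_mul, mul_comm]⟩
    · rintro ⟨j, hj, rfl⟩
      exact ⟨⟨j.castSucc, hj⟩, by show P j.castSucc ^ 8 = X j ^ (8 * M); rw [hP1, ← pow_mul, mul_comm]⟩
  let K : Ideal R := Ideal.span (Set.range fun i => P i ^ 8)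
  haveI : Algebra.FinitePresentation (R ⧸ K) (B ⧸ K.map (algebraMap R B)) := finitePresentation_quotient K
  let φK : (B ⧸ K.map (algebraMap R B)) →ₐ[R ⧸ K] (Λ ⧸ K.map (algebraMap R Λ)) :=
    { Ideal.Quotient.lift (K.map (algebraMap R B))
        ((Ideal.Quotient.mk (K.map (algebraMap R Λ))).comp φB.toRingHom) fun x hx => by
          refine Ideal.Quotient.eq_zero_iff_mem.mpr ?_
          have := Ideal.mem_map_of_mem φB.toRingHom hx
          rwa [Ideal.map_map, AlgHom.toRingHom_eq_coe, AlgHom.comp_algebraMap] at this with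
      commutes' := fun x => by
        obtain ⟨r, rfl⟩ := Ideal.Quotient.mk_surjective x
        show Ideal.Quotient.mk (K.map (algebraMap R Λ)) (φB (algebraMap R B r)) = _
        rw [φB.commutes]
        rfl }
  refine S6822.result φB 𝔮 (Nat.succ_pos d) P (fun i => ?_) (fun i => ?_) (fun i => ?_) (fun i => ?_) K rfl φK
    (fun x => rfl) ?_
  · induction i using Fin.lastCases with
    | last => rw [hP2, map_zero]; exact zero_mem _
    | cast i =>
      rw [hP1, map_pow, hXπ]
      refine Ideal.pow_mem_of_mem _ ?_ M hM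
      refine (IsLocalization.AtPrime.to_map_mem_maximal_iff L 𝔮 _).mp ?_
      rw [← hπmax]
      exact Ideal.subset_span ⟨i, rfl⟩
  · induction i using Fin.lastCases with
    | last => intro x _; rw [hP2, map_zero, zero_mul]
    | cast i =>
      intro x hx
      obtain ⟨p, rfl⟩ := Ideal.Quotient.mk_surjective x
      rw [← map_pow, ← map_mul, Ideal.Quotient.eq_zero_iff_mem, hrange, hP1, ← pow_mul] at hx
      rw [← map_mul, Ideal.Quotient.eq_zero_iff_mem, hrange, hP1]
      exact Ideal.mul_mem_left _ _ (mul_X_pow_cancel i _ _ {j : Fin d | (j : ℕ) < (i : ℕ)} (lt_irrefl (i : ℕ)) p hx)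
  · induction i using Fin.lastCases with
    | last => intro x _; rw [hP2, map_zero, map_zero, zero_mul]
    | cast i =>
      intro x hx
      obtain ⟨l, rfl⟩ := Ideal.Quotient.mk_surjective x
      have hJ : (Set.range fun j : {j : Fin (d + 1) // (j : ℕ) < (i.castSucc : ℕ)} => algebraMap R Λ (P j) ^ 8) =
          Set.range fun j : {j : Fin d // (j : ℕ) < (i : ℕ)} => π j ^ (8 * M) := by
        have := congrArg (fun S => algebraMap R Λ '' S) (hrange i)
        simp only [← Set.range_comp, Set.image_image, map_pow, Function.comp_def, hXπ] at this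
        rw [this, Set.image_eq_range]
        rfl
      rw [← map_pow, ← map_mul, Ideal.Quotient.eq_zero_iff_mem, hJ, hP1, map_pow, hXπ, ← pow_mul] at hx
      rw [← map_mul, Ideal.Quotient.eq_zero_iff_mem, hJ, hP1, map_pow, hXπ]
      have hdesc : ∀ (m : ℕ) (y : Λ), π i ^ (m + 1) * y ∈ Ideal.span (Set.range fun j :
          {j : Fin d // (j : ℕ) < (i : ℕ)} => π j ^ (8 * M)) → π i * y ∈ Ideal.span (Set.range fun j :
          {j : Fin d // (j : ℕ) < (i : ℕ)} => π j ^ (8 * M)) := by
        intro m
        induction m with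
        | zero => intro y hm; rwa [zero_add, pow_one] at hm
        | succ m ihm =>
          intro y hm
          refine hπann i y ?_
          rw [pow_two, mul_assoc]
          exact ihm (π i * y) (by rwa [← mul_assoc, ← pow_succ])
      obtain ⟨M', rfl⟩ : ∃ M', M = M' + 1 := ⟨M - 1, by omega⟩
      rw [pow_succ, mul_assoc]
      refine Ideal.mul_mem_left _ _ (hdesc ((M' + 1) * 2 - 1) l ?_)
      rwa [show (M' + 1) * 2 - 1 + 1 = (M' + 1) * 2 by omega]
  · induction i using Fin.lastCases with
    | last => rw [hP2, map_zero]; exact isStrictlyStandard_zero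
    | cast i => rw [hP1]; exact hstd i
  · refine resolvable_monomial 𝔮 hd (show Ideal.span (Set.range fun i : Fin d => algebraMap R L (X i)) = _ from ?_)
      K (Ideal.span_le.mpr ?_) (8 * M) (fun i => (?_ : (X i : R) ^ (8 * M) ∈ K)) φK
    · rw [← hπmax]
      refine congrArg Ideal.span (congrArg Set.range (funext fun i => ?_))
      rw [IsScalarTower.algebraMap_apply R Λ L, hXπ]
    · rintro _ ⟨i, rfl⟩
      induction i using Fin.lastCases with
      | last => simp only [hP2, SetLike.mem_coe]; rw [zero_pow (by norm_num)]; exact zero_mem _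
      | cast i =>
        simp only [hP1, SetLike.mem_coe]
        exact Ideal.pow_mem_of_mem _ (Ideal.pow_mem_of_mem _ (Ideal.subset_span (Set.mem_range_self i)) M hM) 8 (by norm_num)
    · refine Ideal.subset_span ⟨i.castSucc, ?_⟩
      show P i.castSucc ^ 8 = X i ^ (8 * M)
      rw [hP1, ← pow_mul, mul_comm]

end Groth.Agent.H9Popescu
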