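import Groth.Agent.H9Popescu.StablyFree
import Groth.Agent.H9Popescu.DesingularizeRel
import Groth.Agent.H9Popescu.ResolveMinimal
import Mathlib.RingTheory.MvPolynomial.Ideal

/-!
# The model over a polynomial ring
-/

set_option linter.style.haveILetI false

universe u

open MvPolynomial

namespace Groth.Agent.H9Popescu

/-- The variables together with the coefficients. -/
abbrev ModelPoly (A : Type u) [CommRing A] (d s : ℕ) : Type u := MvPolynomial (Fin d ⊕ (Fin d × Fin s)) A

/-- The equations `xᵢ ^ n = ∑ aⱼ zᵢⱼ`. -/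
noncomputable def modelRel {A : Type u} [CommRing A] (n d : ℕ) {s : ℕ} (a : Fin s → A) (i : Fin d) :
    ModelPoly A d s :=
  X (Sum.inl i) ^ n - ∑ j, C (a j) * X (Sum.inr (i, j))

/-- The algebra of the model. -/
abbrev ModelAlg {A : Type u} [CommRing A] (n d : ℕ) {s : ℕ} (a : Fin s → A) : Type u :=
  ModelPoly A d s ⧸ Ideal.span (Set.range (modelRel n d a))

variable {k A : Type u} [CommRing k] [CommRing A] [Algebra k A]

/-- The structure map of the model over the polynomial ring. -/
noncomputable def modelStruct (n d : ℕ) {s : ℕ} (a : Fin s → A) :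
    MvPolynomial (Fin d) k →ₐ[k] ModelAlg n d a :=
  aeval fun i => Ideal.Quotient.mk _ (X (Sum.inl i))

theorem exists_model_spec {Λ : Type u} [CommRing Λ] [Algebra k Λ] (n d : ℕ) {s : ℕ} (a : Fin s → A)
    (φ : A →ₐ[k] Λ) (π : Fin d → Λ) (lam : Fin d → Fin s → Λ) (h : ∀ i, π i ^ n = ∑ j, lam i j * φ (a j)) :
    ∃ φ' : ModelAlg n d a →+* Λ, (∀ p, φ' (modelStruct (k := k) n d a p) = aeval π p) ∧
      ∀ x, φ' (algebraMap A (ModelAlg n d a) x) = φ x := by
  classical
  let e : ModelPoly A d s →+* Λ := eval₂Hom φ.toRingHom (Sum.elim π fun ij => lam ij.1 ij.2)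
  let φ' : ModelAlg n d a →+* Λ := Ideal.Quotient.lift _ e fun x hx => by
    refine (Ideal.span_le.mpr ?_ : Ideal.span (Set.range (modelRel n d a)) ≤ RingHom.ker e) hx
    rintro _ ⟨i, rfl⟩
    simp only [SetLike.mem_coe, RingHom.mem_ker, modelRel, e, map_sub, map_pow, map_sum, map_mul, eval₂Hom_C,
      eval₂Hom_X', Sum.elim_inl, Sum.elim_inr, h, sub_eq_zero]
    exact Finset.sum_congr rfl fun j _ => mul_comm _ _
  refine ⟨φ', fun p => ?_, fun x => eval₂Hom_C _ _ x⟩
  refine DFunLike.congr_fun (show φ'.comp (modelStruct (k := k) n d a).toRingHom = (aeval π).toRingHom from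
    MvPolynomial.ringHom_ext (fun c => ?_) fun i => ?_) p
  · show φ' (modelStruct (k := k) n d a (C c)) = aeval π (C c)
    rw [← MvPolynomial.algebraMap_eq, AlgHom.commutes, AlgHom.commutes]
    show e (C (algebraMap k A c)) = _
    rw [eval₂Hom_C]
    exact φ.commutes c
  · show φ' (modelStruct (k := k) n d a (X i)) = aeval π (X i)
    rw [modelStruct, aeval_X, aeval_X]
    exact eval₂Hom_X' _ _ _

/-- Where some `aⱼ` is invertible and `A` is smooth the model is smooth over the polynomial ring. -/
theorem isSmoothAt_model (n d : ℕ) {s : ℕ} (a : Fin s → A)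
    (Q : Ideal (ModelAlg n d a)) [Q.IsPrime] (j₀ : Fin s) (hj : algebraMap A (ModelAlg n d a) (a j₀) ∉ Q)
    (hA : Algebra.IsSmoothAt k (Q.under A)) :
    letI := (modelStruct (k := k) n d a).toRingHom.toAlgebra
    Algebra.IsSmoothAt (MvPolynomial (Fin d) k) Q := by
  classical
  letI := (modelStruct (k := k) n d a).toRingHom.toAlgebra
  haveI : Algebra.FormallySmooth k (Localization.AtPrime (Q.under A)) := hA
  refine Algebra.FormallySmooth.of_comp_surjective fun B _ _ I hI f => ?_
  let L := Localization.AtPrime Q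
  let AP := Localization.AtPrime (Q.under A)
  letI : Algebra k B := ((algebraMap (MvPolynomial (Fin d) k) B).comp C).toAlgebra
  haveI : IsScalarTower k (MvPolynomial (Fin d) k) B := IsScalarTower.of_algebraMap_eq' rfl
  have hu : ∀ x : (Q.under A).primeCompl, IsUnit (algebraMap A L x) := fun x => by
    rw [IsScalarTower.algebraMap_apply A (ModelAlg n d a) L]
    exact IsLocalization.map_units L (⟨algebraMap A _ x, x.2⟩ : Q.primeCompl)
  let ρ : AP →+* L := IsLocalization.lift hu
  have hρ : ∀ x, ρ (algebraMap A AP x) = algebraMap A L x := fun x => IsLocalization.lift_eq _ x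
  have hstr : ∀ p, f (algebraMap (ModelAlg n d a) L (modelStruct (k := k) n d a p)) =
      Ideal.Quotient.mk I (algebraMap (MvPolynomial (Fin d) k) B p) := fun p => f.commutes p
  let g : AP →ₐ[k] B ⧸ I :=
    { f.toRingHom.comp ρ with
      commutes' := fun c => by
        show f (ρ (algebraMap k AP c)) = _
        rw [IsScalarTower.algebraMap_apply k A AP, hρ, IsScalarTower.algebraMap_apply A (ModelAlg n d a) L,
          ← IsScalarTower.algebraMap_apply k A, ← (modelStruct (k := k) n d a).commutes c, hstr]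
        rfl }
  obtain ⟨ψ, hψ⟩ := Algebra.FormallySmooth.exists_lift I ⟨2, hI⟩ g
  have hψ' : ∀ x, Ideal.Quotient.mk I (ψ (algebraMap A AP x)) = f (algebraMap A L x) := fun x => by
    rw [← hρ]; exact DFunLike.congr_fun hψ _
  let ψA : A →+* B := ψ.toRingHom.comp (algebraMap A AP)
  obtain ⟨v, hv⟩ : IsUnit (ψA (a j₀)) :=
    (IsLocalization.map_units AP (⟨a j₀, hj⟩ : (Q.under A).primeCompl)).map ψ
  let xB : Fin d → B := fun i => algebraMap (MvPolynomial (Fin d) k) B (X i)
  let mk₀ : ModelPoly A d s → L := fun p => algebraMap (ModelAlg n d a) L (Ideal.Quotient.mk _ p)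
  choose b hb using fun ij : Fin d × Fin s => Ideal.Quotient.mk_surjective (I := I) (f (mk₀ (X (Sum.inr ij))))
  let ε : Fin d → B := fun i => xB i ^ n - ∑ j, ψA (a j) * b (i, j)
  have hε : ∀ i, ε i ∈ I := fun i => by
    rw [← Ideal.Quotient.eq_zero_iff_mem]
    have h0 : mk₀ (modelRel n d a i) = 0 := by
      show algebraMap _ L (Ideal.Quotient.mk _ _) = 0
      have hm : modelRel n d a i ∈ Ideal.span (Set.range (modelRel n d a)) := Ideal.subset_span ⟨i, rfl⟩
      rw [Ideal.Quotient.eq_zero_iff_mem.mpr hm, map_zero]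
    have h1 := congrArg f h0
    simp only [mk₀, modelRel, map_sub, map_pow, map_sum, map_mul, map_zero] at h1
    simp only [ε, xB, ψA, map_sub, map_pow, map_sum, map_mul, RingHom.comp_apply, AlgHom.toRingHom_eq_coe,
      RingHom.coe_coe, hψ', hb, ← hstr]
    rw [show modelStruct (k := k) n d a (X i) = Ideal.Quotient.mk _ (X (Sum.inl i)) from aeval_X _ _]
    exact h1
  let z : Fin d × Fin s → B := fun ij => b ij + if ij.2 = j₀ then (↑v⁻¹ : B) * ε ij.1 else 0
  have hz : ∀ i, ∑ j, ψA (a j) * z (i, j) = xB i ^ n := fun i => by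
    simp only [z, mul_add, Finset.sum_add_distrib, mul_ite, mul_zero, Finset.sum_ite_eq', Finset.mem_univ, if_true]
    rw [← hv, Units.mul_inv_cancel_left]
    simp only [ε]
    ring
  let e : ModelPoly A d s →+* B := eval₂Hom ψA (Sum.elim xB z)
  let l₀ : ModelAlg n d a →+* B := Ideal.Quotient.lift _ e fun x hx => by
    refine (Ideal.span_le.mpr ?_ : Ideal.span (Set.range (modelRel n d a)) ≤ RingHom.ker e) hx
    rintro _ ⟨i, rfl⟩
    simp only [SetLike.mem_coe, RingHom.mem_ker, modelRel, e, map_sub, map_pow, map_sum, map_mul, eval₂Hom_C,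
      eval₂Hom_X', Sum.elim_inl, Sum.elim_inr, hz, sub_self]
  have hl₀ : (Ideal.Quotient.mk I).comp l₀ = f.toRingHom.comp (algebraMap (ModelAlg n d a) L) := by
    refine Ideal.Quotient.ringHom_ext (MvPolynomial.ringHom_ext (fun x => ?_) fun o => ?_)
    · show Ideal.Quotient.mk I (e (C x)) = _
      rw [eval₂Hom_C]
      show Ideal.Quotient.mk I (ψ (algebraMap A AP x)) = _
      rw [hψ']
      rfl
    · show Ideal.Quotient.mk I (e (X o)) = f (mk₀ (X o))
      rw [eval₂Hom_X']
      rcases o with i | ij
      · rw [Sum.elim_inl]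
        show Ideal.Quotient.mk I (algebraMap (MvPolynomial (Fin d) k) B (X i)) = _
        rw [← hstr, show modelStruct (k := k) n d a (X i) = Ideal.Quotient.mk _ (X (Sum.inl i)) from aeval_X _ _]
      · rw [Sum.elim_inr]
        show Ideal.Quotient.mk I (b ij + _) = _
        rw [map_add, hb, show Ideal.Quotient.mk I (if ij.2 = j₀ then (↑v⁻¹ : B) * ε ij.1 else 0) = 0 from ?_, add_zero]
        split_ifs
        · exact Ideal.Quotient.eq_zero_iff_mem.mpr (Ideal.mul_mem_left _ _ (hε _))
        · exact map_zero _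
  have hlu : ∀ x : Q.primeCompl, IsUnit (l₀ x) := fun x => by
    refine (IsNilpotent.isUnit_quotient_mk_iff ⟨2, hI⟩).mp ?_
    rw [← RingHom.comp_apply, hl₀]
    exact (IsLocalization.map_units L x).map f
  let l : L →+* B := IsLocalization.lift hlu
  have hl : ∀ x, l (algebraMap (ModelAlg n d a) L x) = l₀ x := fun x => IsLocalization.lift_eq _ x
  refine ⟨{ l with commutes' := fun p => ?_ }, AlgHom.coe_ringHom_injective
    (IsLocalization.ringHom_ext Q.primeCompl (RingHom.ext fun x => ?_))⟩
  · show l (algebraMap (ModelAlg n d a) L (modelStruct (k := k) n d a p)) = _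
    rw [hl]
    refine DFunLike.congr_fun (show l₀.comp (modelStruct (k := k) n d a).toRingHom =
      algebraMap (MvPolynomial (Fin d) k) B from MvPolynomial.ringHom_ext (fun c => ?_) fun i => ?_) p
    · show l₀ (modelStruct (k := k) n d a (C c)) = _
      rw [← MvPolynomial.algebraMap_eq, AlgHom.commutes]
      show e (C (algebraMap k A c)) = _
      rw [eval₂Hom_C]
      show ψ (algebraMap A AP (algebraMap k A c)) = _
      rw [← IsScalarTower.algebraMap_apply, AlgHom.commutes]
      rfl
    · show l₀ (modelStruct (k := k) n d a (X i)) = _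
      rw [modelStruct, aeval_X]
      exact eval₂Hom_X' _ _ _
  · show Ideal.Quotient.mk I (l (algebraMap _ L x)) = f (algebraMap _ L x)
    rw [hl]
    exact DFunLike.congr_fun hl₀ x

/-- The standard model over `k[x₁, …, x_d]`. -/
theorem exists_standard_model [IsNoetherianRing k] [Algebra.FinitePresentation k A] (n d : ℕ) (hn : 0 < n) {s : ℕ}
    (a : Fin s → A) (ha : ∀ j, a j ∈ Smoothing.singularIdeal k A) :
    ∃ (M : ℕ) (B : Type u) (_ : CommRing B) (_ : Algebra (MvPolynomial (Fin d) k) B) (_ : Algebra k B)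
      (_ : IsScalarTower k (MvPolynomial (Fin d) k) B),
      0 < M ∧ Algebra.FinitePresentation (MvPolynomial (Fin d) k) B ∧
      (∀ i, Smoothing.IsStrictlyStandard (MvPolynomial (Fin d) k) B
        (algebraMap (MvPolynomial (Fin d) k) B (X i ^ M))) ∧
      ∃ γ : A →ₐ[k] B, (∀ j, γ (a j) ∈ Smoothing.singularIdeal (MvPolynomial (Fin d) k) B) ∧
        ∀ (Λ : Type u) [CommRing Λ] [Algebra k Λ] (φ : A →ₐ[k] Λ) (π : Fin d → Λ) (lam : Fin d → Fin s → Λ),
          (∀ i, π i ^ n = ∑ j, lam i j * φ (a j)) →
            ∃ φB : B →+* Λ, (∀ p, φB (algebraMap (MvPolynomial (Fin d) k) B p) = aeval π p) ∧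
              ∀ x, φB (γ x) = φ x := by
  classical
  let R := MvPolynomial (Fin d) k
  let A' := ModelAlg n d a
  letI : Algebra R A' := (modelStruct (k := k) n d a).toRingHom.toAlgebra
  haveI : IsScalarTower k R A' := IsScalarTower.of_algebraMap_eq fun c => ((modelStruct (k := k) n d a).commutes c).symm
  haveI : IsNoetherianRing A := Algebra.FiniteType.isNoetherianRing k A
  haveI : Algebra.FinitePresentation A A' :=
    Algebra.FinitePresentation.quotient (Submodule.fg_span (Set.finite_range _))
  haveI : Algebra.FiniteType k A' := Algebra.FiniteType.trans (R := k) (S := A) inferInstance inferInstance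
  haveI : Algebra.FiniteType R A' := Algebra.FiniteType.of_restrictScalars_finiteType k R A'
  haveI : Algebra.FinitePresentation R A' := Algebra.FinitePresentation.of_finiteType.mp inferInstance
  obtain ⟨N, φ₀, hφ₀, hfg⟩ := Algebra.FinitePresentation.out (R := R) (A := A')
  obtain ⟨m, f, hf⟩ := Submodule.fg_iff_exists_fin_generating_family.mp hfg
  have hker : RingHom.ker φ₀ = Ideal.span (Set.range f) := hf.symm
  let B := FreeAlg φ₀ f
  haveI : Algebra.FiniteType R B := Algebra.FiniteType.trans (R := R) (S := A') inferInstance inferInstance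
  haveI hB : Algebra.FinitePresentation R B := Algebra.FinitePresentation.of_finiteType.mp inferInstance
  haveI : IsScalarTower k R B := IsScalarTower.of_algebraMap_eq (R := k) (S := R) (A := B) fun c => by
    have h1 : algebraMap k B c = algebraMap A' B (algebraMap k A' c) := IsScalarTower.algebraMap_apply k A' B c
    have h2 : algebraMap R B (algebraMap k R c) = algebraMap A' B (algebraMap R A' (algebraMap k R c)) :=
      IsScalarTower.algebraMap_apply R A' B _
    rw [h1, h2, ← IsScalarTower.algebraMap_apply k R A']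
  -- the smooth locus
  have hsm : ∀ (Q : Ideal A') [Q.IsPrime] (j : Fin s), algebraMap A A' (a j) ∉ Q → Algebra.IsSmoothAt R Q := by
    intro Q _ j hj
    refine isSmoothAt_model n d a Q j hj ?_
    have h := ha j
    rw [Smoothing.singularIdeal, PrimeSpectrum.mem_vanishingIdeal] at h
    by_contra hns
    exact hj (h ⟨Q.under A, inferInstance⟩ hns)
  have hgood : ∀ b : A', (∀ (Q : Ideal A') [Q.IsPrime], b ∉ Q → ∃ j, algebraMap A A' (a j) ∉ Q) →
      Algebra.FormallySmooth R (Localization.Away b) := fun b hb =>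
    Algebra.basicOpen_subset_smoothLocus_iff.mp fun Q hQ => by
      obtain ⟨j, hj⟩ := hb Q.asIdeal hQ
      exact hsm Q.asIdeal j hj
  have hxpow : ∀ i, ∃ e₀ : ℕ, ∀ e, e₀ ≤ e →
      Smoothing.IsStrictlyStandard R B (algebraMap A' B (algebraMap R A' (X i)) ^ e) := fun i => by
    haveI : Algebra.FormallySmooth R (Localization.Away (algebraMap R A' (X i))) := hgood _ fun Q _ hQ => by
      by_contra hc
      push Not at hc
      refine hQ (Ideal.IsPrime.mem_of_pow_mem inferInstance n ?_)
      have h0 : (Ideal.Quotient.mk (Ideal.span (Set.range (modelRel n d a))) (modelRel n d a i)) = 0 :=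
        Ideal.Quotient.eq_zero_iff_mem.mpr (Ideal.subset_span ⟨i, rfl⟩)
      simp only [modelRel, map_sub, map_pow, map_sum, map_mul, sub_eq_zero] at h0
      rw [show algebraMap R A' (X i) = Ideal.Quotient.mk _ (X (Sum.inl i)) from aeval_X _ _, h0]
      exact sum_mem fun j _ => Ideal.mul_mem_right _ _ (hc j)
    haveI := formallySmooth_freeAlg φ₀ hφ₀ hker (algebraMap R A' (X i))
    obtain ⟨b⟩ := free_kaehler_freeAlg φ₀ hφ₀ hker (algebraMap R A' (X i))
    let L := Localization.Away (algebraMap A' B (algebraMap R A' (X i)))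
    let e : (Ω[L⁄R] × (Fin 0 → L)) ≃ₗ[L] (Fin N → L) :=
      { toFun := fun w => b.equivFun w.1
        map_add' := fun w w' => map_add b.equivFun w.1 w'.1
        map_smul' := fun r w => map_smul b.equivFun r w.1
        invFun := fun v => (b.equivFun.symm v, 0)
        left_inv := fun w => Prod.ext (b.equivFun.symm_apply_apply _) (Subsingleton.elim _ _)
        right_inv := fun v => b.equivFun.apply_symm_apply _ }
    exact exists_pow_isStrictlyStandard _ 0 N e
  choose e₀ he₀ using hxpow
  let M := (∑ i, e₀ i) + 1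
  obtain ⟨ρ⟩ := nonempty_freeAlg_retraction φ₀ f
  let γ : A →ₐ[k] B := (IsScalarTower.toAlgHom k A' B).comp (IsScalarTower.toAlgHom k A A')
  refine ⟨M, B, inferInstance, inferInstance, inferInstance, inferInstance, Nat.succ_pos _, hB, fun i => ?_, γ,
    fun j => ?_, fun Λ _ _ φ π lam h => ?_⟩
  · rw [IsScalarTower.algebraMap_apply R A' B, map_pow, map_pow]
    exact he₀ i M ((Finset.single_le_sum (fun i _ => Nat.zero_le (e₀ i)) (Finset.mem_univ i)).trans (Nat.le_succ _))
  · haveI : Algebra.FormallySmooth R (Localization.Away (algebraMap A A' (a j))) :=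
      hgood _ fun Q _ hQ => ⟨j, hQ⟩
    have h := formallySmooth_freeAlg φ₀ hφ₀ hker (algebraMap A A' (a j))
    exact H9Smooth.mem_singularIdeal (Algebra.basicOpen_subset_smoothLocus_iff.mpr h)
  · obtain ⟨φ', hφ'₁, hφ'₂⟩ := exists_model_spec n d a φ π lam h
    refine ⟨φ'.comp ρ.toRingHom, fun p => ?_, fun x => ?_⟩
    · show φ' (ρ (algebraMap R B p)) = _
      rw [IsScalarTower.algebraMap_apply R A' B, AlgHom.commutes]
      exact hφ'₁ p
    · show φ' (ρ (algebraMap A' B (algebraMap A A' x))) = _
      rw [AlgHom.commutes]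
      exact hφ'₂ x

end Groth.Agent.H9Popescu
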