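import Groth.Agent.H9Smooth.Standard
import Mathlib.RingTheory.Flat.EquationalCriterion

/-!
# Smooth points from minors; torsion in flat algebras
-/

set_option linter.style.haveILetI false

universe u

open MvPolynomial

namespace Groth.Agent.H9Popescu

variable {R A : Type u} [CommRing R] [CommRing A] [Algebra R A] {n m c : ℕ}

/-- An invertible minor whose equations generate after inverting `r` gives a standard element. -/
theorem isElementaryStandard_of_minor_mul (f : Fin m → MvPolynomial (Fin n) R)
    (φ : MvPolynomial (Fin n) R →ₐ[R] A) (hφ : Function.Surjective φ)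
    (hker : RingHom.ker φ = Ideal.span (Set.range f)) (rows : Fin c ↪ Fin m) (cols : Fin c ↪ Fin n)
    (r : MvPolynomial (Fin n) R) (hr : ∀ j, r * f j ∈ Ideal.span (Set.range (f ∘ rows)) ⊔ Ideal.span (Set.range f) ^ 2) :
    Smoothing.IsElementaryStandard R A (φ r * φ (Smoothing.jacobianMinor f rows cols)) := by
  refine H9Smooth.isElementaryStandard_of_minor f φ hφ hker rows cols _ ⟨_, rfl⟩ fun a₁ ha₁ j _ => ?_
  have h1 : a₁ - r * Smoothing.jacobianMinor f rows cols ∈ Ideal.span (Set.range f) := by
    rw [← hker, RingHom.mem_ker, map_sub, ha₁, map_mul, sub_self]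
  have h2 : a₁ * f j = (a₁ - r * Smoothing.jacobianMinor f rows cols) * f j +
      Smoothing.jacobianMinor f rows cols * (r * f j) := by ring
  rw [h2]
  refine add_mem (Ideal.mem_sup_right ?_) (Ideal.mul_mem_left _ _ (hr j))
  rw [pow_two]
  exact Ideal.mul_mem_mul h1 (Ideal.subset_span ⟨j, rfl⟩)

/-- An invertible minor whose equations generate after inverting `r` gives a smooth point. -/
theorem isSmoothAt_of_minor (f : Fin m → MvPolynomial (Fin n) R)
    (φ : MvPolynomial (Fin n) R →ₐ[R] A) (hφ : Function.Surjective φ)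
    (hker : RingHom.ker φ = Ideal.span (Set.range f)) (rows : Fin c ↪ Fin m) (cols : Fin c ↪ Fin n)
    (r : MvPolynomial (Fin n) R) (hr : ∀ j, r * f j ∈ Ideal.span (Set.range (f ∘ rows)) ⊔ Ideal.span (Set.range f) ^ 2)
    (Q : Ideal A) [hQ : Q.IsPrime] (hrQ : φ r ∉ Q) (hμ : φ (Smoothing.jacobianMinor f rows cols) ∉ Q) :
    Algebra.IsSmoothAt R Q := by
  have h := H9Smooth.basicOpen_subset_smoothLocus_of_isElementaryStandard
    (isElementaryStandard_of_minor_mul f φ hφ hker rows cols r hr)
  exact h (show (⟨Q, hQ⟩ : PrimeSpectrum A) ∈ PrimeSpectrum.basicOpen _ from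
    fun hmem => (hQ.mem_or_mem hmem).elim hrQ hμ)

/-- Smoothness of the principal open given by a standard element. -/
theorem smooth_away_of_minor (f : Fin m → MvPolynomial (Fin n) R)
    (φ : MvPolynomial (Fin n) R →ₐ[R] A) (hφ : Function.Surjective φ)
    (hker : RingHom.ker φ = Ideal.span (Set.range f)) (rows : Fin c ↪ Fin m) (cols : Fin c ↪ Fin n)
    (r : MvPolynomial (Fin n) R) (hr : ∀ j, r * f j ∈ Ideal.span (Set.range (f ∘ rows)) ⊔ Ideal.span (Set.range f) ^ 2) :
    Algebra.Smooth R (Localization.Away (φ r * φ (Smoothing.jacobianMinor f rows cols))) :=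
  H9Smooth.smooth_away_of_isStrictlyStandard
    (H9Smooth.isStrictlyStandard_of_isElementaryStandard (isElementaryStandard_of_minor_mul f φ hφ hker rows cols r hr))

/-- Annihilators in the base pass to flat modules. -/
theorem smul_eq_zero_of_flat {M : Type u} [AddCommGroup M] [Module R M] [Module.Flat R M] {a b : R}
    (h : ∀ r : R, a * r = 0 → b * r = 0) (x : M) (hx : a • x = 0) : b • x = 0 := by
  have hs : ∑ i : Fin 1, (fun _ : Fin 1 => a) i • (fun _ : Fin 1 => x) i = 0 := by simp [hx]
  obtain ⟨κ, c, y, hy, hc⟩ := Module.Flat.isTrivialRelation_of_sum_smul_eq_zero hs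
  have hy0 := hy 0
  simp only at hy0
  rw [hy0, Finset.smul_sum]
  refine Finset.sum_eq_zero fun j _ => ?_
  have := hc j
  simp only [Fin.sum_univ_one] at this
  rw [smul_smul, h _ this, zero_smul]

end Groth.Agent.H9Popescu
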