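import Groth.Agent.H9Popescu.FreeKaehler
import Groth.Agent.H9Smooth.Standard

/-!
# Powers of elements with stably free differentials are strictly standard
-/

set_option linter.style.haveILetI false

universe u

open MvPolynomial

namespace Groth.Agent.H9Popescu

variable {R A : Type u} [CommRing R] [CommRing A] [Algebra R A]

/-- The determinant of a product lies in the ideal of the maximal minors of the left factor. -/
theorem det_mul_mem_span {S : Type u} [CommRing S] {c n : ℕ} (M : Matrix (Fin c) (Fin n) S)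
    (N : Matrix (Fin n) (Fin c) S) :
    (M * N).det ∈ Ideal.span (Set.range fun cols : Fin c → Fin n => (M.submatrix id cols).det) := by
  classical
  rw [← Matrix.det_transpose]
  have h : (M * N).transpose = fun k => ∑ l, N l k • M.transpose l := by
    funext k j
    simp [Matrix.mul_apply, Finset.sum_apply, mul_comm]
  rw [h]
  show (Matrix.detRowAlternating (n := Fin c) (R := S)).toMultilinearMap
    (fun k => ∑ l, N l k • M.transpose l) ∈ _
  rw [MultilinearMap.map_sum]
  refine sum_mem fun cols _ => ?_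
  rw [MultilinearMap.map_smul_univ, smul_eq_mul]
  refine Ideal.mul_mem_left _ _ (Ideal.subset_span ⟨cols, ?_⟩)
  show (M.submatrix id cols).det = Matrix.det (fun k => M.transpose (cols k))
  rw [← Matrix.det_transpose]
  rfl

/-- Adding variables which are set to zero. -/
theorem ker_aeval_append {n q m : ℕ} (φ : MvPolynomial (Fin n) R →ₐ[R] A) (f : Fin m → MvPolynomial (Fin n) R)
    (hker : RingHom.ker φ = Ideal.span (Set.range f)) (φ' : MvPolynomial (Fin (n + q)) R →ₐ[R] A)
    (h₁ : ∀ i, φ' (X (Fin.castAdd q i)) = φ (X i)) (h₂ : ∀ i, φ' (X (Fin.natAdd n i)) = 0) :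
    RingHom.ker φ' = Ideal.span (Set.range
      (Fin.append (fun j => rename (Fin.castAdd q) (f j)) fun i => X (Fin.natAdd n i))) := by
  set S := Ideal.span (Set.range
      (Fin.append (fun j => rename (Fin.castAdd q) (f j)) fun i => X (Fin.natAdd n i)))
  have hren : ∀ p, φ' (rename (Fin.castAdd q) p) = φ p := fun p =>
    DFunLike.congr_fun (show φ'.comp (rename (Fin.castAdd q)) = φ from MvPolynomial.algHom_ext fun i => by simp [h₁]) p
  refine le_antisymm (fun p hp => ?_) (Ideal.span_le.mpr ?_)
  · let ret : MvPolynomial (Fin (n + q)) R →ₐ[R] MvPolynomial (Fin n) R := aeval (Fin.append X fun _ => 0)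
    have hdiff : (Ideal.Quotient.mkₐ R S).comp ((rename (Fin.castAdd q)).comp ret) = Ideal.Quotient.mkₐ R S := by
      refine MvPolynomial.algHom_ext fun i => ?_
      induction i using Fin.addCases with
      | left i => simp [ret, Fin.append_left]
      | right i =>
        simp only [ret, AlgHom.comp_apply, aeval_X, Fin.append_right, map_zero]
        have hm : (X (Fin.natAdd n i) : MvPolynomial (Fin (n + q)) R) ∈ S :=
          Ideal.subset_span ⟨Fin.natAdd m i, Fin.append_right ..⟩
        exact (Ideal.Quotient.eq_zero_iff_mem.mpr hm).symm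
    have h3 : φ (ret p) = φ' p := by
      refine DFunLike.congr_fun (show φ.comp ret = φ' from MvPolynomial.algHom_ext fun i => ?_) p
      induction i using Fin.addCases with
      | left i => simp [ret, Fin.append_left, h₁]
      | right i => simp [ret, Fin.append_right, h₂]
    rw [RingHom.mem_ker] at hp
    obtain ⟨c, hc⟩ := Ideal.mem_span_range_iff_exists_fun.mp (hker.le (h3.trans hp))
    have h4 : Ideal.Quotient.mk S (rename (Fin.castAdd q) (ret p)) = Ideal.Quotient.mk S p := DFunLike.congr_fun hdiff p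
    refine Ideal.Quotient.eq_zero_iff_mem.mp (h4.symm.trans (Ideal.Quotient.eq_zero_iff_mem.mpr ?_))
    rw [← hc, map_sum]
    refine sum_mem fun j _ => ?_
    rw [map_mul]
    exact Ideal.mul_mem_left _ _ (Ideal.subset_span ⟨Fin.castAdd q j, Fin.append_left ..⟩)
  · rintro _ ⟨j, rfl⟩
    induction j using Fin.addCases with
    | left j =>
      rw [Fin.append_left, SetLike.mem_coe, RingHom.mem_ker]
      exact (hren _).trans (hker.ge (Ideal.subset_span ⟨j, rfl⟩))
    | right i => rw [Fin.append_right, SetLike.mem_coe, RingHom.mem_ker]; exact h₂ i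

theorem pderiv_rename_castAdd {n q : ℕ} (p : MvPolynomial (Fin n) R) :
    (∀ l, pderiv (Fin.castAdd q l) (rename (Fin.castAdd q) p) = rename (Fin.castAdd q) (pderiv l p)) ∧
      ∀ i, pderiv (Fin.natAdd n i) (rename (Fin.castAdd q) p) = 0 := by
  classical
  induction p using MvPolynomial.induction_on with
  | C r => simp
  | add p p' hp hp' => simp [hp.1, hp.2, hp'.1, hp'.2]
  | mul_X p i hp =>
    refine ⟨fun l => ?_, fun j => ?_⟩
    · rw [map_mul, rename_X, pderiv_mul, pderiv_mul, hp.1, map_add, map_mul, map_mul, rename_X]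
      congr 2
      by_cases h : l = i
      · subst h; simp
      · rw [pderiv_X_of_ne (Ne.symm h), pderiv_X_of_ne ((Fin.castAdd_injective n q).ne (Ne.symm h)), map_zero]
    · rw [map_mul, rename_X, pderiv_mul, hp.2, pderiv_X_of_ne (fun h => by
        have := congrArg Fin.val h
        simp at this
        omega)]
      simp

/-- Multiples of strictly standard elements are strictly standard. -/
theorem isStrictlyStandard_mul {a b : A} (h : Smoothing.IsStrictlyStandard R A a) :
    Smoothing.IsStrictlyStandard R A (b * a) := by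
  obtain ⟨P, hs, hk⟩ := h
  refine ⟨P, Ideal.mul_mem_left _ _ hs, fun x hx j hj => ?_⟩
  obtain ⟨b₀, rfl⟩ := P.surj b
  obtain ⟨a₀, rfl⟩ := P.surj a
  rw [show x * P.rel j = b₀ * (a₀ * P.rel j) + (x - b₀ * a₀) * P.rel j by ring]
  refine add_mem (Ideal.mul_mem_left _ _ (hk a₀ rfl j hj)) (Ideal.mem_sup_right ?_)
  rw [pow_two]
  refine Ideal.mul_mem_mul (P.ker_eq.le ?_) (Ideal.subset_span ⟨j, rfl⟩)
  show P.hom (x - b₀ * a₀) = 0
  rw [map_sub, map_mul, hx, sub_self]

/-- Zero is strictly standard. -/
theorem isStrictlyStandard_zero [Algebra.FinitePresentation R A] : Smoothing.IsStrictlyStandard R A 0 := by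
  obtain ⟨n, φ, hφ, hfg⟩ := Algebra.FinitePresentation.out (R := R) (A := A)
  obtain ⟨m, f, hf⟩ := Submodule.fg_iff_exists_fin_generating_family.mp hfg
  refine ⟨⟨n, m, 0, Nat.zero_le _, Nat.zero_le _, f, φ, hφ, hf.symm⟩, zero_mem _, fun x hx j _ => Ideal.mem_sup_right ?_⟩
  rw [pow_two]
  exact Ideal.mul_mem_mul (hf.ge hx) (Ideal.subset_span ⟨j, rfl⟩)

/-- A power of an element with stably free differentials is strictly standard. -/
theorem exists_pow_isStrictlyStandard [Algebra.FinitePresentation R A] (a : A)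
    [Algebra.FormallySmooth R (Localization.Away a)]
    (p q : ℕ) (e : (Ω[Localization.Away a⁄R] × (Fin p → Localization.Away a)) ≃ₗ[Localization.Away a]
      (Fin q → Localization.Away a)) :
    ∃ e₀ : ℕ, ∀ n : ℕ, e₀ ≤ n → Smoothing.IsStrictlyStandard R A (a ^ n) := by
  classical
  suffices ∃ e₀ : ℕ, Smoothing.IsStrictlyStandard R A (a ^ e₀) by
    obtain ⟨e₀, h⟩ := this
    refine ⟨e₀, fun k hk => ?_⟩
    rw [← Nat.sub_add_cancel hk, pow_add]
    exact isStrictlyStandard_mul h
  obtain ⟨n, φ, hφ, hfg⟩ := Algebra.FinitePresentation.out (R := R) (A := A)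
  obtain ⟨m, f, hf⟩ := Submodule.fg_iff_exists_fin_generating_family.mp hfg
  have hker : RingHom.ker φ = Ideal.span (Set.range f) := hf.symm
  obtain ⟨G, hG, hG'⟩ := exists_ginv φ f hφ hker a
  let L := Localization.Away a
  let J : Fin m → Fin n → L := fun j l => algebraMap A L (φ (pderiv l (f j)))
  let Em : Fin n → Fin n → L := fun i l => ∑ j, G i j * J j l
  let D := KaehlerDifferential.D R L
  let xL : Fin n → L := fun l => algebraMap A L (φ (X l))
  let π : (Fin n → L) →ₗ[L] Ω[L⁄R] := Fintype.linearCombination L fun l => D (xL l)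
  have hπ : ∀ v, π v = ∑ l, v l • D (xL l) := fun v => Fintype.linearCombination_apply L _ v
  have hJx : ∀ j, π (J j) = 0 := fun j => by
    rw [hπ]
    have h2 := H9Smooth.derivation_aeval D ((IsScalarTower.toAlgHom R A L).comp φ) (f j)
    rw [AlgHom.comp_apply, show φ (f j) = 0 from hker.ge (Ideal.subset_span ⟨j, rfl⟩), map_zero, map_zero] at h2
    exact h2.symm
  have hEx : ∀ i, π (Em i) = 0 := fun i => by
    rw [hπ]
    exact sum_comp_smul_eq_zero (fun j => G i j) J _ fun j => by rw [← hπ]; exact hJx j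
  have hJE : ∀ j l, ∑ i, J j i * Em i l = J j l := fun j l => by
    have h := congrFun (congrFun hG j) l
    simp only [Matrix.mul_apply, Matrix.map_apply, Finset.sum_mul] at h
    simp only [← Finset.sum_mul] at h
    exact (sum_mul_comp (J j) (fun k i => G k i) (fun i => J i l)).symm.trans h
  have hdual : ∀ k, ∃ ℓ : Ω[L⁄R] →ₗ[L] L, ∀ l, ℓ (D (xL l)) = (if l = k then 1 else 0) - Em l k := fun k => by
    obtain ⟨ψ, hψ₁, hψ₂⟩ := exists_derivationHom φ f hφ hker (IsScalarTower.toAlgHom R A L)
      (fun l => (if l = k then 1 else 0) - Em l k) fun j => by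
        show ∑ l, J j l * _ = 0
        simp only [mul_sub, Finset.sum_sub_distrib, hJE, mul_ite, mul_one, mul_zero, Finset.sum_ite_eq',
          Finset.mem_univ, if_true, sub_self]
    have hu : ∀ s : Submonoid.powers a, IsUnit (ψ s) := fun s => by
      rw [TrivSqZeroExt.isUnit_iff_isUnit_fst, hψ₁]
      exact IsLocalization.map_units L s
    let Ψ : L →ₐ[R] TrivSqZeroExt L L := IsLocalization.liftAlgHom hu
    have hΨ : ∀ x, Ψ (algebraMap A L x) = ψ x := fun x => IsLocalization.lift_eq _ x
    have hfst : ∀ z, (Ψ z).fst = z := fun z => by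
      refine DFunLike.congr_fun (show (TrivSqZeroExt.fstHom R L L).comp Ψ = AlgHom.id R L from
        IsLocalization.algHom_ext (Submonoid.powers a) (AlgHom.ext fun x => ?_)) z
      show (Ψ (algebraMap A L x)).fst = algebraMap A L x
      rw [hΨ, hψ₁]
      rfl
    let dd : Derivation R L L := Derivation.mk'
      ((TrivSqZeroExt.sndHom L L).restrictScalars R ∘ₗ Ψ.toLinearMap) fun p q => by
        show (Ψ (p * q)).snd = _
        rw [map_mul, TrivSqZeroExt.snd_mul, hfst, hfst]
        simp [mul_comm]
    refine ⟨dd.liftKaehlerDifferential, fun l => ?_⟩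
    rw [Derivation.liftKaehlerDifferential_comp_D]
    show (Ψ (algebraMap A L (φ (X l)))).snd = _
    rw [hΨ, hψ₂]
  choose ℓ₀ hℓ₀ using hdual
  let ℓ : Ω[L⁄R] →ₗ[L] (Fin n → L) := LinearMap.pi ℓ₀
  let Ev : (Fin n → L) →ₗ[L] (Fin n → L) := Fintype.linearCombination L Em
  have hEv : ∀ v k, Ev v k = ∑ l, v l * Em l k := fun v k => by
    simp [Ev, Fintype.linearCombination_apply, Finset.sum_apply]
  have hℓπ : ∀ v, ℓ (π v) = v - Ev v := fun v => funext fun k => by
    show ℓ₀ k (π v) = _
    rw [hπ, map_sum, Pi.sub_apply, hEv]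
    simp only [map_smul, hℓ₀, smul_eq_mul, mul_sub, Finset.sum_sub_distrib, mul_ite, mul_one, mul_zero,
      Finset.sum_ite_eq', Finset.mem_univ, if_true]
  have hπEv : ∀ v, π (Ev v) = 0 := fun v => by
    simp only [Ev, Fintype.linearCombination_apply, map_sum, map_smul, hEx, smul_zero, Finset.sum_const_zero]
  have hEvJ : ∀ j, Ev (J j) = J j := fun j => funext fun k => by rw [hEv]; exact hJE j k
  have hEvE : ∀ v, Ev (Ev v) = Ev v := fun v => by
    have : ∀ i, Ev (Em i) = Em i := fun i => by
      have : Em i = ∑ j, G i j • J j := by funext l; simp [Em, Finset.sum_apply]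
      rw [this, map_sum]
      simp only [map_smul, hEvJ]
    simp only [Ev, Fintype.linearCombination_apply, map_sum, map_smul] at this ⊢
    simp only [this]
  -- the extended presentation
  let φ' : MvPolynomial (Fin (n + q)) R →ₐ[R] A := aeval (Fin.append (fun i => φ (X i)) fun _ => 0)
  have h₁ : ∀ i, φ' (X (Fin.castAdd q i)) = φ (X i) := fun i => by simp [φ', Fin.append_left]
  have h₂ : ∀ i, φ' (X (Fin.natAdd n i)) = 0 := fun i => by simp [φ', Fin.append_right]
  have hren : ∀ p, φ' (rename (Fin.castAdd q) p) = φ p := fun p =>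
    DFunLike.congr_fun (show φ'.comp (rename (Fin.castAdd q)) = φ from MvPolynomial.algHom_ext fun i => by simp [h₁]) p
  have hφ' : Function.Surjective φ' := fun x => by
    obtain ⟨p, rfl⟩ := hφ x
    exact ⟨_, hren p⟩
  let f' : Fin (m + q) → MvPolynomial (Fin (n + q)) R :=
    Fin.append (fun j => rename (Fin.castAdd q) (f j)) fun i => X (Fin.natAdd n i)
  have hker' : RingHom.ker φ' = Ideal.span (Set.range f') := ker_aeval_append φ f hker φ' h₁ h₂
  have hfk : ∀ j, φ' (f' j) = 0 := fun j => hker'.ge (Ideal.subset_span ⟨j, rfl⟩)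
  let gr : MvPolynomial (Fin (n + q)) R → Fin (n + q) → L := fun P l => algebraMap A L (φ' (pderiv l P))
  have hgr₁ : ∀ j, gr (f' (Fin.castAdd q j)) = Fin.append (J j) 0 := fun j => funext fun l => by
    have hf' : f' (Fin.castAdd q j) = rename (Fin.castAdd q) (f j) := Fin.append_left ..
    induction l using Fin.addCases with
    | left l => simp only [gr, hf', (pderiv_rename_castAdd (f j)).1, hren, Fin.append_left]; rfl
    | right i => simp [gr, hf', (pderiv_rename_castAdd (f j)).2, Fin.append_right]
  have hgr₂ : ∀ i, gr (f' (Fin.natAdd m i)) = Fin.append 0 (Pi.single i 1) := fun i => funext fun l => by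
    have hf' : f' (Fin.natAdd m i) = X (Fin.natAdd n i) := Fin.append_right ..
    induction l using Fin.addCases with
    | left l =>
      simp only [gr, hf', Fin.append_left, Pi.zero_apply]
      rw [pderiv_X_of_ne (fun h => by
        have := congrArg Fin.val h
        simp at this
        omega), map_zero, map_zero]
    | right k =>
      simp only [gr, hf', Fin.append_right]
      by_cases h : k = i
      · subst h; simp
      · rw [pderiv_X_of_ne ((Fin.natAdd_injective q n).ne (Ne.symm h)), map_zero, map_zero, Pi.single_eq_of_ne h]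
  -- the basis
  let Φ : (Fin (n + p) → L) →ₗ[L] ((Fin n → L) × (Fin q → L)) :=
    LinearMap.prod (Ev ∘ₗ LinearMap.funLeft L L (Fin.castAdd p))
      (e.toLinearMap ∘ₗ LinearMap.prod (π ∘ₗ LinearMap.funLeft L L (Fin.castAdd p)) (LinearMap.funLeft L L (Fin.natAdd n)))
  let inv : (Fin n → L) × (Fin q → L) → (Fin (n + p) → L) := fun uz =>
    Fin.append (Ev uz.1 + ℓ (e.symm uz.2).1) (e.symm uz.2).2
  have hπℓ : ∀ ω, π (ℓ ω) = ω := fun ω => by
    have hspan : Submodule.span L (Set.range fun l => D (xL l)) = ⊤ := by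
      rw [eq_top_iff, ← KaehlerDifferential.span_range_derivation, Submodule.span_le]
      rintro _ ⟨z, rfl⟩
      obtain ⟨⟨x', s⟩, hs⟩ := IsLocalization.surj (Submonoid.powers a) z
      have hA : ∀ x : A, D (algebraMap A L x) ∈ Submodule.span L (Set.range fun l => D (xL l)) := fun x => by
        obtain ⟨P, rfl⟩ := hφ x
        rw [show algebraMap A L (φ P) = ((IsScalarTower.toAlgHom R A L).comp φ) P from rfl,
          H9Smooth.derivation_aeval D]
        exact sum_mem fun i _ => Submodule.smul_mem _ _ (Submodule.subset_span ⟨i, rfl⟩)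
      have h5 := congrArg D hs
      rw [Derivation.leibniz] at h5
      have h6 : algebraMap A L s • D z ∈ Submodule.span L (Set.range fun l => D (xL l)) := by
        rw [eq_sub_of_add_eq' h5]
        exact sub_mem (hA _) (Submodule.smul_mem _ _ (hA _))
      obtain ⟨w, hw⟩ := IsLocalization.map_units L s
      have := Submodule.smul_mem _ (↑w⁻¹ : L) h6
      rwa [smul_smul, ← hw, Units.inv_mul, one_smul] at this
    have hω : ω ∈ Submodule.span L (Set.range fun l => D (xL l)) := hspan ▸ Submodule.mem_top
    obtain ⟨c, rfl⟩ := (Submodule.mem_span_range_iff_exists_fun L).mp hω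
    rw [← hπ, hℓπ, map_sub, hπEv, sub_zero]
  have hEvℓ : ∀ ω, Ev (ℓ ω) = 0 := fun ω => by
    have := hℓπ (ℓ ω)
    rw [hπℓ] at this
    exact sub_eq_self.mp this.symm
  have hΦinv : ∀ uz, Φ (inv uz) = (Ev uz.1, uz.2) := fun uz => by
    have e1 : (LinearMap.funLeft L L (Fin.castAdd p)) (inv uz) = Ev uz.1 + ℓ (e.symm uz.2).1 :=
      funext fun i => Fin.append_left ..
    have e2 : (LinearMap.funLeft L L (Fin.natAdd n)) (inv uz) = (e.symm uz.2).2 :=
      funext fun i => Fin.append_right ..
    refine Prod.ext ?_ ?_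
    · show Ev (LinearMap.funLeft L L (Fin.castAdd p) (inv uz)) = _
      rw [e1, map_add, hEvℓ, add_zero, hEvE]
    · show e (π (LinearMap.funLeft L L (Fin.castAdd p) (inv uz)), LinearMap.funLeft L L (Fin.natAdd n) (inv uz)) = _
      rw [e1, e2, map_add, hπℓ, hπEv, zero_add]
      exact e.apply_symm_apply _
  have hinvΦ : ∀ v, inv (Φ v) = v := fun v => funext fun i => by
    have h : e.symm (Φ v).2 = (π (LinearMap.funLeft L L (Fin.castAdd p) v), LinearMap.funLeft L L (Fin.natAdd n) v) :=
      e.symm_apply_apply _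
    induction i using Fin.addCases with
    | left i =>
      simp only [inv, Fin.append_left, h, Pi.add_apply]
      show Ev (Ev _) i + ℓ (π _) i = _
      rw [hEvE, hℓπ, Pi.sub_apply, add_sub_cancel]
      rfl
    | right i =>
      simp only [inv, Fin.append_right, h]
      rfl
  let row : Fin (n + p) → Fin (n + q) → L := fun i => Fin.append (Φ (Pi.single i 1)).1 (Φ (Pi.single i 1)).2
  have hcomb : ∀ c, (fun l => ∑ i, c i * row i l) = Fin.append (Φ c).1 (Φ c).2 := fun c => funext fun l => by
    have hc : Φ c = ∑ i, c i • Φ (Pi.single i 1) := by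
      conv_lhs => rw [pi_eq_sum_univ' c]
      simp only [map_sum, map_smul]
    induction l using Fin.addCases with
    | left l => simp [row, hc, Fin.append_left, Prod.fst_sum, Finset.sum_apply]
    | right l => simp [row, hc, Fin.append_right, Prod.snd_sum, Finset.sum_apply]
  -- right inverse
  let splitAt : (Fin (n + q) → L) → (Fin n → L) × (Fin q → L) := fun v =>
    (fun i => v (Fin.castAdd q i), fun i => v (Fin.natAdd n i))
  let invLin : (Fin (n + q) → L) →ₗ[L] (Fin (n + p) → L) :=
    { toFun := fun v => inv (splitAt v)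
      map_add' := fun v w => by
        have h1 : splitAt (v + w) = splitAt v + splitAt w := rfl
        funext i
        induction i using Fin.addCases with
        | left i => simp [inv, h1, Fin.append_left, add_add_add_comm]
        | right i => simp [inv, h1, Fin.append_right]
      map_smul' := fun r v => by
        have h1 : splitAt (r • v) = r • splitAt v := rfl
        funext i
        induction i using Fin.addCases with
        | left i => simp [inv, h1, Fin.append_left, mul_add]
        | right i => simp [inv, h1, Fin.append_right] }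
  have hsplit : ∀ u : (Fin n → L) × (Fin q → L), splitAt (Fin.append u.1 u.2) = u := fun u => by
    simp [splitAt, Fin.append_left, Fin.append_right]
  let Bm : Matrix (Fin (n + p)) (Fin (n + q)) L := Matrix.of row
  let Rm : Matrix (Fin (n + q)) (Fin (n + p)) L := Matrix.of fun l k => invLin (Pi.single l 1) k
  have hBR : Bm * Rm = 1 := Matrix.ext fun i k => by
    have h1 : invLin (row i) = Pi.single i 1 := by
      show inv (splitAt (row i)) = _
      rw [hsplit, hinvΦ]
    rw [Matrix.mul_apply, Matrix.one_apply]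
    conv_lhs => simp only [Bm, Rm, Matrix.of_apply]
    have h2 := congrFun (congrArg invLin (pi_eq_sum_univ' (row i))) k
    rw [map_sum, h1, Finset.sum_apply] at h2
    simp only [map_smul, Pi.smul_apply, smul_eq_mul] at h2
    rw [← h2, Pi.single_apply]
    simp only [eq_comm]
  -- membership in the row space
  have hrowspan : ∀ i, ∃ β : Fin (m + q) → L, ∀ l, ∑ j, β j * gr (f' j) l = row i l := fun i => by
    refine ⟨Fin.append (fun j => ∑ l, LinearMap.funLeft L L (Fin.castAdd p) (Pi.single i 1) l * G l j)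
      (Φ (Pi.single i 1)).2, fun l => ?_⟩
    rw [Fin.sum_univ_add]
    simp only [Fin.append_left, Fin.append_right, hgr₁, hgr₂]
    induction l using Fin.addCases with
    | left l =>
      simp only [Fin.append_left, Pi.zero_apply, mul_zero, Finset.sum_const_zero, add_zero, row]
      show _ = Ev _ l
      rw [hEv]
      exact sum_mul_comp _ (fun x j => G x j) (fun j => J j l)
    | right l =>
      simp [row, Fin.append_right, Pi.single_apply]
  choose β hβ using hrowspan
  obtain ⟨⟨_, t, rfl⟩, hb⟩ := IsLocalization.exist_integer_multiples_of_finite (Submonoid.powers a)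
    fun ij : Fin (n + p) × Fin (m + q) => β ij.1 ij.2
  choose β₀ hβ₀ using hb
  choose B₀ hB₀ using fun ij => hφ' (β₀ ij)
  let g : Fin (n + p) → MvPolynomial (Fin (n + q)) R := fun i => ∑ j, B₀ (i, j) * f' j
  have hgk : ∀ i, φ' (g i) = 0 := fun i => by
    simp only [g, map_sum, map_mul, hfk, mul_zero, Finset.sum_const_zero]
  have hgrg : ∀ i l, gr (g i) l = algebraMap A L (a ^ t) * row i l := fun i l => by
    simp only [gr, g, map_sum, pderiv_mul, map_add, map_mul, hfk, mul_zero, zero_add, hB₀]
    rw [← hβ, Finset.mul_sum]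
    refine Finset.sum_congr rfl fun j _ => ?_
    rw [hβ₀ (i, j), Algebra.smul_def, mul_assoc]
  by_cases hcn : n + p ≤ n + q
  swap
  · have hL : Subsingleton L := by
      by_contra hns
      haveI : Nontrivial L := not_subsingleton_iff_nontrivial.mp hns
      refine hcn ?_
      have hinj : Function.Injective Bm.vecMulLinear := fun v w hvw => by
        have h := congrArg (fun r => Matrix.vecMul r Rm) hvw
        simp only [Matrix.vecMulLinear_apply] at h
        rwa [Matrix.vecMul_vecMul, Matrix.vecMul_vecMul, hBR, Matrix.vecMul_one, Matrix.vecMul_one] at h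
      have := LinearMap.finrank_le_finrank_of_injective hinj
      simpa using this
    obtain ⟨⟨_, k, rfl⟩, hk⟩ :=
      (IsLocalization.map_eq_zero_iff (Submonoid.powers a) L 1).mp (Subsingleton.elim _ _)
    refine ⟨k, ?_⟩
    rw [mul_one] at hk
    rw [show a ^ k = 0 from hk]
    exact isStrictlyStandard_zero
  obtain ⟨a₀, ha₀⟩ := hφ' a
  haveI : Algebra.FormallySmooth R (Localization.Away (φ' a₀)) := by rw [ha₀]; infer_instance
  have hfg' : (RingHom.ker φ').FG := ⟨Finset.univ.image f', by simp [hker']⟩
  obtain ⟨N, k, hk, hspl⟩ := H9Smooth.exists_splitting φ' hφ' hfg' a₀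
  have hkills : ∀ j, ∃ M : ℕ, a₀ ^ M * f' j ∈ Ideal.span (Set.range g) ⊔ RingHom.ker φ' ^ 2 := fun j => by
    have hcj : ∃ c : Fin (n + p) → L, ∀ l, ∑ i, c i * row i l = gr (f' j) l := by
      refine ⟨invLin (gr (f' j)), fun l => ?_⟩
      refine (congrFun (hcomb (invLin (gr (f' j)))) l).trans ?_
      rw [show Φ (invLin (gr (f' j))) = _ from hΦinv _]
      induction j using Fin.addCases with
      | left j =>
        rw [hgr₁]
        simp only [splitAt, Fin.append_left, Fin.append_right]
        show Fin.append (Ev (J j)) (fun _ : Fin q => (0 : L)) l = _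
        rw [hEvJ]
        rfl
      | right j =>
        rw [hgr₂]
        simp only [splitAt, Fin.append_left, Fin.append_right]
        show Fin.append (Ev (0 : Fin n → L)) (Pi.single j (1 : L)) l = _
        rw [map_zero]
    obtain ⟨c, hc⟩ := hcj
    obtain ⟨⟨_, s, rfl⟩, hcs⟩ := IsLocalization.exist_integer_multiples_of_finite (Submonoid.powers a) c
    choose c₀ hc₀ using hcs
    choose C₀ hC₀ using fun i => hφ' (c₀ i)
    let P' := a₀ ^ (s + t) * f' j - ∑ i, C₀ i * g i
    have hP : φ' P' = 0 := by
      simp only [P', map_sub, map_mul, hfk, map_sum, hgk, mul_zero, Finset.sum_const_zero, sub_zero]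
    have hPl : ∀ l, algebraMap A L (φ' (pderiv l P')) = 0 := fun l => by
      simp only [P', map_sub, map_sum, pderiv_mul, map_add, map_mul, hfk, hgk, mul_zero, zero_add, map_pow, ha₀,
        hC₀, hc₀]
      show _ * gr (f' j) l - ∑ i, _ * gr (g i) l = 0
      simp only [hgrg, ← hc, Finset.mul_sum, map_pow, Algebra.smul_def]
      rw [Finset.mul_sum, ← Finset.sum_sub_distrib]
      exact Finset.sum_eq_zero fun i _ => by ring
    have hkl : ∀ l, ∃ r, a ^ r * φ' (pderiv l P') = 0 := fun l => by
      obtain ⟨⟨_, r, rfl⟩, hr⟩ := (IsLocalization.map_eq_zero_iff (Submonoid.powers a) L _).mp (hPl l)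
      exact ⟨r, hr⟩
    choose r hr using hkl
    refine ⟨(∑ l, r l) + N + (s + t), ?_⟩
    have hsq : a₀ ^ (∑ l, r l) * (a₀ ^ N * P') ∈ RingHom.ker φ' ^ 2 := by
      rw [show a₀ ^ (∑ l, r l) * (a₀ ^ N * P') = a₀ ^ (∑ l, r l) * (a₀ ^ N * P' - ∑ l, pderiv l P' * k l) +
        ∑ l, (a₀ ^ (∑ l, r l) * pderiv l P') * k l by
        have e1 : ∑ x, a₀ ^ (∑ l, r l) * pderiv x P' * k x = a₀ ^ (∑ l, r l) * ∑ x, pderiv x P' * k x := by
          simp only [Finset.mul_sum, mul_assoc]
        rw [e1]; ring]
      refine add_mem (Ideal.mul_mem_left _ _ (hspl P' hP)) (sum_mem fun l _ => ?_)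
      rw [pow_two]
      refine Ideal.mul_mem_mul ?_ (hk l)
      rw [RingHom.mem_ker, map_mul, map_pow, ha₀]
      obtain ⟨d, hd⟩ := Nat.exists_eq_add_of_le
        (Finset.single_le_sum (fun i _ => Nat.zero_le (r i)) (Finset.mem_univ l))
      rw [hd, pow_add, mul_comm (a ^ r l), mul_assoc, hr, mul_zero]
    rw [show a₀ ^ ((∑ l, r l) + N + (s + t)) * f' j = a₀ ^ (∑ l, r l) * (a₀ ^ N * P') +
      a₀ ^ (∑ l, r l) * a₀ ^ N * ∑ i, C₀ i * g i by simp only [P', pow_add]; ring]
    exact add_mem (Ideal.mem_sup_right hsq) (Ideal.mem_sup_left (Ideal.mul_mem_left _ _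
      (sum_mem fun i _ => Ideal.mul_mem_left _ _ (Ideal.subset_span ⟨i, rfl⟩))))
  choose M hM using hkills
  have hminor : ∃ d, a ^ d ∈ Ideal.span (Set.range fun cols : Fin (n + p) → Fin (n + q) =>
      φ' (Smoothing.jacobianMinor g id cols)) := by
    have h1 : (1 : L) ∈ Ideal.span (Set.range fun cols : Fin (n + p) → Fin (n + q) => (Bm.submatrix id cols).det) := by
      have := det_mul_mem_span Bm Rm
      rwa [hBR, Matrix.det_one] at this
    have h2 : (algebraMap A L (a ^ t)) ^ (n + p) ∈ Ideal.map (algebraMap A L) (Ideal.span (Set.range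
        fun cols : Fin (n + p) → Fin (n + q) => φ' (Smoothing.jacobianMinor g id cols))) := by
      obtain ⟨w, hw⟩ := Ideal.mem_span_range_iff_exists_fun.mp h1
      rw [show (algebraMap A L (a ^ t)) ^ (n + p) = ∑ cols, w cols *
        ((algebraMap A L (a ^ t)) ^ (n + p) * (Bm.submatrix id cols).det) by
        simp only [mul_left_comm (w _), ← Finset.mul_sum, hw, mul_one]]
      refine sum_mem fun cols _ => Ideal.mul_mem_left _ _ ?_
      have h3 : algebraMap A L (φ' (Smoothing.jacobianMinor g id cols)) =
          (algebraMap A L (a ^ t)) ^ (n + p) * (Bm.submatrix id cols).det := by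
        rw [Smoothing.jacobianMinor, AlgHom.map_det, RingHom.map_det]
        rw [← show ((algebraMap A L (a ^ t)) • Bm.submatrix id cols).det =
          (algebraMap A L (a ^ t)) ^ (n + p) * (Bm.submatrix id cols).det by rw [Matrix.det_smul, Fintype.card_fin]]
        congr 1
        ext i k
        exact hgrg i (cols k)
      rw [← h3]
      exact Ideal.mem_map_of_mem _ (Ideal.subset_span ⟨cols, rfl⟩)
    obtain ⟨⟨⟨x, hx⟩, ⟨_, s, rfl⟩⟩, hxs⟩ := (IsLocalization.mem_map_algebraMap_iff (Submonoid.powers a) L).mp h2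
    have h4 : algebraMap A L (a ^ ((t * (n + p)) + s)) = algebraMap A L x := by
      rw [← hxs, pow_add, map_mul, pow_mul, map_pow _ (a ^ t)]
    obtain ⟨⟨_, r, rfl⟩, hr⟩ := (IsLocalization.eq_iff_exists (Submonoid.powers a) L).mp h4
    refine ⟨r + (t * (n + p) + s), ?_⟩
    rw [pow_add]
    show a ^ r * _ ∈ _
    rw [show a ^ r * a ^ (t * (n + p) + s) = a ^ r * x from hr]
    exact Ideal.mul_mem_left _ _ hx
  obtain ⟨d, hd⟩ := hminor
  refine ⟨d + ∑ j, M j, ?_⟩
  let rel : Fin ((n + p) + (m + q)) → MvPolynomial (Fin (n + q)) R := Fin.append g f'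
  have hspanrel : Ideal.span (Set.range rel) = RingHom.ker φ' := by
    refine le_antisymm (Ideal.span_le.mpr ?_) (hker'.le.trans (Ideal.span_mono ?_))
    · rintro _ ⟨j, rfl⟩
      induction j using Fin.addCases with
      | left i => simp only [rel, Fin.append_left]; exact hgk i
      | right j => simp only [rel, Fin.append_right]; exact hfk j
    · rintro _ ⟨j, rfl⟩
      exact ⟨Fin.natAdd _ j, Fin.append_right ..⟩
  refine ⟨⟨n + q, (n + p) + (m + q), n + p, hcn, Nat.le_add_right _ _, rel, φ', hφ', hspanrel.symm⟩, ?_, ?_⟩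
  · rw [pow_add]
    refine Ideal.mul_mem_right _ _ ?_
    convert hd using 3
    funext cols
    show φ' _ = φ' _
    refine congrArg φ' ?_
    simp only [Smoothing.jacobianMinor]
    congr 1
    ext i k
    simp only [Matrix.of_apply, id]
    rw [← Fin.append_left g f' i]
    rfl
  · intro a' ha' j hj
    induction j using Fin.addCases with
    | left i => exact absurd hj (not_le.mpr i.2)
    | right j =>
      show a' * rel (Fin.natAdd (n + p) j) ∈
        Ideal.span (rel '' {j' : Fin ((n + p) + (m + q)) | (j' : ℕ) < n + p}) ⊔ Ideal.span (Set.range rel) ^ 2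
      rw [show rel (Fin.natAdd (n + p) j) = f' j from Fin.append_right ..]
      suffices a' * f' j ∈ Ideal.span (rel '' {j' : Fin ((n + p) + (m + q)) | (j' : ℕ) < n + p}) ⊔
          RingHom.ker φ' ^ 2 from (congrArg (fun K => Ideal.span (rel '' {j' : Fin ((n + p) + (m + q)) | (j' : ℕ) < n + p}) ⊔
            K ^ 2) hspanrel).ge this
      obtain ⟨r, hr⟩ := Nat.exists_eq_add_of_le
        ((Finset.single_le_sum (fun i _ => Nat.zero_le (M i)) (Finset.mem_univ j)).trans (Nat.le_add_left _ d))
      rw [show a' * f' j = (a' - a₀ ^ (d + ∑ j, M j)) * f' j + a₀ ^ r * (a₀ ^ M j * f' j) by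
        rw [hr, pow_add]; ring]
      refine add_mem (Ideal.mem_sup_right ?_) (Ideal.mul_mem_left _ _ ?_)
      · rw [pow_two]
        refine Ideal.mul_mem_mul ?_ (hfk j)
        rw [RingHom.mem_ker, map_sub, map_pow, ha₀]
        exact sub_eq_zero.mpr ha'
      · refine (sup_le_sup (Ideal.span_le.mpr ?_) le_rfl : Ideal.span (Set.range g) ⊔ RingHom.ker φ' ^ 2 ≤ _) (hM j)
        rintro _ ⟨i, rfl⟩
        exact Ideal.subset_span ⟨Fin.castAdd _ i, i.2, Fin.append_left ..⟩

end Groth.Agent.H9Popescu
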